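import Groth.Agent.KRRLam.Gr
import Groth.Prelude.Def_W4bkmilneecrracsp2Inv
import Mathlib.NumberTheory.Bernoulli
import Mathlib.RingTheory.PowerSeries.Exp
import Mathlib.RingTheory.Nilpotent.Exp
import Mathlib.RingTheory.Polynomial.Vieta

/-!
`td(e) · ch(λ_{-1}(e^∨)) = c_top(e)` in the rational graded ring of the γ-filtration.
-/

universe u

open Finset LambdaRing MvPolynomial

namespace Groth.Agent.KRRLam

open Groth.Agent.Lambda

section Universal

variable {m : ℕ}

theorem isSymmetric_sum_subsets {R : Type*} [CommRing R] (F : Finset (Fin m) → MvPolynomial (Fin m) R)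
    (hF : ∀ (σ : Equiv.Perm (Fin m)) (S : Finset (Fin m)), rename σ (F S) = F (S.map σ.toEmbedding)) :
    (∑ S : Finset (Fin m), F S).IsSymmetric := fun σ => by
  rw [map_sum]
  exact Fintype.sum_equiv σ.finsetCongr _ _ fun S => by rw [hF, Equiv.finsetCongr_apply]

/-- the truncated series of `1/(1+X i) - 1` -/
noncomputable def invY (D : ℕ) (i : Fin m) : MvPolynomial (Fin m) ℤ :=
  -X i * ∑ r ∈ range (D + 1), (-X i) ^ r

/-- the `k`-th power sum of the Chern roots of `λ_{-1}` of the dual -/
noncomputable def invPoly (m D k : ℕ) : MvPolynomial (Fin m) ℤ :=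
  ∑ S : Finset (Fin m), (-1) ^ S.card * ((∏ i ∈ S, (1 + invY D i)) - 1) ^ k

/-- its homogeneous part of degree `k` -/
noncomputable def linPoly (m k : ℕ) : MvPolynomial (Fin m) ℤ :=
  ∑ S : Finset (Fin m), (-1) ^ S.card * (-∑ i ∈ S, X i) ^ k

theorem invPoly_symm (m D k : ℕ) : (invPoly m D k).IsSymmetric :=
  isSymmetric_sum_subsets _ fun σ S => by simp [invY, Finset.prod_map, map_prod]

theorem linPoly_symm (m k : ℕ) : (linPoly m k).IsSymmetric :=
  isSymmetric_sum_subsets _ fun σ S => by simp [Finset.sum_map]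

theorem linPoly_homogeneous (m k : ℕ) : (linPoly m k).IsHomogeneous k := by
  refine IsHomogeneous.sum _ _ _ fun S _ => ?_
  have h1 : ((-1 : MvPolynomial (Fin m) ℤ) ^ S.card).IsHomogeneous 0 := by
    simpa [map_pow] using isHomogeneous_C (Fin m) ((-1 : ℤ) ^ S.card)
  have h2 : (-∑ i ∈ S, (X i : MvPolynomial (Fin m) ℤ)).IsHomogeneous 1 :=
    (IsHomogeneous.sum _ _ _ fun i _ => isHomogeneous_X ℤ i).neg
  simpa using h1.mul (h2.pow k)

theorem invPoly_sub_mem (m D k : ℕ) :
    invPoly m D k - linPoly m k ∈ idealOfVars (Fin m) ℤ ^ (k + 1) := by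
  have hX : ∀ i, (X i : MvPolynomial (Fin m) ℤ) ∈ idealOfVars (Fin m) ℤ := fun i =>
    Ideal.subset_span (Set.mem_range_self i)
  have hY : ∀ i, invY D i + X i ∈ idealOfVars (Fin m) ℤ ^ 2 := by
    intro i
    rw [invY, Finset.sum_range_succ', pow_zero,
      show -X i * ((∑ r ∈ range D, (-X i) ^ (r + 1)) + 1) + X i =
        X i * -(∑ r ∈ range D, (-X i : MvPolynomial (Fin m) ℤ) ^ (r + 1)) by ring, pow_two]
    exact Ideal.mul_mem_mul (hX i) (neg_mem (sum_mem fun r _ =>
      Ideal.pow_mem_of_mem _ (neg_mem (hX i)) _ (Nat.succ_pos r)))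
  have hlin : ∀ T : Finset (Fin m), (∏ i ∈ T, (1 + invY D i)) - 1 - -∑ i ∈ T, X i ∈
      idealOfVars (Fin m) ℤ ^ 2 := by
    intro T
    induction T using Finset.induction with
    | empty => simp
    | insert b T hb ih =>
      rw [Finset.prod_insert hb, Finset.sum_insert hb,
        show (1 + invY D b) * ∏ i ∈ T, (1 + invY D i) - 1 - -(X b + ∑ i ∈ T, X i) =
          (1 + invY D b) * ((∏ i ∈ T, (1 + invY D i)) - 1 - -∑ i ∈ T, X i) +
            ((invY D b + X b) - invY D b * ∑ i ∈ T, X i) by ring]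
      refine add_mem (Ideal.mul_mem_left _ _ ih) (sub_mem (hY b) ?_)
      rw [pow_two]
      refine Ideal.mul_mem_mul ?_ (sum_mem fun i _ => hX i)
      exact Ideal.mul_mem_right _ _ (neg_mem (hX b))
  rw [invPoly, linPoly, ← Finset.sum_sub_distrib]
  refine sum_mem fun S _ => ?_
  rw [← mul_sub]
  refine Ideal.mul_mem_left _ _ ?_
  have hw : -∑ i ∈ S, (X i : MvPolynomial (Fin m) ℤ) ∈ idealOfVars (Fin m) ℤ :=
    neg_mem (sum_mem fun i _ => hX i)
  have := prod_sub_prod_mem (idealOfVars (Fin m) ℤ) (univ : Finset (Fin k))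
    (fun _ => (∏ i ∈ S, (1 + invY D i)) - 1) (fun _ => -∑ i ∈ S, (X i : MvPolynomial (Fin m) ℤ))
    (fun _ _ => by simpa using add_mem (Ideal.pow_le_self (by norm_num) (hlin S)) hw)
    (fun _ _ => hw) fun _ _ => hlin S
  simpa using this

theorem component_esymm {R : Type u} [CommRing R] (n : ℕ) (p : MvPolynomial (Fin m) R) :
    aeval (fun i : Fin m => esymm (Fin m) R (i.1 + 1))
        (weightedHomogeneousComponent (fun i : Fin m => i.1 + 1) n p) =
      weightedHomogeneousComponent (fun _ : Fin m => (1 : ℕ)) n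
        (aeval (fun i : Fin m => esymm (Fin m) R (i.1 + 1)) p) := by
  refine component_aeval (w' := fun _ : Fin m => (1 : ℕ)) (fun i => ?_) p n
  rw [esymm_eq_multiset_esymm]
  simpa using isWeightedHomogeneous_esymm (w' := fun _ : Fin m => (1 : ℕ)) (univ : Finset (Fin m))
    (fun a => (X a : MvPolynomial (Fin m) R)) 1
    (fun a _ => isWeightedHomogeneous_X R (fun _ : Fin m => (1 : ℕ)) a) (i.1 + 1)

theorem coeff_eq_zero_of_esymm_mem {R : Type u} [CommRing R] {n : ℕ} (p : MvPolynomial (Fin m) R)
    (hp : aeval (fun i : Fin m => esymm (Fin m) R (i.1 + 1)) p ∈ idealOfVars (Fin m) R ^ n)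
    (a : Fin m →₀ ℕ) (ha : Finsupp.weight (fun i : Fin m => i.1 + 1) a < n) : coeff a p = 0 := by
  have hcomp : weightedHomogeneousComponent (fun i : Fin m => i.1 + 1)
      (Finsupp.weight (fun i : Fin m => i.1 + 1) a) p = 0 := by
    apply aeval_esymm_injective R m
    rw [map_zero, component_esymm]
    ext b
    rw [coeff_weightedHomogeneousComponent, coeff_zero]
    split_ifs with hb
    · refine (mem_pow_idealOfVars_iff' n _).mp hp b ?_
      rw [← hb] at ha
      simpa [Finsupp.weight_apply, Finsupp.sum, Finsupp.degree_apply] using ha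
    · rfl
  have := congrArg (coeff a) hcomp
  rwa [coeff_weightedHomogeneousComponent, if_pos rfl, coeff_zero] at this

theorem exists_linPoly_rep (m k : ℕ) : ∃ R : MvPolynomial (Fin m) ℤ,
    R.IsWeightedHomogeneous (fun i : Fin m => i.1 + 1) k ∧
      aeval (fun i : Fin m => esymm (Fin m) ℤ (i.1 + 1)) R = linPoly m k := by
  obtain ⟨R, hR⟩ := esymmAlgHom_surjective ℤ (σ := Fin m) (n := m) (by simp) ⟨_, linPoly_symm m k⟩
  have hR' : aeval (fun i : Fin m => esymm (Fin m) ℤ (i.1 + 1)) R = linPoly m k := by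
    rw [← esymmAlgHom_apply, hR]
  refine ⟨_, weightedHomogeneousComponent_isWeightedHomogeneous k R, ?_⟩
  have hh : IsWeightedHomogeneous (fun _ : Fin m => (1 : ℕ)) (linPoly m k) k := linPoly_homogeneous m k
  rw [component_esymm, hR', weightedHomogeneousComponent_of_mem hh, if_pos rfl]

theorem esymm_add_replicate_zero {R : Type u} [CommRing R] (s : Multiset R) : ∀ r n : ℕ,
    (s + Multiset.replicate r (0 : R)).esymm n = s.esymm n := by
  intro r n
  induction r with
  | zero => simp
  | succ r ih =>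
    rw [Multiset.replicate_succ, Multiset.add_cons]
    cases n with
    | zero => simp [esymm_zero']
    | succ n => rw [esymm_cons_succ, zero_mul, add_zero, ih]

/-- The Todd polynomial in `m ≤ d` variables. -/
theorem exists_todd_rep {d : ℕ} (m : ℕ) (hmd : m ≤ d) : ∃ T : MvPolynomial (Fin m) ℚ,
    aeval (fun i : Fin m => esymm (Fin m) ℚ (i.1 + 1)) T =
        ∏ i : Fin m, Polynomial.aeval (X i) (KGr.toddTrunc d) ∧
    ∀ (A : Type u) [CommRing A] [Algebra ℚ A] (c : ℕ → A), (∀ i, m < i → c i = 0) →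
      aeval (fun i : Fin d => c (i.1 + 1)) (KGr.toddPoly d) =
        aeval (fun i : Fin m => c (i.1 + 1)) T := by
  obtain ⟨r, rfl⟩ := Nat.exists_eq_add_of_le hmd
  let ψ : MvPolynomial (Fin (m + r)) ℚ →ₐ[ℚ] MvPolynomial (Fin m) ℚ :=
    aeval (Fin.append (X : Fin m → MvPolynomial (Fin m) ℚ) (fun _ : Fin r => 0))
  refine ⟨ψ (KGr.toddPoly (m + r)), ?_, ?_⟩
  · have h1 : aeval (fun i : Fin (m + r) => esymm (Fin (m + r)) ℚ (i.1 + 1))
        (KGr.toddPoly (m + r)) =
        ∏ i : Fin (m + r), Polynomial.aeval (X i) (KGr.toddTrunc (m + r)) := by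
      rw [KGr.toddPoly, ← esymmAlgHom_apply]
      exact congrArg Subtype.val (AlgEquiv.apply_symm_apply
        (esymmAlgEquiv (Fin (m + r)) ℚ (Fintype.card_fin _)) _)
    have hval : (univ : Finset (Fin (m + r))).val.map
        (Fin.append (X : Fin m → MvPolynomial (Fin m) ℚ) (fun _ : Fin r => 0)) =
        (univ : Finset (Fin m)).val.map X + Multiset.replicate r 0 := by
      rw [Fin.univ_val_map, Fin.univ_val_map, List.ofFn_fin_append, List.ofFn_const,
        ← Multiset.coe_add]
      rfl
    have hes : ∀ j, ψ (esymm (Fin (m + r)) ℚ j) = esymm (Fin m) ℚ j := by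
      intro j
      rw [esymm_eq_multiset_esymm, esymm_eq_multiset_esymm]
      refine (map_esymm' ψ.toRingHom _ _).trans ?_
      rw [Multiset.map_map]
      rw [show (ψ.toRingHom ∘ (X : Fin (m + r) → MvPolynomial (Fin (m + r)) ℚ)) =
        Fin.append (X : Fin m → MvPolynomial (Fin m) ℚ) (fun _ : Fin r => 0) from
          funext fun i => aeval_X _ i, hval, esymm_add_replicate_zero]
    have h2 := congrArg ψ h1
    rw [← AlgHom.comp_apply, comp_aeval] at h2
    simp only [hes] at h2
    have h3 : (aeval fun i : Fin m => esymm (Fin m) ℚ (i.1 + 1)).comp ψ =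
        aeval (fun i : Fin (m + r) => esymm (Fin m) ℚ (i.1 + 1)) := by
      refine algHom_ext fun i => ?_
      rw [AlgHom.comp_apply, aeval_X, aeval_X]
      induction i using Fin.addCases with
      | left i => rw [Fin.append_left, aeval_X]; rfl
      | right i =>
        rw [Fin.append_right, map_zero, esymm_eq_multiset_esymm]
        exact (esymm_eq_zero _ (by simp [Fin.val_natAdd] <;> omega)).symm
    rw [← AlgHom.comp_apply, h3, h2, map_prod, Fin.prod_univ_add]
    rw [Finset.prod_eq_one (s := (univ : Finset (Fin r))) (fun i _ => ?_), mul_one]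
    · refine Finset.prod_congr rfl fun i _ => ?_
      rw [← Polynomial.aeval_algHom_apply, aeval_X, Fin.append_left]
    · rw [← Polynomial.aeval_algHom_apply, aeval_X, Fin.append_right,
        ← Polynomial.coeff_zero_eq_aeval_zero']
      simp [KGr.toddTrunc, Polynomial.coeff_X_pow, Finset.sum_range_succ']
  · intro A _ _ c hc
    have h3 : (aeval fun i : Fin m => c (i.1 + 1)).comp ψ =
        aeval (fun i : Fin (m + r) => c (i.1 + 1)) := by
      refine algHom_ext fun i => ?_
      rw [AlgHom.comp_apply, aeval_X, aeval_X]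
      induction i using Fin.addCases with
      | left i => rw [Fin.append_left, aeval_X]; rfl
      | right i => rw [Fin.append_right, map_zero, hc _ (by simp only [Fin.val_natAdd]; omega)]
    rw [← AlgHom.comp_apply, h3]

theorem toddTrunc_mul_sub_dvd (d : ℕ) : (Polynomial.X : Polynomial ℚ) ^ (d + 1) ∣
    KGr.toddTrunc d * (1 - ∑ k ∈ range (d + 1),
      Polynomial.C ((-1 : ℚ) ^ k * (k.factorial : ℚ)⁻¹) * Polynomial.X ^ k) - Polynomial.X := by
  have hPS : bernoulli'PowerSeries ℚ * (1 - PowerSeries.evalNegHom (PowerSeries.exp ℚ)) =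
      PowerSeries.X := by
    linear_combination PowerSeries.evalNegHom (PowerSeries.exp ℚ) *
      bernoulli'PowerSeries_mul_exp_sub_one ℚ +
      (PowerSeries.X - bernoulli'PowerSeries ℚ) * PowerSeries.exp_mul_exp_neg_eq_one (A := ℚ)
  rw [Polynomial.X_pow_dvd_iff]
  intro j hj
  have hB : ∀ a ≤ j, (KGr.toddTrunc d).coeff a = PowerSeries.coeff a (bernoulli'PowerSeries ℚ) := by
    intro a ha
    simp [KGr.toddTrunc, bernoulli'PowerSeries, Polynomial.coeff_X_pow,
      show a < d + 1 by omega]
  have hE : ∀ a ≤ j, (1 - ∑ k ∈ range (d + 1),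
      Polynomial.C ((-1 : ℚ) ^ k * (k.factorial : ℚ)⁻¹) * Polynomial.X ^ k).coeff a =
      PowerSeries.coeff a (1 - PowerSeries.evalNegHom (PowerSeries.exp ℚ)) := by
    intro a ha
    simp only [Polynomial.coeff_sub, Polynomial.finsetSum_coeff, Polynomial.coeff_C_mul,
      Polynomial.coeff_X_pow]
    simp [PowerSeries.evalNegHom, PowerSeries.coeff_rescale, PowerSeries.coeff_exp,
      Polynomial.coeff_one, PowerSeries.coeff_one, show a < d + 1 by omega]
  rw [Polynomial.coeff_sub, Polynomial.coeff_mul,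
    ← Polynomial.coeff_coe, Polynomial.coe_X, sub_eq_zero]
  conv_rhs => rw [← hPS, PowerSeries.coeff_mul]
  refine Finset.sum_congr rfl fun p hp => ?_
  have := Finset.mem_antidiagonal.mp hp
  rw [hB _ (by omega), hE _ (by omega)]

theorem exp_sum {A : Type*} [CommRing A] [Algebra ℚ A] {ι : Type*} (a : ι → A) (S : Finset ι)
    (ha : ∀ i ∈ S, IsNilpotent (a i)) :
    IsNilpotent.exp (∑ i ∈ S, a i) = ∏ i ∈ S, IsNilpotent.exp (a i) := by
  classical
  induction S using Finset.induction with
  | empty => simp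
  | insert b S hb ih =>
    rw [Finset.sum_insert hb, Finset.prod_insert hb,
      IsNilpotent.exp_add_of_commute (Commute.all _ _) (ha b (Finset.mem_insert_self b S))
        (isNilpotent_sum fun i hi => ha i (Finset.mem_insert_of_mem hi)),
      ih fun i hi => ha i (Finset.mem_insert_of_mem hi)]

/-- The key identity `∏ β(X_i) · Σ_k linPoly_k / k! = ∏ X_i` up to degree `d`. -/
theorem todd_mul_linPoly_mem (m d : ℕ) :
    (∏ i : Fin m, Polynomial.aeval (X i) (KGr.toddTrunc d)) *
        ∑ k ∈ range (d + 1), C ((k.factorial : ℚ)⁻¹) * MvPolynomial.map (Int.castRingHom ℚ) (linPoly m k) -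
      ∏ i : Fin m, X i ∈ idealOfVars (Fin m) ℚ ^ (d + 1) := by
  rw [← Ideal.Quotient.eq_zero_iff_mem, map_sub, sub_eq_zero, map_mul, map_sum]
  let π := Ideal.Quotient.mk (idealOfVars (Fin m) ℚ ^ (d + 1))
  have hI : ∀ p ∈ idealOfVars (Fin m) ℚ, π p ^ (d + 1) = 0 := fun p hp => by
    rw [← map_pow, Ideal.Quotient.eq_zero_iff_mem]
    exact Ideal.pow_mem_pow hp _
  have hX : ∀ i, (X i : MvPolynomial (Fin m) ℚ) ∈ idealOfVars (Fin m) ℚ := fun i =>
    Ideal.subset_span (Set.mem_range_self i)
  have hexp : ∀ p ∈ idealOfVars (Fin m) ℚ, IsNilpotent.exp (π p) =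
      ∑ k ∈ range (d + 1), π (C ((k.factorial : ℚ)⁻¹) * p ^ k) := fun p hp => by
    rw [IsNilpotent.exp_eq_sum (hI p hp)]
    exact Finset.sum_congr rfl fun k _ => by rw [← map_pow, ← MvPolynomial.smul_eq_C_mul]; rfl
  have hlin : ∀ k, π (C ((k.factorial : ℚ)⁻¹) * MvPolynomial.map (Int.castRingHom ℚ) (linPoly m k)) =
      ∑ S : Finset (Fin m), π ((-1) ^ S.card) *
        π (C ((k.factorial : ℚ)⁻¹) * (-∑ i ∈ S, X i) ^ k) := fun k => by
    rw [linPoly, map_sum, Finset.mul_sum, map_sum]
    refine Finset.sum_congr rfl fun S _ => ?_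
    rw [← map_mul]
    simp only [map_mul, map_pow, map_neg, map_one, map_sum, MvPolynomial.map_X]
    ring
  have hS : ∑ k ∈ range (d + 1),
      π (C ((k.factorial : ℚ)⁻¹) * MvPolynomial.map (Int.castRingHom ℚ) (linPoly m k)) =
      ∏ i : Fin m, (1 - IsNilpotent.exp (π (-X i))) := by
    simp only [hlin]
    rw [Finset.sum_comm]
    simp only [sub_eq_add_neg, add_comm (1 : _ ⧸ _) _]
    rw [Finset.prod_add]
    refine (Finset.sum_congr (Finset.powerset_univ).symm fun S _ => ?_)
    rw [← Finset.mul_sum, ← hexp _ (neg_mem (sum_mem fun i _ => hX i)), Finset.prod_const_one, mul_one]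
    refine Eq.trans ?_ (Finset.prod_congr rfl fun i _ => neg_one_mul (IsNilpotent.exp (π (-X i))))
    rw [Finset.prod_mul_distrib, Finset.prod_const, ← exp_sum (fun i => π (-X i)) S fun i _ => ⟨d + 1, hI _ (neg_mem (hX i))⟩,
      ← map_sum, Finset.sum_neg_distrib]
    simp
  change π _ * _ = π _
  rw [hS, map_prod, map_prod, ← Finset.prod_mul_distrib]
  refine Finset.prod_congr rfl fun i _ => ?_
  have hp := toddTrunc_mul_sub_dvd d
  obtain ⟨q, hq⟩ := hp
  have := congrArg (fun p => π (Polynomial.aeval (X i : MvPolynomial (Fin m) ℚ) p)) hq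
  simp only [map_mul, map_pow, Polynomial.aeval_X, hI _ (hX i), zero_mul] at this
  rw [hexp _ (neg_mem (hX i))]
  simp only [map_sub, sub_eq_zero, map_one, map_sum, map_mul, Polynomial.aeval_C, map_pow,
    Polynomial.aeval_X, map_neg, MvPolynomial.algebraMap_eq] at this ⊢
  refine Eq.trans ?_ this
  congr 2
  refine Finset.sum_congr rfl fun k _ => ?_
  rw [← neg_one_mul (π (X i)), mul_pow]
  ring

end Universal

variable {K : Type u} [CommRing K] [LambdaOps K] {P : PosStructure K}

theorem gamma_rank_mem (P : PosStructure K) {x : K} {n : ℕ} (hx : P.aug x = n) (i : ℕ) :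
    gamma i (x - (n : K)) ∈ gammaFiltration P i := by
  simpa using prod_gamma_mem (P := P) (n := i) [(i, x - (n : K))] (by simp [hx]) (by simp)

theorem exists_roots {inv : K → K} (hS : HasInvSplitting P inv) {e : K} (he : e ∈ P.pos) :
    ∃ (L : PosLambdaRing.{u}) (f : K →+* L.carrier) (m : ℕ) (u v : Fin m → L.carrier),
      IsExtension P L.posStr f ∧ P.aug e = m ∧
      (∀ i, L.posStr.IsLine (v i) ∧ v i * u i = 1) ∧
      (∀ n, f (LambdaOps.lam n (inv e)) = ((univ : Finset (Fin m)).val.map v).esymm n) ∧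
      ∀ n, f (gamma n (e - (m : K))) = ((univ : Finset (Fin m)).val.map fun i => u i - 1).esymm n := by
  obtain ⟨L, inv', f, hf, hV', hcomm, s, hs1, hs2⟩ := hS e he
  have hval : (univ : Finset (Fin s.toList.length)).val.map s.toList.get = s := by
    rw [Fin.univ_val_map, List.ofFn_get, Multiset.coe_toList]
  have hline : ∀ i : Fin s.toList.length, L.posStr.IsLine (s.toList.get i) := fun i =>
    hs1 _ (Multiset.mem_toList.mp (List.get_mem _ i))
  have hcard : P.aug e = (s.toList.length : ℕ) := by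
    rw [Multiset.length_toList, ← hf.aug_comp, ← hs2, aug_sum_lines hs1]
  refine ⟨L, f, s.toList.length, s.toList.get, fun i => inv' (s.toList.get i), hf, hcard,
    fun i => ⟨hV'.inv_line _ (hline i), hV'.inv_mul_self _ (hline i)⟩, fun n => ?_, fun n => ?_⟩
  · have hinv : f (inv e) = (s.map inv').sum := by
      rw [hcomm, ← hs2]
      exact map_multiset_sum (AddMonoidHom.mk' inv' hV'.map_add) s
    rw [hf.isLambdaHom, hinv, lam_sum_lines (P := L.posStr) (fun w hw => by
      obtain ⟨x, hx, rfl⟩ := Multiset.mem_map.mp hw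
      exact hV'.inv_line x (hs1 x hx))]
    congr 1
    conv_lhs => rw [← hval, Multiset.map_map]
    rfl
  · rw [map_gamma hf.isLambdaHom, map_sub, map_natCast, ← hs2,
      show (s.toList.length : L.carrier) = (s.card : L.carrier) by rw [Multiset.length_toList],
      gamma_sum_lines hs1]
    congr 1
    conv_lhs => rw [← hval, Multiset.map_map]
    rfl

theorem isNilpotent_of_esymm {R : Type*} [CommRing R] (s : Multiset R)
    (h : ∀ i, 1 ≤ i → i ≤ s.card → IsNilpotent (s.esymm i)) {x : R} (hx : x ∈ s) :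
    IsNilpotent x := by
  have h0 : (s.map fun t => x - t).prod = 0 :=
    Multiset.prod_eq_zero (Multiset.mem_map.mpr ⟨x, hx, sub_self x⟩)
  have h1 := congrArg (Polynomial.eval x) (Multiset.prod_X_sub_X_eq_sum_esymm s)
  rw [Polynomial.eval_multiset_prod, Multiset.map_map] at h1
  simp only [Function.comp_def, Polynomial.eval_sub, Polynomial.eval_X, Polynomial.eval_C,
    Polynomial.eval_finsetSum, Polynomial.eval_mul, Polynomial.eval_pow, Polynomial.eval_neg,
    Polynomial.eval_one] at h1
  rw [h0, Finset.sum_range_succ'] at h1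
  have hm : IsNilpotent (x ^ s.card) := by
    rw [show x ^ s.card = -∑ i ∈ range s.card,
        (-1) ^ (i + 1) * (s.esymm (i + 1) * x ^ (s.card - (i + 1))) by
      simp only [esymm_zero', pow_zero, one_mul, Nat.sub_zero] at h1
      linear_combination -h1]
    refine (isNilpotent_sum fun i hi => ?_).neg
    exact (Commute.all _ _).isNilpotent_mul_left
      ((Commute.all _ _).isNilpotent_mul_right (h _ (by omega) (Finset.mem_range.mp hi)))
  exact IsNilpotent.of_pow hm

theorem weight_gamma_eq_zero {d m : ℕ} (hd : gammaFiltration P (d + 1) = ⊥) {y : K}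
    (hy : ∀ i, gamma i y ∈ gammaFiltration P i) (a : Fin m →₀ ℕ)
    (ha : d < Finsupp.weight (fun i : Fin m => i.1 + 1) a) :
    aeval (fun i : Fin m => gamma (i.1 + 1) y) (monomial a (1 : ℤ)) = 0 := by
  classical
  have := (gammaFam P).aeval_mem (w := fun i : Fin m => i.1 + 1) (fun i => hy (i.1 + 1))
    (fun h x hx => gammaFiltration_anti h hx) (monomial a (1 : ℤ)) (d + 1)
    (fun b hb => by
      rw [coeff_monomial, if_neg]
      rintro rfl
      omega)
  have h' : aeval (fun i : Fin m => gamma (i.1 + 1) y) (monomial a (1 : ℤ)) ∈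
      gammaFiltration P (d + 1) := this
  rwa [hd, AddSubgroup.mem_bot] at h'

/-- For `e = Σ u` the power sums of the Chern roots of `λ_{-1}(e^∨)`, to leading order. -/
theorem exists_leading {d m : ℕ} (hd : gammaFiltration P (d + 1) = ⊥) {inv : K → K}
    (hS : HasInvSplitting P inv) {e : K} (he : e ∈ P.pos) (hm : P.aug e = m) (k : ℕ)
    (R : MvPolynomial (Fin m) ℤ)
    (hR : aeval (fun i : Fin m => esymm (Fin m) ℤ (i.1 + 1)) R = linPoly m k) :
    chC P k (∑ i ∈ range (m + 1), (-1 : K) ^ i * LambdaOps.lam i (inv e)) -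
      aeval (fun i : Fin m => gamma (i.1 + 1) (e - (m : K))) R ∈ gammaFiltration P (k + 1) := by
  classical
  obtain ⟨L, f, m', u, v, hf, hm', huv, hlam, hgam⟩ := exists_roots hS he
  obtain rfl : m' = m := by exact_mod_cast hm'.symm.trans hm
  set y := e - (m' : K)
  have hy : ∀ i, gamma i y ∈ gammaFiltration P i := gamma_rank_mem P hm
  have hnil : ∀ i, IsNilpotent (u i - 1) := by
    intro i
    refine isNilpotent_of_esymm ((univ : Finset (Fin m')).val.map fun j => u j - 1) (fun j hj _ => ?_)
      (Multiset.mem_map_of_mem _ (Finset.mem_univ i))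
    rw [← hgam]
    refine ⟨d + 1, ?_⟩
    have h1 := (gammaFam P).pow_mem (a := j) (show gamma j y ∈ (gammaFam P).M j from hy j) (d + 1)
    have h2 : gamma j y ^ (d + 1) ∈ gammaFiltration P (d + 1) :=
      gammaFiltration_anti (Nat.le_mul_of_pos_right _ hj) h1
    rw [hd, AddSubgroup.mem_bot] at h2
    rw [← map_pow, h2, map_zero]
  choose N hN using hnil
  set D := ∑ i, N i
  let ev : MvPolynomial (Fin m') ℤ →+* L.carrier := (aeval fun i => u i - 1).toRingHom
  have hev : ∀ j, ev (esymm (Fin m') ℤ j) = f (gamma j y) := by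
    intro j
    rw [hgam, esymm_eq_multiset_esymm, map_esymm', Multiset.map_map]
    refine congrArg (Multiset.esymm · j) (Multiset.map_congr rfl fun i _ => ?_)
    simp [ev]
  have hevY : ∀ i, 1 + ev (invY D i) = v i := by
    intro i
    have hz : (-(u i - 1)) ^ (D + 1) = 0 := by
      rw [neg_pow, pow_eq_zero_of_le (Nat.le_succ_of_le
        (Finset.single_le_sum (fun j _ => Nat.zero_le (N j)) (Finset.mem_univ i))) (hN i), mul_zero]
    have hG := mul_neg_geom_sum (-(u i - 1)) (D + 1)
    rw [hz, sub_zero] at hG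
    have hY : ev (invY D i) = -(u i - 1) * ∑ r ∈ range (D + 1), (-(u i - 1)) ^ r := by
      simp [ev, invY] <;> ring
    have h1 : (1 + ev (invY D i)) * u i = 1 := by
      rw [hY]
      linear_combination (-(u i - 1)) * hG
    calc 1 + ev (invY D i) = (1 + ev (invY D i)) * (v i * u i) := by rw [(huv i).2, mul_one]
      _ = ((1 + ev (invY D i)) * u i) * v i := by ring
      _ = v i := by rw [h1, one_mul]
  have hch : f (chC P k (∑ i ∈ range (m' + 1), (-1 : K) ^ i * LambdaOps.lam i (inv e))) =
      ev (invPoly m' D k) := by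
    have h0 := sum_neg_one_pow_esymm ((univ : Finset (Fin m')).val.map v)
    rw [Multiset.card_map, Finset.card_val, Finset.card_univ, Fintype.card_fin, Multiset.map_map] at h0
    rw [map_chC hf, map_sum]
    simp only [map_mul, map_pow, map_neg, map_one, hlam]
    rw [h0, show ((univ : Finset (Fin m')).val.map ((fun w => 1 - w) ∘ v)).prod =
      ∏ i, (-v i + 1) from Finset.prod_congr rfl fun i _ => by simp [sub_eq_add_neg, add_comm],
      Finset.prod_add, ← chH_apply, map_sum, invPoly, map_sum]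
    refine Finset.sum_congr Finset.powerset_univ fun S hSmem => ?_
    clear hSmem
    have hw : L.posStr.IsLine (∏ i ∈ S, v i) := by
      induction S using Finset.induction with
      | empty => simpa using isLine_one L.posStr
      | insert b T hb ih =>
        rw [Finset.prod_insert hb]
        exact line_mul (huv b).1 ih
    rw [Finset.prod_const_one, mul_one, Finset.prod_neg]
    have hcast : ((-1 : L.carrier) ^ S.card) * ∏ i ∈ S, v i = ((-1 : ℤ) ^ S.card) • ∏ i ∈ S, v i := by
      rw [zsmul_eq_mul]; push_cast; rfl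
    rw [hcast, map_zsmul, zsmul_eq_mul, chH_apply, chC_line hw, map_mul, map_pow, map_pow, map_sub,
      map_prod, map_neg, map_one]
    push_cast
    simp only [map_add, map_one, hevY]
  obtain ⟨Q, hQ1, hQ2⟩ := exists_sym_poly (n := k + 1) (invPoly m' D k - linPoly m' k)
    ((invPoly_symm m' D k).sub (linPoly_symm m' k)) (invPoly_sub_mem m' D k)
  have key : chC P k (∑ i ∈ range (m' + 1), (-1 : K) ^ i * LambdaOps.lam i (inv e)) -
      aeval (fun i : Fin m' => gamma (i.1 + 1) y) R =
      aeval (fun i : Fin m' => gamma (i.1 + 1) y) Q := by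
    refine hf.injective ?_
    have hG := congrArg ev hQ1
    have hL := congrArg ev hR
    rw [map_aeval_int] at hG hL
    rw [map_sub, map_aeval_int, map_aeval_int,
      ← show (fun i : Fin m' => ev (esymm (Fin m') ℤ (i.1 + 1))) =
        fun i => f (gamma (i.1 + 1) y) from funext fun i => hev _, hG, hL, hch, map_sub]
  rw [key]
  exact (gammaFam P).aeval_mem (w := fun i : Fin m' => i.1 + 1) (fun i => hy _)
    (fun h x hx => gammaFiltration_anti h hx) Q (k + 1) hQ2

section Gr

variable {m : ℕ} {y : K} (hy : ∀ i, gamma i y ∈ gammaFiltration P i)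

/-- The Chern classes in the Rees ring. -/
noncomputable def reesHom : MvPolynomial (Fin m) ℤ →+* KGr.rees P :=
  (aeval fun i : Fin m => (⟨_, mem_rees (hy (i.1 + 1))⟩ : KGr.rees P)).toRingHom

theorem reesHom_monomial (a : Fin m →₀ ℕ) :
    ((reesHom hy (monomial a 1) : KGr.rees P) : LaurentPolynomial K) =
      LaurentPolynomial.C (aeval (fun i : Fin m => gamma (i.1 + 1) y) (monomial a (1 : ℤ))) *
        LaurentPolynomial.T (-(Finsupp.weight (fun i : Fin m => i.1 + 1) a : ℕ)) := by
  classical
  induction a using Finsupp.induction with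
  | zero => simp
  | single_add i n a hi _ ih =>
    rw [show monomial (Finsupp.single i n + a) (1 : ℤ) = X i ^ n * monomial a 1 by
      rw [X_pow_eq_monomial, monomial_mul, one_mul], map_mul, map_pow, Subring.coe_mul,
      SubmonoidClass.coe_pow, ih, map_mul (aeval _), map_pow (aeval _), aeval_X, map_add]
    simp only [reesHom, AlgHom.toRingHom_eq_coe, RingHom.coe_coe, aeval_X,
      Finsupp.weight_single, smul_eq_mul, map_mul, map_pow, mul_pow, LaurentPolynomial.T_pow]
    rw [mul_mul_mul_comm, ← LaurentPolynomial.T_add]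
    congr 2
    push_cast
    ring

theorem reesHom_homogeneous {k : ℕ} {R : MvPolynomial (Fin m) ℤ}
    (hR : R.IsWeightedHomogeneous (fun i : Fin m => i.1 + 1) k) :
    ((reesHom hy R : KGr.rees P) : LaurentPolynomial K) =
      LaurentPolynomial.C (aeval (fun i : Fin m => gamma (i.1 + 1) y) R) *
        LaurentPolynomial.T (-(k : ℤ)) := by
  rw [R.as_sum, map_sum, map_sum, AddSubmonoidClass.coe_finsetSum, map_sum, Finset.sum_mul]
  refine Finset.sum_congr rfl fun a ha => ?_
  rw [show monomial a (coeff a R) = C (coeff a R) * monomial a 1 by rw [C_mul_monomial, mul_one],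
    map_mul (reesHom hy), map_mul (aeval _), Subring.coe_mul, reesHom_monomial,
    hR (mem_support_iff.mp ha), eq_intCast (C : ℤ →+* MvPolynomial (Fin m) ℤ), map_intCast,
    map_intCast]
  simp [mul_assoc]

theorem aeval_map_eq (R : MvPolynomial (Fin m) ℤ) :
    aeval (fun i : Fin m => KGr.grK P ((i.1 + 1 : ℕ) : ℤ) (gamma (i.1 + 1) y))
        (MvPolynomial.map (Int.castRingHom ℚ) R) = toGr P (reesHom hy R) := by
  refine DFunLike.congr_fun (show (aeval (R := ℚ) fun i : Fin m =>
    KGr.grK P ((i.1 + 1 : ℕ) : ℤ) (gamma (i.1 + 1) y)).toRingHom.comp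
      (MvPolynomial.map (Int.castRingHom ℚ)) = (toGr P).comp (reesHom hy) from ?_) R
  refine MvPolynomial.ringHom_ext (fun r => ?_) fun i => ?_
  · simp
  · simp only [RingHom.comp_apply, MvPolynomial.map_X, AlgHom.toRingHom_eq_coe, RingHom.coe_coe,
      aeval_X, reesHom]
    exact grK_eq (hy (i.1 + 1))

include hy in
theorem grK_aeval {k : ℕ} {R : MvPolynomial (Fin m) ℤ}
    (hR : R.IsWeightedHomogeneous (fun i : Fin m => i.1 + 1) k) :
    KGr.grK P (k : ℤ) (aeval (fun i : Fin m => gamma (i.1 + 1) y) R) =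
        aeval (fun i : Fin m => KGr.grK P ((i.1 + 1 : ℕ) : ℤ) (gamma (i.1 + 1) y))
          (MvPolynomial.map (Int.castRingHom ℚ) R) ∧
      aeval (fun i : Fin m => gamma (i.1 + 1) y) R ∈ gammaFiltration P k := by
  have hmem : aeval (fun i : Fin m => gamma (i.1 + 1) y) R ∈ gammaFiltration P k :=
    (gammaFam P).aeval_mem (w := fun i : Fin m => i.1 + 1) (fun i => hy _)
      (fun h x hx => gammaFiltration_anti h hx) R k fun a ha => by
        by_contra h
        exact ha.ne (hR h)
  refine ⟨?_, hmem⟩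
  rw [grK_eq hmem, aeval_map_eq hy]
  congr 1
  exact Subtype.ext (reesHom_homogeneous hy hR).symm

include hy in
theorem aeval_eq_zero_of_esymm_mem {d : ℕ} (hd : gammaFiltration P (d + 1) = ⊥)
    (H : MvPolynomial (Fin m) ℚ)
    (hH : aeval (fun i : Fin m => esymm (Fin m) ℚ (i.1 + 1)) H ∈ idealOfVars (Fin m) ℚ ^ (d + 1)) :
    aeval (fun i : Fin m => KGr.grK P ((i.1 + 1 : ℕ) : ℤ) (gamma (i.1 + 1) y)) H = 0 := by
  rw [H.as_sum, map_sum]
  refine Finset.sum_eq_zero fun a ha => ?_
  have hw : d < Finsupp.weight (fun i : Fin m => i.1 + 1) a := by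
    by_contra hlt
    exact mem_support_iff.mp ha (coeff_eq_zero_of_esymm_mem H hH a (by omega))
  rw [show monomial a (coeff a H) =
    C (coeff a H) * MvPolynomial.map (Int.castRingHom ℚ) (monomial a 1) by
      rw [map_monomial, map_one, C_mul_monomial, mul_one], map_mul, aeval_map_eq hy]
  have : reesHom hy (monomial a 1) = 0 := by
    apply Subtype.ext
    rw [reesHom_monomial, weight_gamma_eq_zero hd hy a hw, map_zero, zero_mul]
    rfl
  rw [this, map_zero, mul_zero]

end Gr

/-- `td(e) · ch(λ_{-1}(e^∨)) = c_m(e)`. -/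
theorem tdK_mul_chK_lamAlt_inv {d : ℕ} (hd : gammaFiltration P (d + 1) = ⊥)
    {inv : K → K} (hV : IsInvolution P inv) (hS : HasInvSplitting P inv) {e : K} (he : e ∈ P.pos)
    {m : ℕ} (hm : P.aug e = m) :
    KGr.tdK P d e * KGr.chK P d (∑ i ∈ range (m + 1), (-1 : K) ^ i * LambdaOps.lam i (inv e)) =
      KGr.chern P m e := by
  have hy : ∀ i, gamma i (e - (m : K)) ∈ gammaFiltration P i := gamma_rank_mem P hm
  have hchern : ∀ i, KGr.chern P i e = KGr.grK P (i : ℤ) (gamma i (e - (m : K))) := fun i => by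
    rw [KGr.chern, hm, Int.cast_natCast]
  rcases lt_or_ge d m with hlt | hle
  · have h1 : gamma m (e - (m : K)) = 0 := by
      have := gammaFiltration_anti hlt (hy m)
      rwa [hd, AddSubgroup.mem_bot] at this
    have h2 : ∑ i ∈ range (m + 1), (-1 : K) ^ i * LambdaOps.lam i (inv e) = 0 := by
      obtain ⟨L, f, m', u, v, hf, hm', huv, hlam, -⟩ := exists_roots hS he
      obtain rfl : m' = m := by exact_mod_cast hm'.symm.trans hm
      have hlines : ∀ w ∈ (univ : Finset (Fin m')).val.map v, L.posStr.IsLine w := fun w hw => by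
        obtain ⟨i, -, rfl⟩ := Multiset.mem_map.mp hw
        exact (huv i).1
      have hfe : f (inv e) = ((univ : Finset (Fin m')).val.map v).sum := by
        have := hlam 1
        rw [LambdaOps.lam_one] at this
        rw [this]
        simp [Multiset.esymm, Multiset.powersetCard_one, Function.comp_def]
      have h3 : gamma m' (inv e - (m' : K)) = 0 := by
        have := gammaFiltration_anti hlt (gamma_rank_mem P ((hV.aug_inv e).trans hm) m')
        rwa [hd, AddSubgroup.mem_bot] at this
      refine hf.injective ?_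
      have h0 := sum_neg_one_pow_esymm ((univ : Finset (Fin m')).val.map v)
      have h4 := gamma_sum_lines hlines m'
      have hc : ((univ : Finset (Fin m')).val.map v).card = m' := by simp
      rw [hc] at h0 h4
      rw [← hfe, ← map_natCast f, ← map_sub, ← map_gamma hf.isLambdaHom, h3, map_zero,
        show ∀ s : Multiset L.carrier, s.esymm m' = s.esymm m' from fun _ => rfl] at h4
      have h5 : (((univ : Finset (Fin m')).val.map v).map fun x => x - 1).prod = 0 := by
        rw [h4, ← esymm_card, Multiset.card_map, hc]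
      rw [map_sum, map_zero]
      simp only [map_mul, map_pow, map_neg, map_one, hlam]
      rw [h0]
      refine (congrArg Multiset.prod (Multiset.map_congr rfl fun x _ =>
        show (1 : L.carrier) - x = -1 * (x - 1) by ring)).trans ?_
      rw [Multiset.prod_map_mul, h5, mul_zero]
    rw [h2, hchern, h1, grK_zero, show KGr.chK P d (0 : K) = 0 from
      left_eq_add.mp ((congrArg _ (add_zero (0 : K)).symm).trans (chK_add d 0 0)), mul_zero]
  · obtain ⟨T, hT1, hT2⟩ := exists_todd_rep.{u} m hle
    choose R hR1 hR2 using fun k => exists_linPoly_rep m k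
    have htd : KGr.tdK P d e = aeval (fun i : Fin m =>
        KGr.grK P ((i.1 + 1 : ℕ) : ℤ) (gamma (i.1 + 1) (e - (m : K)))) T := by
      rw [KGr.tdK]
      refine (hT2 (KGr.Gr P) (fun i => KGr.chern P i e) fun i hi => ?_).trans ?_
      · rw [hchern, gamma_sub_aug_eq_zero (P := P) he hm hi, grK_zero]
      · simp only [hchern]
    have hch : KGr.chK P d (∑ i ∈ range (m + 1), (-1 : K) ^ i * LambdaOps.lam i (inv e)) =
        aeval (fun i : Fin m => KGr.grK P ((i.1 + 1 : ℕ) : ℤ) (gamma (i.1 + 1) (e - (m : K))))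
          (∑ k ∈ range (d + 1),
            C ((k.factorial : ℚ)⁻¹) * MvPolynomial.map (Int.castRingHom ℚ) (R k)) := by
      rw [chK_eq, map_sum]
      refine Finset.sum_congr rfl fun k _ => ?_
      obtain ⟨hg, hmem⟩ := grK_aeval hy (hR1 k)
      rw [map_mul, ← hg, aeval_C, ← Algebra.smul_def, one_div,
        grK_congr hmem (exists_leading hd hS he hm k (R k) (hR2 k))]
    obtain ⟨n, rfl⟩ : ∃ n, m = n + 1 := ⟨m - 1, by
      have := P.aug_pos e he
      omega⟩
    have hlast : KGr.grK P ((n + 1 : ℕ) : ℤ) (gamma (n + 1) (e - ((n + 1 : ℕ) : K))) =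
        aeval (fun i : Fin (n + 1) =>
          KGr.grK P ((i.1 + 1 : ℕ) : ℤ) (gamma (i.1 + 1) (e - ((n + 1 : ℕ) : K))))
          (X (Fin.last n) : MvPolynomial (Fin (n + 1)) ℚ) := by
      rw [aeval_X]; rfl
    rw [htd, hch, ← map_mul, hchern, hlast, ← sub_eq_zero, ← map_sub]
    refine aeval_eq_zero_of_esymm_mem hy hd _ ?_
    have hprod : esymm (Fin (n + 1)) ℚ (n + 1) = ∏ i, X i := by
      rw [esymm, show powersetCard (n + 1) (univ : Finset (Fin (n + 1))) = {univ} by
        rw [← Finset.powersetCard_self (univ : Finset (Fin (n + 1))), Finset.card_univ, Fintype.card_fin],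
        Finset.sum_singleton]
    have hmap : ∀ k, aeval (fun i : Fin (n + 1) => esymm (Fin (n + 1)) ℚ (i.1 + 1))
        (MvPolynomial.map (Int.castRingHom ℚ) (R k)) =
        MvPolynomial.map (Int.castRingHom ℚ) (linPoly (n + 1) k) := by
      intro k
      rw [← hR2 k, map_aeval_int]
      simp only [map_esymm]
      exact aeval_map_algebraMap ℚ _ _
    rw [map_sub, map_mul, hT1, map_sum, aeval_X, Fin.val_last, hprod]
    simp only [map_mul, aeval_C, hmap, MvPolynomial.algebraMap_eq]
    exact todd_mul_linPoly_mem _ _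

end Groth.Agent.KRRLam
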