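import Groth.Agent.KRRLam.Basic
import Mathlib.LinearAlgebra.Lagrange
import Mathlib.RingTheory.AdjoinRoot
import Mathlib.RingTheory.Polynomial.Vieta
import Mathlib.RingTheory.TensorProduct.Basic
import Mathlib.RingTheory.Localization.Away.Basic
import Mathlib.RingTheory.Flat.Localization

/-!
Riemann–Roch for the elementary projection: the universal identity and its specialisation.
-/

universe u

open Finset LambdaRing Polynomial

namespace Groth.Agent.KRRLam

open Groth.Agent.Lambda

section Hc

variable {R : Type*} [CommRing R] {n : ℕ}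

/-- The multiset of values of a family. -/
def emult (u : Fin n → R) : Multiset R := (univ : Finset (Fin n)).val.map u

theorem card_emult (u : Fin n → R) : (emult u).card = n := by simp [emult]

/-- `Π (1 - u_m T)` as a power series. -/
noncomputable def qser (u : Fin n → R) : PowerSeries R :=
  PowerSeries.mk fun k => (-1) ^ k * (emult u).esymm k

/-- Complete homogeneous symmetric functions. -/
noncomputable def hc (u : Fin n → R) (i : ℕ) : R := PowerSeries.coeff i ((qser u).invOfUnit 1)

theorem constantCoeff_qser (u : Fin n → R) : PowerSeries.constantCoeff (qser u) = 1 := by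
  rw [qser, PowerSeries.constantCoeff_mk, pow_zero, one_mul, esymm_zero']

theorem hc_rel (u : Fin n → R) (i : ℕ) :
    ∑ k ∈ range (i + 1), (-1) ^ k * (emult u).esymm k * hc u (i - k) = if i = 0 then 1 else 0 := by
  have h := congrArg (PowerSeries.coeff i)
    (PowerSeries.mul_invOfUnit (qser u) 1 (by rw [constantCoeff_qser]; rfl))
  rw [PowerSeries.coeff_mul, Finset.Nat.sum_antidiagonal_eq_sum_range_succ_mk,
    PowerSeries.coeff_one] at h
  rw [← h]
  exact Finset.sum_congr rfl fun k _ => by rw [qser, PowerSeries.coeff_mk]; rfl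

theorem hc_unique (u : Fin n → R) (s : ℕ → R)
    (h : ∀ i, ∑ k ∈ range (i + 1), (-1) ^ k * (emult u).esymm k * s (i - k) =
      if i = 0 then 1 else 0) (i : ℕ) : s i = hc u i := by
  induction i using Nat.strong_induction_on with
  | _ i ih =>
    have h1 := h i
    have h2 := hc_rel u i
    rw [Finset.sum_range_succ'] at h1 h2
    rw [Finset.sum_congr rfl (fun k hk => by rw [ih (i - (k + 1))
      (by simp only [Finset.mem_range] at hk; omega)])] at h1
    simp only [pow_zero, esymm_zero', one_mul, Nat.sub_zero] at h1 h2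
    linear_combination h1 - h2

theorem emult_map {S : Type*} [CommRing S] (g : R →+* S) (u : Fin n → R) :
    (emult u).map g = emult fun m => g (u m) := by
  simp [emult, Multiset.map_map, Function.comp_def]

theorem map_hc {S : Type*} [CommRing S] (g : R →+* S) (u : Fin n → R) (i : ℕ) :
    g (hc u i) = hc (fun m => g (u m)) i := by
  refine hc_unique _ (fun i => g (hc u i)) (fun i => ?_) i
  have h := congrArg g (hc_rel u i)
  simp only [map_sum, map_mul, map_pow, map_neg, map_one] at h
  rw [← emult_map]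
  convert h using 1
  · refine Finset.sum_congr rfl fun k _ => ?_
    simp [Multiset.esymm, map_multiset_sum, Multiset.powersetCard_map, Multiset.map_map,
      Function.comp_def, map_multiset_prod]
  · split_ifs <;> simp

/-- `Π (X - u_m)`. -/
noncomputable def rootPoly (u : Fin n → R) : R[X] := ∏ m, (X - C (u m))

theorem rootPoly_eq (u : Fin n → R) : rootPoly u =
    ∑ k ∈ range (n + 1), C ((-1) ^ k * (emult u).esymm k) * X ^ (n - k) := by
  have h := Multiset.prod_X_sub_X_eq_sum_esymm (emult u)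
  rw [card_emult] at h
  rw [rootPoly, Finset.prod_eq_multiset_prod]
  rw [emult, Multiset.map_map] at h
  exact h.trans (Finset.sum_congr rfl fun k _ => by
    rw [map_mul, map_pow, map_neg, map_one, mul_assoc]; rfl)

theorem map_rootPoly {S : Type*} [CommRing S] (g : R →+* S) (u : Fin n → R) :
    (rootPoly u).map g = rootPoly fun m => g (u m) := by
  simp [rootPoly, Polynomial.map_prod]

theorem eval_rootPoly (u : Fin n → R) (m : Fin n) : (rootPoly u).eval (u m) = 0 := by
  rw [rootPoly, eval_prod]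
  exact Finset.prod_eq_zero (mem_univ m) (by simp)

theorem eval_eq_of_mk_eq {u : Fin n → R} {q q' : R[X]}
    (h : AdjoinRoot.mk (rootPoly u) q = AdjoinRoot.mk (rootPoly u) q') (m : Fin n) :
    q.eval (u m) = q'.eval (u m) := by
  obtain ⟨c, hc⟩ := AdjoinRoot.mk_eq_mk.mp h
  rw [← sub_eq_zero, ← eval_sub, hc, eval_mul, eval_rootPoly, zero_mul]

theorem isUnit_mk_of_eval {u : Fin n → R} {g : R[X]} (hg : ∀ m, IsUnit (g.eval (u m))) :
    IsUnit (AdjoinRoot.mk (rootPoly u) g) := by
  set G := AdjoinRoot.mk (rootPoly u) g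
  have h0 : ∏ m, (G - AdjoinRoot.of (rootPoly u) (g.eval (u m))) = 0 := by
    have : rootPoly u ∣ ∏ m, (g - C (g.eval (u m))) :=
      Finset.prod_dvd_prod_of_dvd _ _ fun m _ => X_sub_C_dvd_sub_C_eval
    have := AdjoinRoot.mk_eq_zero.mpr this
    simpa [map_prod, G] using this
  let q := Ideal.Quotient.mk (Ideal.span {G})
  have hq : q G = 0 := Ideal.Quotient.eq_zero_iff_mem.mpr (Ideal.mem_span_singleton_self G)
  have h1 := congrArg q h0
  rw [map_prod, map_zero] at h1
  simp only [map_sub, hq, zero_sub, ← map_neg, ← map_prod] at h1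
  rw [Ideal.Quotient.eq_zero_iff_mem, Ideal.mem_span_singleton] at h1
  exact isUnit_of_dvd_unit h1 ((IsUnit.prod_iff.mpr fun m _ => (hg m).neg).map _)

/-- The functional `T^i ↦ h_i(u)`. -/
noncomputable def ev (u : Fin n → R) : R[X] →ₗ[R] R :=
  Polynomial.lsum fun i => (LinearMap.id : R →ₗ[R] R).smulRight (hc u i)

theorem ev_monomial (u : Fin n → R) (i : ℕ) (a : R) : ev u (monomial i a) = a * hc u i := by
  simp [ev, Polynomial.sum_monomial_index]

theorem ev_C_mul_X_pow (u : Fin n → R) (i : ℕ) (a : R) : ev u (C a * X ^ i) = a * hc u i := by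
  rw [C_mul_X_pow_eq_monomial, ev_monomial]

theorem ev_mul_rootPoly (hn : 0 < n) (u : Fin n → R) (q : R[X]) : ev u (q * rootPoly u) = 0 := by
  induction q using Polynomial.induction_on' with
  | add p q hp hq => rw [add_mul, map_add, hp, hq, add_zero]
  | monomial i a =>
    rw [rootPoly_eq, Finset.mul_sum, map_sum]
    have h := hc_rel u (i + n)
    rw [if_neg (by omega), ← Finset.sum_subset (Finset.range_subset_range.mpr (by omega : n + 1 ≤ i + n + 1))
      (fun k _ hk => by
        simp only [Finset.mem_range, not_lt] at hk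
        rw [esymm_eq_zero _ (by rw [card_emult]; omega), mul_zero, zero_mul])] at h
    calc ∑ k ∈ range (n + 1), ev u (monomial i a * (C ((-1) ^ k * (emult u).esymm k) * X ^ (n - k)))
        = ∑ k ∈ range (n + 1), a * ((-1) ^ k * (emult u).esymm k * hc u (i + n - k)) := by
          refine Finset.sum_congr rfl fun k hk => ?_
          simp only [Finset.mem_range] at hk
          rw [C_mul_X_pow_eq_monomial, monomial_mul_monomial, ev_monomial,
            show i + (n - k) = i + n - k by omega, mul_assoc]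
      _ = 0 := by rw [← Finset.mul_sum, h, mul_zero]

theorem ev_congr (hn : 0 < n) {u : Fin n → R} {q q' : R[X]}
    (h : AdjoinRoot.mk (rootPoly u) q = AdjoinRoot.mk (rootPoly u) q') : ev u q = ev u q' := by
  obtain ⟨c, hc⟩ := AdjoinRoot.mk_eq_mk.mp h
  rw [← sub_eq_zero, ← map_sub, hc, mul_comm, ev_mul_rootPoly hn]

theorem map_ev {S : Type*} [CommRing S] (g : R →+* S) (u : Fin n → R) (q : R[X]) :
    g (ev u q) = ev (fun m => g (u m)) (q.map g) := by
  induction q using Polynomial.induction_on' with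
  | add p q hp hq => simp only [map_add, Polynomial.map_add, hp, hq]
  | monomial i a => rw [ev_monomial, map_mul, map_hc, map_monomial, ev_monomial]

end Hc

section Field

variable {F : Type*} [Field F] {r : ℕ} {u : Fin (r + 1) → F}

theorem sum_pow_div (hu : Function.Injective u) {k : ℕ} (hk : k ≤ r) :
    ∑ m, u m ^ k / ∏ l ∈ univ.erase m, (u m - u l) = if k = r then 1 else 0 := by
  have h := Lagrange.coeff_eq_sum (s := (univ : Finset (Fin (r + 1)))) (v := u) hu.injOn
    (P := (X : F[X]) ^ k) (by rw [degree_X_pow, Finset.card_univ, Fintype.card_fin]; exact_mod_cast (by omega))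
  simp only [Finset.card_univ, Fintype.card_fin, Nat.add_sub_cancel, coeff_X_pow, eval_pow, eval_X] at h
  rw [← h]
  simp [eq_comm]

theorem hc_eq_sum (hu : Function.Injective u) (i : ℕ) :
    hc u i = ∑ m, u m ^ (i + r) / ∏ l ∈ univ.erase m, (u m - u l) := by
  refine (hc_unique u (fun i => ∑ m, u m ^ (i + r) / ∏ l ∈ univ.erase m, (u m - u l)) (fun i => ?_) i).symm
  rcases Nat.eq_zero_or_pos i with rfl | hi
  · simp [esymm_zero', sum_pow_div hu le_rfl]
  rw [if_neg (by omega)]
  let G : ℕ → F := fun k => (-1) ^ k * (emult u).esymm k *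
    ∑ m, u m ^ (i + r - k) / ∏ l ∈ univ.erase m, (u m - u l)
  have h1 : ∑ k ∈ range (i + 1), (-1) ^ k * (emult u).esymm k *
      ∑ m, u m ^ (i - k + r) / ∏ l ∈ univ.erase m, (u m - u l) = ∑ k ∈ range (i + r + 1), G k := by
    rw [← Finset.sum_subset (Finset.range_subset_range.mpr (by omega : i + 1 ≤ i + r + 1))
      (fun k hk hk' => ?_)]
    · refine Finset.sum_congr rfl fun k hk => ?_
      simp only [Finset.mem_range] at hk
      simp only [G, show i + r - k = i - k + r by omega]
    · simp only [Finset.mem_range, not_lt] at hk hk'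
      simp only [G]
      rw [sum_pow_div hu (by omega), if_neg (by omega), mul_zero]
  rw [h1, ← Finset.sum_subset (Finset.range_subset_range.mpr (by omega : r + 1 + 1 ≤ i + r + 1))
    (fun k _ hk => by
      simp only [Finset.mem_range, not_lt] at hk
      simp only [G]
      rw [esymm_eq_zero _ (by rw [card_emult]; omega), mul_zero, zero_mul])]
  simp only [G, Finset.mul_sum]
  rw [Finset.sum_comm]
  refine Finset.sum_eq_zero fun m _ => ?_
  have h0 := eval_rootPoly u m
  rw [rootPoly_eq, eval_finsetSum] at h0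
  simp only [eval_mul, eval_C, eval_pow, eval_X] at h0
  calc ∑ k ∈ range (r + 1 + 1), (-1) ^ k * (emult u).esymm k *
        (u m ^ (i + r - k) / ∏ l ∈ univ.erase m, (u m - u l))
      = (∑ k ∈ range (r + 1 + 1), (-1) ^ k * (emult u).esymm k * u m ^ (r + 1 - k)) *
          (u m ^ (i - 1) / ∏ l ∈ univ.erase m, (u m - u l)) := by
        rw [Finset.sum_mul]
        refine Finset.sum_congr rfl fun k hk => ?_
        simp only [Finset.mem_range] at hk
        rw [show i + r - k = (r + 1 - k) + (i - 1) by omega, pow_add]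
        ring
    _ = 0 := by rw [h0, zero_mul]

theorem ev_eq_sum (hu : Function.Injective u) (q : F[X]) :
    ev u q = ∑ m, q.eval (u m) * u m ^ r / ∏ l ∈ univ.erase m, (u m - u l) := by
  induction q using Polynomial.induction_on' with
  | add p q hp hq => simp only [map_add, hp, hq, eval_add, add_mul, add_div, Finset.sum_add_distrib]
  | monomial i a =>
    rw [ev_monomial, hc_eq_sum hu, Finset.mul_sum]
    refine Finset.sum_congr rfl fun m _ => ?_
    rw [eval_monomial, pow_add]
    ring

end Field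

section Universal

variable {A : Type*} [CommRing A] {r : ℕ}

/-- `θ^j` of `Σ u_k / T`. -/
noncomputable def thetaPoly (j : ℕ) (u : Fin (r + 1) → A) (L : A[X]) : A[X] :=
  ∏ k, ∑ a ∈ range j, (C (u k) * L) ^ a

theorem map_thetaPoly {B : Type*} [CommRing B] (g : A →+* B) (j : ℕ) (u : Fin (r + 1) → A)
    (L : A[X]) : (thetaPoly j u L).map g = thetaPoly j (fun m => g (u m)) (L.map g) := by
  simp [thetaPoly, Polynomial.map_prod, Polynomial.map_sum]

theorem core_field {F : Type*} [Field F] {u : Fin (r + 1) → F} (hu : Function.Injective u) {j : ℕ}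
    (hj0 : (j : F) ≠ 0) (hv : Function.Injective fun m => u m ^ j) (hu0 : ∀ m, u m ≠ 0) (L W : F[X])
    (hL : ∀ m, L.eval (u m) * u m = 1) (hW : ∀ m, W.eval (u m) * (thetaPoly j u L).eval (u m) = 1)
    (i : ℕ) : (j : F) * ev u (W * X ^ (i * j)) = hc (fun m => u m ^ j) i := by
  rw [ev_eq_sum hu, hc_eq_sum hv, Finset.mul_sum]
  refine Finset.sum_congr rfl fun m _ => ?_
  set P := ∏ l ∈ univ.erase m, (u m - u l) with hP
  set Q := ∏ l ∈ univ.erase m, (u m ^ j - u l ^ j) with hQ
  have hP0 : P ≠ 0 := Finset.prod_ne_zero_iff.mpr fun l hl =>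
    sub_ne_zero.mpr fun h => (Finset.mem_erase.mp hl).1 (hu h).symm
  have hQ0 : Q ≠ 0 := Finset.prod_ne_zero_iff.mpr fun l hl =>
    sub_ne_zero.mpr fun h => (Finset.mem_erase.mp hl).1 (hv h).symm
  have hLm : L.eval (u m) = (u m)⁻¹ := eq_inv_of_mul_eq_one_left (hL m)
  have hT : (thetaPoly j u L).eval (u m) = (j : F) * (u m ^ r * Q) / (u m ^ (j * r) * P) := by
    simp only [thetaPoly, eval_prod, eval_finsetSum, eval_pow, eval_mul, eval_C, hLm]
    rw [← Finset.mul_prod_erase univ _ (mem_univ m), mul_inv_cancel₀ (hu0 m)]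
    simp only [one_pow, Finset.sum_const, Finset.card_range, nsmul_eq_mul, mul_one]
    rw [mul_div_assoc]
    congr 1
    have hfac : ∀ k ∈ univ.erase m, ∑ a ∈ range j, (u k * (u m)⁻¹) ^ a =
        u m * (u m ^ j - u k ^ j) / (u m ^ j * (u m - u k)) := by
      intro k hk
      have hne : u m - u k ≠ 0 := sub_ne_zero.mpr fun h => (Finset.mem_erase.mp hk).1 (hu h).symm
      rw [eq_div_iff (mul_ne_zero (pow_ne_zero _ (hu0 m)) hne)]
      have := geom_sum_mul_neg (u k * (u m)⁻¹) j
      rw [mul_pow, inv_pow] at this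
      have h' : (u m - u k) = u m * (1 - u k * (u m)⁻¹) := by field_simp [hu0 m]
      rw [h', show ∀ S U V W : F, S * (U * (V * W)) = U * V * (S * W) from fun _ _ _ _ => by ring, this]
      field_simp [hu0 m]
    rw [Finset.prod_congr rfl hfac, Finset.prod_div_distrib, Finset.prod_mul_distrib,
      Finset.prod_mul_distrib, Finset.prod_const, Finset.prod_const, Finset.card_erase_of_mem (mem_univ m),
      Finset.card_univ, Fintype.card_fin, Nat.add_sub_cancel, ← pow_mul]
  have hWm : W.eval (u m) = (u m ^ (j * r) * P) / ((j : F) * (u m ^ r * Q)) := by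
    rw [eq_inv_of_mul_eq_one_left (hW m), hT, inv_div]
  rw [eval_mul, eval_pow, eval_X, hWm, ← pow_mul,
    show j * (i + r) = i * j + j * r by ring, pow_add]
  field_simp [hu0 m]

/-- The element to invert in the universal ring. -/
noncomputable def univDen (r j : ℕ) : MvPolynomial (Fin (r + 1)) ℤ :=
  (j : MvPolynomial (Fin (r + 1)) ℤ) * (∏ m, MvPolynomial.X m) *
    ∏ p : Fin (r + 1) × Fin (r + 1), ∑ a ∈ range j, MvPolynomial.X p.1 ^ a * MvPolynomial.X p.2 ^ (j - 1 - a)

theorem univDen_ne_zero (r : ℕ) {j : ℕ} (hj : 1 ≤ j) : univDen r j ≠ 0 := fun h => by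
  have := congrArg (MvPolynomial.eval fun _ => (1 : ℤ)) h
  simp [univDen] at this
  omega

theorem univ_identity (u : Fin (r + 1) → A) {j : ℕ} (hj : 1 ≤ j) (hjA : IsUnit (j : A))
    (hu : ∀ m, IsUnit (u m))
    (hS : ∀ k m, IsUnit (∑ a ∈ range j, u k ^ a * u m ^ (j - 1 - a))) (L W : A[X])
    (hL : AdjoinRoot.mk (rootPoly u) (L * X) = 1)
    (hW : AdjoinRoot.mk (rootPoly u) (W * thetaPoly j u L) = 1) (i : ℕ) :
    (j : A) * ev u (W * X ^ (i * j)) = hc (fun m => u m ^ j) i := by
  let Ω := Localization.Away (univDen r j)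
  let ι : MvPolynomial (Fin (r + 1)) ℤ →+* Ω := algebraMap _ _
  have hιinj : Function.Injective ι :=
    IsLocalization.injective Ω (powers_le_nonZeroDivisors_of_noZeroDivisors (univDen_ne_zero r hj))
  have hΩdom : IsDomain Ω :=
    IsLocalization.isDomain_of_le_nonZeroDivisors Ω (powers_le_nonZeroDivisors_of_noZeroDivisors (univDen_ne_zero r hj))
  let v : Fin (r + 1) → Ω := fun m => ι (MvPolynomial.X m)
  have hden : IsUnit (ι (univDen r j)) := IsLocalization.Away.algebraMap_isUnit (univDen r j)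
  simp only [univDen, map_mul, map_prod, map_natCast, map_sum, map_pow, IsUnit.mul_iff,
    IsUnit.prod_iff] at hden
  obtain ⟨⟨hjΩ, hvu⟩, hSΩ⟩ := hden
  -- the universal `1/T` and `θ^{-1}`
  obtain ⟨L₀, hL₀⟩ := AdjoinRoot.mk_surjective (g := rootPoly v)
    ((isUnit_mk_of_eval (u := v) (g := X) fun m => by simpa using hvu m (mem_univ m)).unit⁻¹).val
  have hL₀' : AdjoinRoot.mk (rootPoly v) (L₀ * X) = 1 := by
    rw [map_mul, hL₀]
    exact IsUnit.val_inv_mul _
  have hL₀m : ∀ m, L₀.eval (v m) * v m = 1 := fun m => by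
    have := eval_eq_of_mk_eq (q' := 1) (hL₀'.trans (map_one _).symm) m
    simpa using this
  have hθ : IsUnit (AdjoinRoot.mk (rootPoly v) (thetaPoly j v L₀)) := by
    refine isUnit_mk_of_eval fun m => ?_
    simp only [thetaPoly, eval_prod, eval_finsetSum, eval_pow, eval_mul, eval_C]
    refine IsUnit.prod_iff.mpr fun k _ => ?_
    have h := hSΩ (k, m) (mem_univ _)
    have he : ∑ a ∈ range j, ι (MvPolynomial.X k) ^ a * ι (MvPolynomial.X m) ^ (j - 1 - a) =
        (∑ a ∈ range j, (v k * L₀.eval (v m)) ^ a) * v m ^ (j - 1) := by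
      rw [Finset.sum_mul]
      refine Finset.sum_congr rfl fun a ha => ?_
      simp only [Finset.mem_range] at ha
      have h1 : v m ^ (j - 1) = v m ^ a * v m ^ (j - 1 - a) := by
        rw [← pow_add]; congr 1; omega
      rw [h1, ← mul_assoc, ← mul_pow, mul_assoc, hL₀m, mul_one]
    simp only at h
    rw [he] at h
    exact isUnit_of_mul_isUnit_left h
  obtain ⟨W₀, hW₀⟩ := AdjoinRoot.mk_surjective (g := rootPoly v) (hθ.unit⁻¹).val
  have hW₀' : AdjoinRoot.mk (rootPoly v) (W₀ * thetaPoly j v L₀) = 1 := by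
    rw [map_mul, hW₀]
    exact IsUnit.val_inv_mul _
  -- the identity in the universal ring, through its fraction field
  have hΩ : (j : Ω) * ev v (W₀ * X ^ (i * j)) = hc (fun m => v m ^ j) i := by
    let F := FractionRing Ω
    let φ : Ω →+* F := algebraMap Ω F
    have hφ : Function.Injective φ := IsFractionRing.injective Ω F
    apply hφ
    rw [map_mul, map_natCast, map_ev, Polynomial.map_mul, Polynomial.map_pow, map_X, map_hc]
    simp only [map_pow]
    have hinjv : Function.Injective v := fun a b h => MvPolynomial.X_injective (hιinj h)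
    refine core_field (u := fun m => φ (v m)) (hφ.comp hinjv) ?_ ?_
      (fun m h => (hvu m (mem_univ m)).ne_zero (hφ (h.trans (map_zero φ).symm))) (L₀.map φ) (W₀.map φ)
      (fun m => ?_) (fun m => ?_) i
    · intro h
      rw [← map_natCast φ, map_eq_zero_iff _ hφ] at h
      exact hjΩ.ne_zero h
    · intro a b h
      by_contra hab
      simp only [← map_pow] at h
      have h' := sub_eq_zero.mpr (hφ h)
      rw [← geom_sum₂_mul] at h'
      rcases mul_eq_zero.mp h' with h0 | h0
      · exact (hSΩ (a, b) (mem_univ _)).ne_zero h0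
      · exact hab (hinjv (sub_eq_zero.mp h0))
    · rw [eval_map_apply, ← map_mul, hL₀m, map_one]
    · rw [← map_thetaPoly, eval_map_apply, eval_map_apply, ← map_mul, ← eval_mul,
        eval_eq_of_mk_eq (q' := 1) (hW₀'.trans (map_one _).symm) m, eval_one, map_one]
  -- specialise
  have hgden : IsUnit (MvPolynomial.eval₂Hom (Int.castRingHom A) u (univDen r j)) := by
    simp only [univDen, map_mul, map_prod, map_natCast, map_sum, map_pow, MvPolynomial.eval₂Hom_X']
    exact (hjA.mul (IsUnit.prod_iff.mpr fun m _ => hu m)).mul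
      (IsUnit.prod_iff.mpr fun p _ => hS p.1 p.2)
  let ψ : Ω →+* A := IsLocalization.Away.lift (univDen r j) hgden
  have hψ : ∀ m, ψ (v m) = u m := fun m => by
    simp only [ψ, v, ι, IsLocalization.Away.lift_eq, MvPolynomial.eval₂Hom_X']
  have hmap : ∀ q : Polynomial Ω, AdjoinRoot.mk (rootPoly v) q = 1 →
      AdjoinRoot.mk (rootPoly u) (q.map ψ) = 1 := by
    intro q hq
    rw [← map_one (AdjoinRoot.mk (rootPoly v)), AdjoinRoot.mk_eq_mk] at hq
    obtain ⟨c, hc⟩ := hq
    rw [← map_one (AdjoinRoot.mk (rootPoly u)), AdjoinRoot.mk_eq_mk]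
    refine ⟨c.map ψ, ?_⟩
    have := congrArg (Polynomial.map ψ) hc
    rwa [Polynomial.map_sub, Polynomial.map_one, Polynomial.map_mul, map_rootPoly, funext hψ] at this
  have hLeq : AdjoinRoot.mk (rootPoly u) (L₀.map ψ) = AdjoinRoot.mk (rootPoly u) L := by
    have h := hmap _ hL₀'
    rw [Polynomial.map_mul, map_X, map_mul] at h
    rw [map_mul] at hL
    exact left_inv_eq_right_inv h (by rw [mul_comm]; exact hL)
  have hWeq : AdjoinRoot.mk (rootPoly u) (W₀.map ψ) = AdjoinRoot.mk (rootPoly u) W := by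
    have h := hmap _ hW₀'
    rw [Polynomial.map_mul, map_thetaPoly, funext hψ, map_mul] at h
    have hθeq : AdjoinRoot.mk (rootPoly u) (thetaPoly j u (L₀.map ψ)) =
        AdjoinRoot.mk (rootPoly u) (thetaPoly j u L) := by
      simp only [thetaPoly, map_prod, map_sum, map_pow, map_mul, hLeq]
    rw [hθeq] at h
    rw [map_mul] at hW
    exact left_inv_eq_right_inv h (by rw [mul_comm]; exact hW)
  have := congrArg ψ hΩ
  rw [map_mul, map_natCast, map_ev, Polynomial.map_mul, Polynomial.map_pow, map_X, map_hc] at this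
  simp only [map_pow, hψ] at this
  rw [← this]
  congr 1
  refine ev_congr (Nat.succ_pos r) ?_
  rw [map_mul, map_mul, hWeq]

end Universal

section Lambda

variable {K : Type u} [CommRing K] [LambdaOps K] {P : PosStructure K}

theorem lam_mul_line (hK : HasSplitting K P) {w : K} (hw : P.IsLine w) (x : K) (k : ℕ) :
    LambdaOps.lam k (x * w) = LambdaOps.lam k x * w ^ k := by
  have key : ∀ e ∈ P.pos, lamSeries (e * w) = PowerSeries.rescale w (lamSeries e) := by
    intro e he
    obtain ⟨L, f, hf, -, s, hs1, hs2, -⟩ := exists_split hK he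
    ext n
    rw [lamSeries, PowerSeries.coeff_mk, PowerSeries.coeff_rescale, lamSeries, PowerSeries.coeff_mk]
    refine hf.injective ?_
    rw [hf.isLambdaHom, map_mul, map_mul, map_pow, hf.isLambdaHom, ← hs2, lam_sum_lines hs1,
      show s.sum * f w = (s.map fun v => v * f w).sum by simp [Multiset.sum_map_mul_right],
      lam_sum_lines, ← smul_eq_mul, Multiset.pow_smul_esymm]
    · congr 1
      refine Multiset.map_congr rfl fun v _ => ?_
      rw [smul_eq_mul, mul_comm]
    · intro v hv
      obtain ⟨v', hv', rfl⟩ := Multiset.mem_map.mp hv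
      exact line_mul (hs1 v' hv') (line_map hf hw)
  obtain ⟨e, f, he, hf, rfl⟩ := P.exists_sub x
  have h1 := lamSeries_add ((e - f) * w) (f * w)
  rw [← add_mul, sub_add_cancel, key e he, key f hf] at h1
  have h2 := congrArg (PowerSeries.rescale w) (lamSeries_add (e - f) f)
  rw [sub_add_cancel, map_mul, h1] at h2
  have hu : IsUnit (PowerSeries.rescale w (lamSeries f)) :=
    (PowerSeries.isUnit_iff_constantCoeff.mpr (by rw [constantCoeff_lamSeries]; exact isUnit_one)).map _
  have h3 := congrArg (PowerSeries.coeff k) (hu.mul_left_inj.mp h2)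
  rw [PowerSeries.coeff_rescale, lamSeries, PowerSeries.coeff_mk, lamSeries, PowerSeries.coeff_mk] at h3
  rw [h3, mul_comm]

theorem isNilpotent_of_aug_eq_zero {N : ℕ} (hN : gammaFiltration P N = ⊥) {y : K}
    (hy : P.aug y = 0) : IsNilpotent y := by
  refine ⟨N, ?_⟩
  have := (gammaFam P).pow_mem (mem_gammaFiltration_one hy) N
  rw [mul_one] at this
  change y ^ N ∈ gammaFiltration P N at this
  rwa [hN, AddSubgroup.mem_bot] at this

theorem isUnit_of_aug_eq_one {N : ℕ} (hN : gammaFiltration P N = ⊥) {y : K} (hy : P.aug y = 1) :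
    IsUnit y := by
  have := (isNilpotent_of_aug_eq_zero hN (show P.aug (y - 1) = 0 by rw [map_sub, hy, map_one, sub_self])).isUnit_add_one
  rwa [sub_add_cancel] at this

theorem gammaFiltration_map {L : Type u} [CommRing L] [LambdaOps L] {Q : PosStructure L} {f : K →+* L}
    (hf : IsExtension P Q f) {n : ℕ} {x : K} (hx : x ∈ gammaFiltration P n) :
    f x ∈ gammaFiltration Q n := by
  rcases eq_or_ne n 0 with rfl | hn
  · exact gammaFiltration_zero _
  refine gammaFiltration_induction (motive := fun z => f z ∈ gammaFiltration Q n) hn hx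
    (fun l h1 h2 => ?_) (by simp) (fun a b ha hb => by rw [map_add]; exact add_mem ha hb)
    fun a ha => by rw [map_neg]; exact neg_mem ha
  have := prod_gamma_mem (P := Q) (n := n) (l.map fun p => (p.1, f p.2)) (fun p hp => by
    obtain ⟨q, hq, rfl⟩ := List.mem_map.mp hp
    rw [hf.aug_comp, h1 q hq]) (by simpa [List.map_map, Function.comp_def] using h2)
  simpa [map_list_prod, List.map_map, Function.comp_def, map_gamma hf.isLambdaHom] using this

theorem isNilpotent_line_of_split {N : ℕ} (hN : gammaFiltration P N = ⊥) {L : Type u} [CommRing L]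
    [LambdaOps L] {Q : PosStructure L} {f : K →+* L} (hf : IsExtension P Q f) {e : K}
    {s : Multiset L} (hs1 : ∀ u ∈ s, Q.IsLine u) (hs2 : s.sum = f e) (hcard : (s.card : ℤ) = P.aug e)
    {v : L} (hv : v ∈ s) : IsNilpotent (v - 1) := by
  set t := s.map (· - 1) with ht
  set y := e - (P.aug e : K)
  have hy : P.aug y = 0 := by simp [y]
  have hg : ∀ i, t.esymm i = f (gamma i y) := fun i => by
    rw [map_gamma hf.isLambdaHom, map_sub, map_intCast, ← hs2, ← hcard, Int.cast_natCast,
      gamma_sum_lines hs1]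
  have hz : v - 1 ∈ t := Multiset.mem_map_of_mem _ hv
  have h0 : ((t.map fun a => X - C a).prod).eval (v - 1) = 0 := by
    obtain ⟨t', ht'⟩ := Multiset.exists_cons_of_mem hz
    rw [ht', Multiset.map_cons, Multiset.prod_cons, eval_mul]
    simp
  rw [Multiset.prod_X_sub_X_eq_sum_esymm, eval_finsetSum, Finset.sum_range_succ'] at h0
  simp only [eval_mul, eval_pow, eval_neg, eval_one, eval_C, eval_X, pow_zero, one_mul,
    Nat.sub_zero, esymm_zero'] at h0
  refine IsNilpotent.of_pow (m := t.card) ?_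
  rw [eq_neg_of_add_eq_zero_right h0]
  refine IsNilpotent.neg ((mem_nilradical (R := L)).mp (sum_mem fun k _ => ?_))
  refine Ideal.mul_mem_left _ _ (Ideal.mul_mem_right _ _ ?_)
  rw [mem_nilradical, hg]
  refine ⟨N, ?_⟩
  rw [← map_pow]
  have hm : gamma (k + 1) y ^ N ∈ gammaFiltration P N := by
    have := (gammaFam P).pow_mem (show gamma (k + 1) y ∈ gammaFiltration P (k + 1) by
      simpa using prod_gamma_mem (P := P) (n := k + 1) [(k + 1, y)] (by simpa using hy) (by simp)) N
    exact gammaFiltration_anti (Nat.le_mul_of_pos_right N (Nat.succ_pos k)) this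
  rw [hN, AddSubgroup.mem_bot] at hm
  rw [hm, map_zero]

end Lambda

section Main

open TensorProduct

variable {K : Type u} [CommRing K] [LambdaOps K] {P : PosStructure K} {e : K} {r : ℕ}

set_option maxHeartbeats 1000000 in
theorem rr_elementary (hK : HasSplitting K P) (he : e ∈ P.pos) (hr : P.aug e = r + 1)
    [LambdaOps (AdjoinRoot (KRR.extPoly P e))] (Pe : PosStructure (AdjoinRoot (KRR.extPoly P e)))
    (hext : IsExtension P Pe (AdjoinRoot.of (KRR.extPoly P e)))
    (hline : Pe.IsLine (AdjoinRoot.root (KRR.extPoly P e))) (hsplit : HasSplitting _ Pe)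
    (N : ℕ) (hN : gammaFiltration Pe N = ⊥)
    (f : AdjoinRoot (KRR.extPoly P e) →ₗ[K] K)
    (hf : ∀ i : ℕ, i ≤ r → f (AdjoinRoot.root (KRR.extPoly P e) ^ i) = KRR.sigma i e)
    (linv : AdjoinRoot (KRR.extPoly P e)) (hlinv : linv * AdjoinRoot.root (KRR.extPoly P e) = 1)
    (j : ℕ) (hj : 1 ≤ j) (R : Type) [CommRing R] [Module.Flat ℤ R] (hjR : IsUnit (j : R)) :
    (∃ w : R ⊗[ℤ] AdjoinRoot (KRR.extPoly P e),
      w * ((1 : R) ⊗ₜ[ℤ] KRR.bott Pe j (AdjoinRoot.of (KRR.extPoly P e) e * linv)) = 1) ∧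
    ∀ w : R ⊗[ℤ] AdjoinRoot (KRR.extPoly P e),
      w * ((1 : R) ⊗ₜ[ℤ] KRR.bott Pe j (AdjoinRoot.of (KRR.extPoly P e) e * linv)) = 1 →
      ∀ x : AdjoinRoot (KRR.extPoly P e),
        (1 : R) ⊗ₜ[ℤ] adams P j (f x) =
          LinearMap.lTensor R f.toAddMonoidHom.toIntLinearMap
            ((j : R ⊗[ℤ] AdjoinRoot (KRR.extPoly P e)) * w *
              ((1 : R) ⊗ₜ[ℤ] adams Pe j x)) := by
  set ι := AdjoinRoot.of (KRR.extPoly P e) with hι
  have hauginv : Pe.aug linv = 1 := by
    have := congrArg Pe.aug hlinv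
    rwa [map_mul, hline.2, mul_one, map_one] at this
  have haugy : (Pe.aug (ι e * linv)).toNat = r + 1 := by
    rw [map_mul, hauginv, mul_one, hext.aug_comp, hr]
    omega
  have hlam : ∀ k, LambdaOps.lam k (ι e * linv) = ι (LambdaOps.lam k e) * linv ^ k := fun k => by
    have h := lam_mul_line hsplit hline (ι e * linv) k
    rw [mul_assoc, hlinv, mul_one, ← hext.isLambdaHom] at h
    calc LambdaOps.lam k (ι e * linv)
        = LambdaOps.lam k (ι e * linv) * (AdjoinRoot.root (KRR.extPoly P e) * linv) ^ k := by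
          rw [mul_comm (AdjoinRoot.root (KRR.extPoly P e)) linv, hlinv, one_pow, mul_one]
      _ = _ := by rw [mul_pow, ← mul_assoc, ← h]
  refine ⟨?_, ?_⟩
  · -- `θ^j` differs from `j^(r+1)` by a nilpotent
    have haug : Pe.aug (KRR.bott Pe j (ι e * linv)) = (j : ℤ) ^ (r + 1) := by
      rw [KRR.bott, haugy, map_aeval_int]
      have h1 : (fun i : Fin (r + 1) => Pe.aug (LambdaOps.lam (i.1 + 1) (ι e * linv))) = fun i =>
          MvPolynomial.aeval (fun _ : Fin (r + 1) => (1 : ℤ)) (MvPolynomial.esymm (Fin (r + 1)) ℤ (i.1 + 1)) := by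
        funext i
        obtain ⟨L, φ, hφ, -, s, hs1, hs2, hcard⟩ := exists_split hK he
        rw [hlam, map_mul, map_pow, hauginv, one_pow, mul_one, hext.aug_comp, ← hφ.aug_comp,
          hφ.isLambdaHom, ← hs2, lam_sum_lines hs1, map_esymm',
          Multiset.map_congr rfl (fun u hu => (hs1 u hu).2), MvPolynomial.aeval_esymm_eq_multiset_esymm]
        congr 1
        have hc : s.card = r + 1 := by exact_mod_cast hcard.trans hr
        simp [Multiset.map_const', hc]
      rw [h1, ← MvPolynomial.comp_aeval_apply]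
      have key : MvPolynomial.aeval (fun i : Fin (r + 1) =>
          MvPolynomial.esymm (Fin (r + 1)) ℤ (i.1 + 1)) (KRR.bottPoly j (r + 1)) = KRR.bottSym j (r + 1) := by
        rw [KRR.bottPoly, ← MvPolynomial.esymmAlgHom_apply]
        exact congrArg Subtype.val (AlgEquiv.apply_symm_apply
          (MvPolynomial.esymmAlgEquiv (Fin (r + 1)) ℤ (Fintype.card_fin _)) _)
      rw [key, KRR.bottSym]
      simp [map_prod, map_sum]
    have hnil : IsNilpotent (KRR.bott Pe j (ι e * linv) - ((j ^ (r + 1) : ℕ) : AdjoinRoot (KRR.extPoly P e))) :=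
      isNilpotent_of_aug_eq_zero hN (by rw [map_sub, haug, map_natCast]; push_cast; ring)
    have hnil' := hnil.map
      (Algebra.TensorProduct.includeRight (R := ℤ) (A := R) (B := AdjoinRoot (KRR.extPoly P e)))
    have hu : IsUnit (((j ^ (r + 1) : ℕ) : R ⊗[ℤ] AdjoinRoot (KRR.extPoly P e))) := by
      have := (hjR.pow (r + 1)).map (Algebra.TensorProduct.includeLeftRingHom (R := ℤ) (A := R)
        (B := AdjoinRoot (KRR.extPoly P e)))
      rw [← Nat.cast_pow, map_natCast] at this
      exact this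
    have h := hnil'.isUnit_add_left_of_commute hu (Commute.all _ _)
    rw [map_sub, map_natCast, add_sub_cancel] at h
    obtain ⟨w, hw⟩ := h.exists_left_inv
    exact ⟨w, hw⟩
  intro w hw x
  obtain ⟨L, φ, hφ, hL, s, hs1, hs2, hcard⟩ := exists_split hK he
  have hNK : gammaFiltration P N = ⊥ := by
    rw [eq_bot_iff]
    intro z hz
    have := gammaFiltration_map hext hz
    rw [hN, AddSubgroup.mem_bot, ← map_zero ι] at this
    exact hext.injective this
  obtain ⟨u, hu⟩ : ∃ u : Fin (r + 1) → L.carrier, emult u = s := by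
    have hlen : s.toList.length = r + 1 := by
      rw [Multiset.length_toList]; exact_mod_cast hcard.trans hr
    refine ⟨fun i => s.toList[i.1]'(by omega), ?_⟩
    rw [emult, Fin.univ_val_map]
    conv_rhs => rw [← Multiset.coe_toList s]
    congr 1
    exact List.ext_getElem (by rw [List.length_ofFn, hlen]) fun n h1 h2 => by rw [List.getElem_ofFn]
  have hmem : ∀ m, u m ∈ s := fun m => hu ▸ Multiset.mem_map_of_mem _ (Finset.mem_univ_val m)
  let g : L.carrier →+* R ⊗[ℤ] L.carrier :=
    (Algebra.TensorProduct.includeRight (R := ℤ) (A := R) (B := L.carrier)).toRingHom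
  let gK := g.comp φ
  let u' := fun m => g (u m)
  have hesymm : ∀ k, gK (LambdaOps.lam k e) = (emult u').esymm k := fun k => by
    rw [RingHom.comp_apply, hφ.isLambdaHom, ← hs2, lam_sum_lines hs1, map_esymm', ← hu, emult_map]
  have hsig : ∀ k, φ (KRR.sigma k e) = hc u k := by
    refine hc_unique u (fun k => φ (KRR.sigma k e)) fun i => ?_
    have h := congrArg φ (sum_lam_mul_sigma e i)
    simp only [map_sum, map_mul, map_pow, map_neg, map_one] at h
    rw [hu]
    convert h using 1
    · exact Finset.sum_congr rfl fun k _ => by rw [hφ.isLambdaHom, ← hs2, lam_sum_lines hs1]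
    · split_ifs <;> simp
  have hsig' : ∀ k, gK (KRR.sigma k e) = hc u' k := fun k => by
    rw [RingHom.comp_apply, hsig, map_hc]
  have hp : (KRR.extPoly P e).map gK = rootPoly u' := by
    rw [extPoly_eq hr, rootPoly_eq, Polynomial.map_sum]
    refine Finset.sum_congr rfl fun k _ => ?_
    rw [Polynomial.map_mul, Polynomial.map_pow, map_X, map_C, map_mul gK, map_pow gK, map_neg, map_one,
      hesymm]
  -- units
  have hjA : IsUnit (j : R ⊗[ℤ] L.carrier) := by
    have := hjR.map (Algebra.TensorProduct.includeLeftRingHom (R := ℤ) (A := R) (B := L.carrier))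
    rwa [map_natCast] at this
  have hnilu : ∀ m, IsNilpotent (u' m - 1) := fun m => by
    have := (isNilpotent_line_of_split hNK hφ hs1 hs2 hcard (hmem m)).map g
    rwa [map_sub, map_one] at this
  have huu : ∀ m, IsUnit (u' m) := fun m => by
    have := (hnilu m).isUnit_add_one
    rwa [sub_add_cancel] at this
  have hS : ∀ k m, IsUnit (∑ a ∈ range j, u' k ^ a * u' m ^ (j - 1 - a)) := fun k m => by
    have hn : IsNilpotent (∑ a ∈ range j, (u' k ^ a * u' m ^ (j - 1 - a) - 1)) := by
      refine (mem_nilradical (R := R ⊗[ℤ] L.carrier)).mp (sum_mem fun a _ => ?_)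
      rw [← Ideal.Quotient.eq_zero_iff_mem]
      have h1 : ∀ m, Ideal.Quotient.mk (nilradical (R ⊗[ℤ] L.carrier)) (u' m) = 1 := fun m => by
        rw [← map_one (Ideal.Quotient.mk _), Ideal.Quotient.eq, mem_nilradical]
        exact hnilu m
      simp [h1]
    have h := hn.isUnit_add_left_of_commute hjA (Commute.all _ _)
    rwa [Finset.sum_sub_distrib, Finset.sum_const, Finset.card_range, nsmul_one, add_sub_cancel] at h
  -- base change of `K_e`
  let ofA := AdjoinRoot.of (rootPoly u')
  let Ψ₁ : AdjoinRoot (KRR.extPoly P e) →+* AdjoinRoot (rootPoly u') :=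
    AdjoinRoot.lift (ofA.comp gK) (AdjoinRoot.root (rootPoly u')) (by
      rw [← eval₂_map, hp]
      exact AdjoinRoot.eval₂_root _)
  have hΨ₁ : ∀ q : K[X], Ψ₁ (AdjoinRoot.mk _ q) = AdjoinRoot.mk (rootPoly u') (q.map gK) := fun q => by
    induction q using Polynomial.induction_on' with
    | add p q hp hq => rw [map_add, map_add, hp, hq, Polynomial.map_add, map_add]
    | monomial k a =>
      rw [← C_mul_X_pow_eq_monomial, map_mul, map_pow, AdjoinRoot.mk_C, AdjoinRoot.mk_X, map_mul,
        map_pow, AdjoinRoot.lift_of, AdjoinRoot.lift_root, Polynomial.map_mul, Polynomial.map_pow, map_C,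
        map_X, map_mul, map_pow, AdjoinRoot.mk_C, AdjoinRoot.mk_X]
      rfl
  let Ψa : R →ₐ[ℤ] AdjoinRoot (rootPoly u') :=
    { ofA.comp (Algebra.TensorProduct.includeLeftRingHom (R := ℤ) (A := R) (B := L.carrier)) with
      commutes' := fun n => by simp }
  let Ψb : AdjoinRoot (KRR.extPoly P e) →ₐ[ℤ] AdjoinRoot (rootPoly u') :=
    { Ψ₁ with commutes' := fun n => by simp }
  haveI : IsScalarTower ℤ ℤ (AdjoinRoot (rootPoly u')) :=
    ⟨fun a b c => by rw [smul_eq_mul, mul_smul]⟩
  let Ψ : R ⊗[ℤ] AdjoinRoot (KRR.extPoly P e) →ₐ[ℤ] AdjoinRoot (rootPoly u') :=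
    Algebra.TensorProduct.lift Ψa Ψb fun _ _ => Commute.all _ _
  have hΨt : ∀ c y, Ψ (c ⊗ₜ[ℤ] y) = ofA (c ⊗ₜ[ℤ] (1 : L.carrier)) * Ψ₁ y := fun c y =>
    Algebra.TensorProduct.lift_tmul _ _ _ c y
  have hbridge : ∀ z : R ⊗[ℤ] AdjoinRoot (KRR.extPoly P e), ∀ q : (R ⊗[ℤ] L.carrier)[X],
      AdjoinRoot.mk (rootPoly u') q = Ψ z →
        LinearMap.lTensor R φ.toAddMonoidHom.toIntLinearMap
          (LinearMap.lTensor R f.toAddMonoidHom.toIntLinearMap z) = ev u' q := by
    intro z
    induction z using TensorProduct.induction_on with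
    | zero =>
      intro q hq
      rw [map_zero, map_zero, ← map_zero (ev u')]
      exact ev_congr (Nat.succ_pos r) (by rw [hq, map_zero, map_zero])
    | add a b ha hb =>
      intro q hq
      obtain ⟨qa, hqa⟩ := AdjoinRoot.mk_surjective (Ψ a)
      obtain ⟨qb, hqb⟩ := AdjoinRoot.mk_surjective (Ψ b)
      rw [map_add, map_add, ha qa hqa, hb qb hqb, ← map_add]
      exact ev_congr (Nat.succ_pos r) (by rw [hq, map_add, map_add, hqa, hqb])
    | tmul c y =>
      intro q hq
      obtain ⟨g₀, rfl⟩ := AdjoinRoot.mk_surjective y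
      have heq : ev u' q = ev u' (C (c ⊗ₜ[ℤ] (1 : L.carrier)) * g₀.map gK) := by
        refine ev_congr (Nat.succ_pos r) ?_
        rw [hq, hΨt, map_mul, AdjoinRoot.mk_C]
        congr 1
        exact hΨ₁ g₀
      rw [heq, LinearMap.lTensor_tmul, LinearMap.lTensor_tmul]
      clear hq heq
      induction g₀ using Polynomial.induction_on' with
      | add p q hp hq =>
        rw [map_add, map_add, map_add, tmul_add, hp, hq, Polynomial.map_add, mul_add, map_add]
      | monomial k a =>
        rw [← C_mul_X_pow_eq_monomial, Polynomial.map_mul, Polynomial.map_pow, map_C, map_X, ← mul_assoc,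
          ← C_mul, ev_C_mul_X_pow, ← hsig' k, map_mul, map_pow, AdjoinRoot.mk_C, AdjoinRoot.mk_X]
        change c ⊗ₜ[ℤ] φ (f (ι a * AdjoinRoot.root (KRR.extPoly P e) ^ k)) = _
        rw [map_of_mul, functional_root_pow he hr f hf, map_mul]
        simp [gK, g, Algebra.TensorProduct.tmul_mul_tmul]
  obtain ⟨W, hW⟩ := AdjoinRoot.mk_surjective (Ψ w)
  obtain ⟨L₀, hL₀⟩ := AdjoinRoot.mk_surjective linv
  set L₁ := L₀.map gK with hL₁
  have hL' : AdjoinRoot.mk (rootPoly u') (L₁ * X) = 1 := by
    have h := congrArg Ψ₁ hlinv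
    rw [map_mul, map_one, AdjoinRoot.lift_root, ← hL₀, hΨ₁] at h
    rw [map_mul, AdjoinRoot.mk_X]
    exact h
  have hθ : Ψ₁ (KRR.bott Pe j (ι e * linv)) = AdjoinRoot.mk (rootPoly u') (thetaPoly j u' L₁) := by
    rw [KRR.bott, haugy, map_aeval_int]
    have h1 : (fun i : Fin (r + 1) => Ψ₁ (LambdaOps.lam (i.1 + 1) (ι e * linv))) = fun i =>
        MvPolynomial.aeval (fun m => AdjoinRoot.mk (rootPoly u') (C (u' m) * L₁))
          (MvPolynomial.esymm (Fin (r + 1)) ℤ (i.1 + 1)) := by
      funext i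
      rw [hlam, map_mul, map_pow, AdjoinRoot.lift_of, RingHom.comp_apply, hesymm, ← hL₀, hΨ₁,
        map_esymm', MvPolynomial.aeval_esymm_eq_multiset_esymm, mul_comm, ← smul_eq_mul,
        Multiset.pow_smul_esymm]
      congr 1
      simp [emult, Multiset.map_map, Function.comp_def, ofA, mul_comm, hL₁]
    rw [h1, ← MvPolynomial.comp_aeval_apply]
    have key : MvPolynomial.aeval (fun i : Fin (r + 1) =>
        MvPolynomial.esymm (Fin (r + 1)) ℤ (i.1 + 1)) (KRR.bottPoly j (r + 1)) = KRR.bottSym j (r + 1) := by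
      rw [KRR.bottPoly, ← MvPolynomial.esymmAlgHom_apply]
      exact congrArg Subtype.val (AlgEquiv.apply_symm_apply
        (MvPolynomial.esymmAlgEquiv (Fin (r + 1)) ℤ (Fintype.card_fin _)) _)
    rw [key, KRR.bottSym, thetaPoly]
    simp [map_prod, map_sum]
  have hW' : AdjoinRoot.mk (rootPoly u') (W * thetaPoly j u' L₁) = 1 := by
    have h := congrArg Ψ hw
    rw [map_mul Ψ, map_one Ψ, ← hW, hΨt, ← Algebra.TensorProduct.one_def, map_one, one_mul] at h
    rw [map_mul, ← hθ]
    exact h
  have hflat : Function.Injective (LinearMap.lTensor R φ.toAddMonoidHom.toIntLinearMap) := by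
    exact Module.Flat.lTensor_preserves_injective_linearMap _ hφ.injective
  obtain ⟨g₀, rfl⟩ := AdjoinRoot.mk_surjective x
  let ψe := adamsHom j hj (adamsOp_one_pos Pe hj) (adamsOp_mul_pos hsplit hj)
  let ψK := adamsHom j hj (adamsOp_one_pos P hj) (adamsOp_mul_pos hK hj)
  let ψL := adamsHom j hj (adamsOp_one_pos L.posStr hj) (adamsOp_mul_pos hL hj)
  rw [adams_eq P hj, adams_eq Pe hj]
  change (1 : R) ⊗ₜ[ℤ] ψK (f (AdjoinRoot.mk _ g₀)) = LinearMap.lTensor R f.toAddMonoidHom.toIntLinearMap
    ((j : R ⊗[ℤ] AdjoinRoot (KRR.extPoly P e)) * w * ((1 : R) ⊗ₜ[ℤ] ψe (AdjoinRoot.mk _ g₀)))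
  induction g₀ using Polynomial.induction_on' with
  | add p q hp hq => simp only [map_add, tmul_add, hp, hq, mul_add]
  | monomial i a =>
    apply hflat
    have hψe : ψe (AdjoinRoot.mk _ (monomial i a)) =
        ι (ψK a) * AdjoinRoot.root (KRR.extPoly P e) ^ (i * j) := by
      rw [← C_mul_X_pow_eq_monomial, map_mul, map_pow, AdjoinRoot.mk_C, AdjoinRoot.mk_X, map_mul,
        map_pow, show ψe (AdjoinRoot.root (KRR.extPoly P e)) = AdjoinRoot.root (KRR.extPoly P e) ^ j from
          adamsOp_line hline hj, ← pow_mul, mul_comm j i]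
      congr 1
      exact (map_adamsOp hext.isLambdaHom j a).symm
    have hψf : gK (ψK (f (AdjoinRoot.mk _ (monomial i a)))) =
        gK (ψK a) * hc (fun m => u' m ^ j) i := by
      rw [← C_mul_X_pow_eq_monomial, map_mul, map_pow, AdjoinRoot.mk_C, AdjoinRoot.mk_X, map_of_mul,
        functional_root_pow he hr f hf, map_mul, map_mul]
      congr 1
      rw [RingHom.comp_apply, show φ (ψK (KRR.sigma i e)) = ψL (φ (KRR.sigma i e)) from
        map_adamsOp hφ.isLambdaHom j _, hsig, map_hc, map_hc]
      congr 1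
      funext m
      rw [show ψL (u m) = u m ^ j from adamsOp_line (hs1 _ (hmem m)) hj, map_pow]
    rw [hψe]
    have hq : AdjoinRoot.mk (rootPoly u')
        (C ((j : R ⊗[ℤ] L.carrier) * gK (ψK a)) * (W * X ^ (i * j))) =
        Ψ ((j : R ⊗[ℤ] AdjoinRoot (KRR.extPoly P e)) * w *
          ((1 : R) ⊗ₜ[ℤ] (ι (ψK a) * AdjoinRoot.root (KRR.extPoly P e) ^ (i * j)))) := by
      rw [map_mul Ψ, map_mul Ψ, map_natCast Ψ, hΨt, ← Algebra.TensorProduct.one_def, map_one, one_mul]
      rw [map_mul Ψ₁, map_pow Ψ₁, AdjoinRoot.lift_of, AdjoinRoot.lift_root, RingHom.comp_apply,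
        ← hW]
      simp only [map_mul, map_pow, map_natCast, AdjoinRoot.mk_C, AdjoinRoot.mk_X, ofA, gK, RingHom.comp_apply]
      ring
    rw [hbridge _ _ hq, ← smul_eq_C_mul, map_smul, smul_eq_mul, LinearMap.lTensor_tmul]
    change gK (ψK (f (AdjoinRoot.mk _ (monomial i a)))) = _
    rw [hψf, mul_assoc, mul_left_comm,
      univ_identity u' hj hjA huu hS L₁ W hL' hW' i]

end Main

end Groth.Agent.KRRLam
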