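import Groth.Agent.KRRLam.ElemExt
import Groth.Agent.KRRLam.RRProj

/-!
The γ-filtration of an elementary extension.
-/

universe u

open Finset LambdaRing Polynomial

namespace Groth.Agent.KRRLam.ElemFil

open Groth.Agent.Lambda

theorem esymm_map_affine {R : Type*} [CommRing R] (t : Multiset R) (c d : R) {n : ℕ}
    (hn : n ≤ t.card) :
    (t.map fun a => a * c + d).esymm n = ∑ q ∈ range (t.card + 1),
      c ^ q * t.esymm q * (d ^ (t.card - q - (t.card - n)) * ((t.card - q).choose (t.card - n) : R)) := by
  have h1 := Multiset.prod_X_add_C_eq_sum_esymm (t.map fun a => c • a)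
  have h2 := congrArg (fun p : R[X] => (p.comp (X + C d)).coeff (t.card - n)) h1
  simp only [Multiset.card_map, multiset_prod_comp, Multiset.map_map, finsetSum_coeff, Function.comp_def,
    Polynomial.sum_comp, mul_comp, pow_comp, C_comp, X_comp, add_comp, coeff_C_mul, coeff_X_add_C_pow] at h2
  have h3 := Multiset.prod_X_add_C_coeff (t.map fun a => a * c + d) (k := t.card - n)
    (by rw [Multiset.card_map]; omega)
  rw [Multiset.card_map, Nat.sub_sub_self hn, Multiset.map_map] at h3
  rw [← h3]
  refine Eq.trans ?_ (h2.trans (Finset.sum_congr rfl fun q _ => ?_))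
  · refine congrArg (fun z : Multiset R[X] => z.prod.coeff (t.card - n)) (Multiset.map_congr rfl fun a _ => ?_)
    simp only [Function.comp_apply, smul_eq_mul, map_add, map_mul]
    ring
  · rw [← Multiset.pow_smul_esymm, smul_eq_mul]

variable {K : Type u} [CommRing K] [LambdaOps K] {P : PosStructure K} {e : K} {r : ℕ}

local notation "ι" => AdjoinRoot.of (KRR.extPoly P e)

/-- The candidate filtration. -/
noncomputable def S (P : PosStructure K) (e : K) (r n : ℕ) : AddSubgroup (AdjoinRoot (KRR.extPoly P e)) :=
  ⨆ i ∈ Finset.range (r + 1), AddSubgroup.map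
    ((AddMonoidHom.mulRight ((AdjoinRoot.root (KRR.extPoly P e) - 1) ^ i)).comp
      (AdjoinRoot.of (KRR.extPoly P e)).toAddMonoidHom) (gammaFiltration P (n - i))

theorem mem_S_of_le {n i : ℕ} (hi : i ≤ r) {a : K} (ha : a ∈ gammaFiltration P (n - i)) :
    AdjoinRoot.of (KRR.extPoly P e) a * (AdjoinRoot.root (KRR.extPoly P e) - 1) ^ i ∈ S P e r n :=
  AddSubgroup.mem_iSup_of_mem i (AddSubgroup.mem_iSup_of_mem (Finset.mem_range.mpr (by omega))
    (AddSubgroup.mem_map.mpr ⟨a, ha, rfl⟩))

theorem S_induction {n : ℕ} {motive : AdjoinRoot (KRR.extPoly P e) → Prop}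
    {x : AdjoinRoot (KRR.extPoly P e)} (hx : x ∈ S P e r n)
    (mem : ∀ (i : ℕ) (a : K), i ≤ r → a ∈ gammaFiltration P (n - i) →
      motive (AdjoinRoot.of (KRR.extPoly P e) a * (AdjoinRoot.root (KRR.extPoly P e) - 1) ^ i))
    (zero : motive 0) (add : ∀ x y, motive x → motive y → motive (x + y)) : motive x := by
  rw [S, iSup_subtype'] at hx
  refine AddSubgroup.iSup_induction _ (C := motive) hx (fun i y hy => ?_) zero
    fun x y hx hy => add x y hx hy
  obtain ⟨a, ha, rfl⟩ := AddSubgroup.mem_map.mp hy
  exact mem i.1 a (by have := Finset.mem_range.mp i.2; omega) ha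

section

variable (hK : HasSplitting K P) (he : e ∈ P.pos) (hr : P.aug e = r + 1)
include hK he hr

theorem root_relation' :
    ∑ q ∈ range (r + 2), AdjoinRoot.of (KRR.extPoly P e)
      ((-1 : K) ^ q * gamma q (e - ((r + 1 : ℕ) : K))) *
        (AdjoinRoot.root (KRR.extPoly P e) - 1) ^ (r + 1 - q) = 0 := by
  obtain ⟨L, φ, hφ, -, s, hs1, hs2, hcard⟩ := exists_split hK he
  have hc : s.card = r + 1 := by omega
  have h1 : ((KRR.extPoly P e).comp (X + 1)) = ∑ q ∈ range (r + 2),
      C ((-1 : K) ^ q * gamma q (e - ((r + 1 : ℕ) : K))) * X ^ (r + 1 - q) := by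
    apply Polynomial.map_injective φ hφ.injective
    rw [Polynomial.map_comp, ElemExt.extPoly_map hφ hs1 hs2, Polynomial.map_add, map_X,
      Polynomial.map_one, multiset_prod_comp, Multiset.map_map, Polynomial.map_sum]
    have h := Multiset.prod_X_sub_X_eq_sum_esymm (s.map (· - 1))
    rw [Multiset.card_map, hc, Multiset.map_map] at h
    refine Eq.trans ?_ (h.trans (Finset.sum_congr rfl fun q _ => ?_))
    · refine congrArg Multiset.prod (Multiset.map_congr rfl fun a _ => ?_)
      simp only [Function.comp_apply, sub_comp, X_comp, C_comp, map_sub, map_one]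
      ring
    · rw [Polynomial.map_mul, Polynomial.map_pow, map_X, map_C, map_mul φ, map_pow φ, map_neg φ,
        map_one φ, map_gamma hφ.isLambdaHom, map_sub φ, map_natCast φ, ← hs2, ← hc,
        gamma_sum_lines hs1, map_mul, map_pow, map_neg, map_one, mul_assoc]
  have h2 := congrArg (aeval (AdjoinRoot.root (KRR.extPoly P e) - 1)) h1
  rw [aeval_comp, map_add, aeval_X, map_one, sub_add_cancel, AdjoinRoot.aeval_eq,
    AdjoinRoot.mk_self, map_sum] at h2
  rw [h2]
  simp [AdjoinRoot.algebraMap_eq]

theorem aug_sub_rank : P.aug (e - ((r + 1 : ℕ) : K)) = 0 := by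
  rw [map_sub, hr, map_natCast]
  push_cast
  ring

theorem mem_S : ∀ (i : ℕ) {n : ℕ} {a : K}, a ∈ gammaFiltration P (n - i) →
    AdjoinRoot.of (KRR.extPoly P e) a * (AdjoinRoot.root (KRR.extPoly P e) - 1) ^ i ∈ S P e r n := by
  intro i
  induction i using Nat.strong_induction_on with
  | _ i ih =>
    intro n a ha
    rcases Nat.lt_or_ge r i with hi | hi
    swap
    · exact mem_S_of_le hi ha
    have h := root_relation' hK he hr
    rw [Finset.sum_range_succ', pow_zero, one_mul, gamma_zero, map_one, one_mul, Nat.sub_zero,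
      add_eq_zero_iff_eq_neg'] at h
    rw [show i = (r + 1) + (i - (r + 1)) by omega, pow_add, h, neg_mul, Finset.sum_mul, mul_neg,
      Finset.mul_sum]
    refine neg_mem (sum_mem fun q hq => ?_)
    have hq' := Finset.mem_range.mp hq
    rw [← mul_assoc, ← mul_assoc, ← map_mul, mul_assoc, ← pow_add]
    refine ih _ (by omega) ?_
    refine gammaFiltration_anti (m := _) (n := (n - i) + (q + 1)) (by omega) ?_
    refine gammaFiltration_mul ha (gammaFiltration_mul_mem _ ?_)
    simpa using prod_gamma_mem (P := P) (n := q + 1) [(q + 1, e - ((r + 1 : ℕ) : K))]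
      (by simpa using aug_sub_rank hK he hr) (by simp)

theorem S_anti {m n : ℕ} (h : m ≤ n) {x : AdjoinRoot (KRR.extPoly P e)} (hx : x ∈ S P e r n) :
    x ∈ S P e r m :=
  S_induction (motive := (· ∈ S P e r m)) hx
    (fun _ _ hi ha => mem_S_of_le hi (gammaFiltration_anti (by omega) ha)) (zero_mem _)
    fun _ _ => add_mem

theorem S_mul {m n : ℕ} {x y : AdjoinRoot (KRR.extPoly P e)} (hx : x ∈ S P e r m)
    (hy : y ∈ S P e r n) : x * y ∈ S P e r (m + n) := by
  refine S_induction (motive := fun z => z * y ∈ S P e r (m + n)) hx (fun i a _ ha => ?_)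
    (by simp) fun a b ha hb => by rw [add_mul]; exact add_mem ha hb
  refine S_induction (motive := fun z => _ * z ∈ S P e r (m + n)) hy (fun j b _ hb => ?_)
    (by simp) fun a b ha hb => by rw [mul_add]; exact add_mem ha hb
  rw [mul_mul_mul_comm, ← map_mul, ← pow_add]
  exact mem_S hK he hr _ (gammaFiltration_anti (by omega) (gammaFiltration_mul ha hb))

theorem S_zero (x : AdjoinRoot (KRR.extPoly P e)) : x ∈ S P e r 0 := by
  obtain ⟨q, rfl⟩ := AdjoinRoot.mk_surjective x
  obtain ⟨p, rfl⟩ : ∃ p : K[X], q = p.comp (X - 1) := ⟨q.comp (X + 1), by simp [comp_assoc]⟩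
  induction p using Polynomial.induction_on' with
  | add a b ha hb => rw [add_comp, map_add]; exact add_mem ha hb
  | monomial i a =>
    rw [monomial_comp, map_mul, map_pow, map_sub, AdjoinRoot.mk_C, AdjoinRoot.mk_X, map_one]
    exact mem_S hK he hr i (by rw [Nat.zero_sub]; exact gammaFiltration_zero a)

theorem root_pow_sub_one_mem (i : ℕ) :
    AdjoinRoot.root (KRR.extPoly P e) ^ i - 1 ∈ S P e r 1 := by
  rw [← geom_sum_mul, mul_comm]
  refine S_mul hK he hr (m := 1) (n := 0) ?_ (S_zero hK he hr _)
  simpa using mem_S hK he hr 1 (n := 1) (a := 1) (by rw [Nat.sub_self]; exact gammaFiltration_zero 1)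

variable [LambdaOps (AdjoinRoot (KRR.extPoly P e))] {Pe : PosStructure (AdjoinRoot (KRR.extPoly P e))}
  (hext : IsExtension P Pe (AdjoinRoot.of (KRR.extPoly P e)))
  (hline : Pe.IsLine (AdjoinRoot.root (KRR.extPoly P e)))
  (hsplit : HasSplitting (AdjoinRoot (KRR.extPoly P e)) Pe)

omit hK he hr in
theorem gamma_add' {A : Type u} [CommRing A] [LambdaOps A] (h1 : ∀ k, 2 ≤ k → LambdaOps.lam k (1 : A) = 0)
    (x y : A) (n : ℕ) : gamma n (x + y) = ∑ q ∈ range (n + 1), gamma q x * gamma (n - q) y := by
  have h := congrArg (PowerSeries.coeff n) (gammaSeries_add x y)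
  rw [PowerSeries.coeff_mul, Finset.Nat.sum_antidiagonal_eq_sum_range_succ_mk] at h
  simpa [gammaSeries] using h

/-- The elements whose γ-operations lie in the candidate filtration. -/
noncomputable def G : AddSubgroup (AdjoinRoot (KRR.extPoly P e)) where
  carrier := {x | ∀ n, gamma n x ∈ S P e r n}
  zero_mem' := fun n => by
    rcases Nat.eq_zero_or_pos n with rfl | hn
    · exact S_zero hK he hr _
    · have h := congrArg (PowerSeries.coeff n) (gammaSeries_zero (K := AdjoinRoot (KRR.extPoly P e)))
      rw [gammaSeries, PowerSeries.coeff_mk, PowerSeries.coeff_one, if_neg (by omega)] at h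
      rw [h]
      exact zero_mem _
  add_mem' := fun {x y} hx hy n => by
    rw [gamma_add' (lam_one_eq_zero_of_pos Pe)]
    refine sum_mem fun q hq => ?_
    have := S_mul hK he hr (hx q) (hy (n - q))
    rwa [show q + (n - q) = n by have := Finset.mem_range.mp hq; omega] at this
  neg_mem' := fun {x} hx n => by
    induction n using Nat.strong_induction_on with
    | _ n ih =>
      rcases Nat.eq_zero_or_pos n with rfl | hn
      · exact S_zero hK he hr _
      have h0 : gamma n (x + -x) = (0 : AdjoinRoot (KRR.extPoly P e)) := by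
        rw [add_neg_cancel]
        have h := congrArg (PowerSeries.coeff n) (gammaSeries_zero (K := AdjoinRoot (KRR.extPoly P e)))
        rwa [gammaSeries, PowerSeries.coeff_mk, PowerSeries.coeff_one, if_neg (by omega)] at h
      rw [gamma_add' (lam_one_eq_zero_of_pos Pe), Finset.sum_range_succ', gamma_zero, one_mul,
        Nat.sub_zero, add_eq_zero_iff_eq_neg'] at h0
      rw [h0]
      refine neg_mem (sum_mem fun q hq => ?_)
      have hq' := Finset.mem_range.mp hq
      have := S_mul hK he hr (hx (q + 1)) (ih (n - (q + 1)) (by omega))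
      rwa [show q + 1 + (n - (q + 1)) = n by omega] at this

include hline in
theorem root_pow_sub_one_mem_G (i : ℕ) :
    AdjoinRoot.root (KRR.extPoly P e) ^ i - 1 ∈ G hK he hr (Pe := Pe) := fun n => by
  rcases n with _ | _ | n
  · exact S_zero hK he hr _
  · rw [gamma_one]
    exact root_pow_sub_one_mem hK he hr i
  · have h := gamma_sum_lines (P := Pe) (s := {AdjoinRoot.root (KRR.extPoly P e) ^ i})
      (by simpa using line_pow hline i) (n + 2)
    rw [Multiset.sum_singleton, Multiset.card_singleton, Nat.cast_one] at h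
    rw [h, esymm_eq_zero _ (by simp)]
    exact zero_mem _

include hline hsplit hext in
theorem pos_mul_root_pow_mem_G {f : K} (hf : f ∈ P.pos) (i : ℕ) :
    AdjoinRoot.of (KRR.extPoly P e) f * AdjoinRoot.root (KRR.extPoly P e) ^ i -
      ((P.aug f).toNat : AdjoinRoot (KRR.extPoly P e)) ∈ G hK he hr (Pe := Pe) := fun n => by
  obtain ⟨L, φ, hφ, -, t, ht1, ht2, htcard⟩ := exists_split hsplit (hext.pos_subset f hf)
  rw [hext.aug_comp] at htcard
  have hN : (P.aug f).toNat = t.card := by omega
  set d := AdjoinRoot.root (KRR.extPoly P e) ^ i - 1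
  have hsum : t.sum * φ (AdjoinRoot.root (KRR.extPoly P e) ^ i) =
      (t.map fun v => v * φ (AdjoinRoot.root (KRR.extPoly P e) ^ i)).sum := by
    rw [Multiset.sum_map_mul_right, Multiset.map_id']
  rcases Nat.lt_or_ge t.card n with hn | hn
  · rw [show gamma n _ = (0 : AdjoinRoot (KRR.extPoly P e)) from hφ.injective ?_]
    · exact zero_mem _
    rw [map_gamma hφ.isLambdaHom, map_sub, map_mul, map_natCast, ← ht2, hN, hsum]
    have h := gamma_sum_lines (P := L.posStr) (s := t.map fun v => v * φ (AdjoinRoot.root (KRR.extPoly P e) ^ i))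
      (fun w hw => by
        obtain ⟨v, hv, rfl⟩ := Multiset.mem_map.mp hw
        exact line_mul (ht1 v hv) (line_map hφ (line_pow hline i))) n
    rw [Multiset.card_map] at h
    rw [h, esymm_eq_zero _ (by simpa using hn), map_zero]
  · have key : gamma n (AdjoinRoot.of (KRR.extPoly P e) f * AdjoinRoot.root (KRR.extPoly P e) ^ i -
        ((P.aug f).toNat : AdjoinRoot (KRR.extPoly P e))) = ∑ q ∈ range (t.card + 1),
          (AdjoinRoot.root (KRR.extPoly P e) ^ i) ^ q * AdjoinRoot.of (KRR.extPoly P e) (gamma q (f - (t.card : K))) *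
            (d ^ (t.card - q - (t.card - n)) *
              ((t.card - q).choose (t.card - n) : AdjoinRoot (KRR.extPoly P e))) := by
      apply hφ.injective
      rw [map_gamma hφ.isLambdaHom, map_sub, map_mul, map_natCast, ← ht2, hN, hsum]
      have h := gamma_sum_lines (P := L.posStr) (s := t.map fun v => v * φ (AdjoinRoot.root (KRR.extPoly P e) ^ i))
        (fun w hw => by
          obtain ⟨v, hv, rfl⟩ := Multiset.mem_map.mp hw
          exact line_mul (ht1 v hv) (line_map hφ (line_pow hline i))) n
      rw [Multiset.card_map] at h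
      rw [h, map_sum, Multiset.map_map]
      have h2 := esymm_map_affine (t.map (· - 1)) (φ (AdjoinRoot.root (KRR.extPoly P e) ^ i))
        (φ d) (n := n) (by simpa using hn)
      rw [Multiset.map_map, Multiset.card_map] at h2
      refine Eq.trans ?_ (h2.trans (Finset.sum_congr rfl fun q _ => ?_))
      · refine congrArg (fun z : Multiset L.carrier => z.esymm n) (Multiset.map_congr rfl fun a _ => ?_)
        simp only [Function.comp_apply, d, map_sub, map_one]
        ring
      · rw [← gamma_sum_lines ht1 q, ht2]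
        simp only [d, map_mul, map_pow, map_sub, map_natCast, map_gamma hext.isLambdaHom,
          map_gamma hφ.isLambdaHom]
    rw [key]
    refine sum_mem fun q hq => ?_
    have hq' := Finset.mem_range.mp hq
    rcases Nat.lt_or_ge n q with h' | h'
    · rw [Nat.choose_eq_zero_of_lt (by omega), Nat.cast_zero, mul_zero, mul_zero]
      exact zero_mem _
    refine S_anti hK he hr (n := (0 + q) + ((n - q) + 0)) (by omega) ?_
    refine S_mul hK he hr (S_mul hK he hr (S_zero hK he hr _) ?_) (S_mul hK he hr ?_ (S_zero hK he hr _))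
    · simpa using mem_S hK he hr 0 (n := q) (a := gamma q (f - (t.card : K))) (by
        rw [Nat.sub_zero]
        simpa using prod_gamma_mem (P := P) (n := q) [(q, f - (t.card : K))] (by simp; omega) (by simp))
    · rw [show t.card - q - (t.card - n) = n - q by omega]
      clear key
      induction n - q with
      | zero => exact S_zero hK he hr _
      | succ k ih => rw [pow_succ]; exact S_mul hK he hr ih (root_pow_sub_one_mem hK he hr i)

include hline hsplit hext in
theorem mem_G {x : AdjoinRoot (KRR.extPoly P e)} (hx : Pe.aug x = 0) :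
    x ∈ G hK he hr (Pe := Pe) := by
  suffices h : ∀ y, y - (Pe.aug y : AdjoinRoot (KRR.extPoly P e)) ∈ G hK he hr (Pe := Pe) by
    simpa [hx] using h x
  intro y
  obtain ⟨q, rfl⟩ := AdjoinRoot.mk_surjective y
  induction q using Polynomial.induction_on' with
  | add a b ha hb =>
    rw [map_add, map_add, Int.cast_add, add_sub_add_comm]
    exact add_mem ha hb
  | monomial i a =>
    obtain ⟨f, g, hf, hg, rfl⟩ := P.exists_sub a
    rw [← C_mul_X_pow_eq_monomial, map_mul, map_pow, AdjoinRoot.mk_C, AdjoinRoot.mk_X, map_sub, sub_mul,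
      map_sub, Int.cast_sub, sub_sub_sub_comm]
    have haug : ∀ f ∈ P.pos, (Pe.aug (AdjoinRoot.of (KRR.extPoly P e) f *
        AdjoinRoot.root (KRR.extPoly P e) ^ i) : AdjoinRoot (KRR.extPoly P e)) =
          ((P.aug f).toNat : AdjoinRoot (KRR.extPoly P e)) := by
      intro f hf
      rw [map_mul, map_pow, hline.2, one_pow, mul_one, hext.aug_comp]
      conv_lhs => rw [← Int.toNat_of_nonneg (P.aug_pos f hf).le]
      exact Int.cast_natCast _
    rw [haug f hf, haug g hg]
    exact sub_mem (pos_mul_root_pow_mem_G hK he hr hext hline hsplit hf i)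
      (pos_mul_root_pow_mem_G hK he hr hext hline hsplit hg i)

include hline hsplit hext in
theorem gammaFiltration_eq (k : ℕ) : gammaFiltration Pe k = S P e r k := by
  refine le_antisymm (fun x hx => ?_) fun x hx => ?_
  · rcases eq_or_ne k 0 with rfl | hk
    · exact S_zero hK he hr x
    refine gammaFiltration_induction (motive := (· ∈ S P e r k)) hk hx (fun l hl hsum => ?_)
      (zero_mem _) (fun _ _ => add_mem) fun _ => neg_mem
    refine S_anti hK he hr hsum ?_
    clear hsum hx
    induction l with
    | nil => exact S_zero hK he hr _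
    | cons p l ih =>
      simp only [List.map_cons, List.prod_cons, List.sum_cons]
      exact S_mul hK he hr (mem_G hK he hr hext hline hsplit (hl p (by simp)) p.1)
        (ih fun q hq => hl q (by simp [hq]))
  · refine S_induction (motive := (· ∈ gammaFiltration Pe k)) hx (fun i a _ ha => ?_) (zero_mem _)
      fun _ _ => add_mem
    refine gammaFiltration_anti (m := k) (n := (k - i) + i) (by omega) ?_
    refine gammaFiltration_mul (gammaFiltration_map hext ha) ?_
    have h1 : AdjoinRoot.root (KRR.extPoly P e) - 1 ∈ gammaFiltration Pe 1 :=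
      mem_gammaFiltration_one (by rw [map_sub, hline.2, map_one, sub_self])
    clear ha
    clear * - h1
    induction i with
    | zero => exact gammaFiltration_zero _
    | succ i ih =>
      rw [pow_succ]
      exact gammaFiltration_mul ih h1

end

end Groth.Agent.KRRLam.ElemFil
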