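import Groth.Agent.Lambda.AdamsFil
import Groth.Agent.Lambda.EsymmInv
import Groth.Prelude.Def_KRR
import Mathlib.Algebra.Group.ForwardDiff

/-!
The functional on an elementary extension of a λ-ring, and nilpotency from an ample line element.
-/

universe u

open Finset LambdaRing

namespace Groth.Agent.KRRLam

open Groth.Agent.Lambda

variable {K : Type u} [CommRing K] [LambdaOps K] (P : PosStructure K)

theorem rescale_lamSeries_mul_sigma (x : K) :
    PowerSeries.rescale (-1 : K) (lamSeries x) * KRR.sigmaSeries x = 1 := by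
  rw [KRR.sigmaSeries, PowerSeries.mul_invOfUnit]
  rw [← PowerSeries.coeff_zero_eq_constantCoeff_apply, PowerSeries.coeff_rescale, pow_zero,
    one_mul, PowerSeries.coeff_zero_eq_constantCoeff_apply, constantCoeff_lamSeries, Units.val_one]

theorem sum_lam_mul_sigma (x : K) (i : ℕ) :
    ∑ k ∈ range (i + 1), (-1 : K) ^ k * LambdaOps.lam k x * KRR.sigma (i - k) x =
      if i = 0 then 1 else 0 := by
  have h := congrArg (PowerSeries.coeff i) (rescale_lamSeries_mul_sigma x)
  rw [PowerSeries.coeff_mul, Finset.Nat.sum_antidiagonal_eq_sum_range_succ_mk,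
    PowerSeries.coeff_one] at h
  rw [← h]
  refine Finset.sum_congr rfl fun k _ => ?_
  rw [PowerSeries.coeff_rescale, lamSeries, PowerSeries.coeff_mk, KRR.sigma]

section Functional

variable {P} {e : K} {r : ℕ}


theorem extPoly_eq (hr : P.aug e = r + 1) : KRR.extPoly P e = ∑ i ∈ range (r + 2),
    Polynomial.C ((-1 : K) ^ i * LambdaOps.lam i e) * Polynomial.X ^ (r + 1 - i) := by
  rw [KRR.extPoly, show (P.aug e).toNat = r + 1 by omega]

theorem root_relation (hr : P.aug e = r + 1) :
    ∑ i ∈ range (r + 2), (AdjoinRoot.of (KRR.extPoly P e)) ((-1 : K) ^ i * LambdaOps.lam i e) * (AdjoinRoot.root (KRR.extPoly P e)) ^ (r + 1 - i) = 0 := by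
  have h : AdjoinRoot.mk (KRR.extPoly P e) (KRR.extPoly P e) = 0 := AdjoinRoot.mk_self
  conv at h => lhs; arg 2; rw [extPoly_eq hr]
  simpa [map_sum, AdjoinRoot.mk_C, AdjoinRoot.mk_X] using h

theorem map_of_mul (f : AdjoinRoot (KRR.extPoly P e) →ₗ[K] K) (c : K)
    (z : AdjoinRoot (KRR.extPoly P e)) : f ((AdjoinRoot.of (KRR.extPoly P e)) c * z) = c * f z := by
  rw [← AdjoinRoot.algebraMap_eq, ← Algebra.smul_def, map_smul, smul_eq_mul]

variable (he : e ∈ P.pos) (hr : P.aug e = r + 1)
  (f : AdjoinRoot (KRR.extPoly P e) →ₗ[K] K)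
  (hf : ∀ i : ℕ, i ≤ r → f ((AdjoinRoot.root (KRR.extPoly P e)) ^ i) = KRR.sigma i e)

include he hr hf

theorem functional_root_pow (i : ℕ) : f ((AdjoinRoot.root (KRR.extPoly P e)) ^ i) = KRR.sigma i e := by
  induction i using Nat.strong_induction_on with
  | _ i ih =>
    rcases le_or_gt i r with h | h
    · exact hf i h
    have h0 : ∑ k ∈ range (r + 2), (-1 : K) ^ k * LambdaOps.lam k e * f ((AdjoinRoot.root (KRR.extPoly P e)) ^ (i - k)) = 0 := by
      have := congrArg (fun z => f (z * (AdjoinRoot.root (KRR.extPoly P e)) ^ (i - (r + 1)))) (root_relation (P := P) hr)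
      simp only [Finset.sum_mul, zero_mul, map_zero, map_sum, mul_assoc] at this
      rw [← this]
      refine Finset.sum_congr rfl fun k hk => ?_
      have hk' := Finset.mem_range.mp hk
      rw [← pow_add, map_of_mul, show r + 1 - k + (i - (r + 1)) = i - k by omega, mul_assoc]
    have h1 : ∑ k ∈ range (r + 2), (-1 : K) ^ k * LambdaOps.lam k e * KRR.sigma (i - k) e = 0 := by
      have hs := sum_lam_mul_sigma e i
      rw [if_neg (by omega)] at hs
      rw [← hs]
      refine Finset.sum_subset (fun k hk => ?_) fun k _ hk => ?_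
      · simp only [Finset.mem_range] at hk ⊢; omega
      · simp only [Finset.mem_range, not_lt] at hk
        rw [P.lam_eq_zero e he k (by rw [hr]; exact_mod_cast hk)]
        simp
    rw [Finset.sum_range_succ'] at h0 h1
    have hrest : ∑ k ∈ range (r + 1), (-1 : K) ^ (k + 1) * LambdaOps.lam (k + 1) e * f ((AdjoinRoot.root (KRR.extPoly P e)) ^ (i - (k + 1))) =
        ∑ k ∈ range (r + 1), (-1 : K) ^ (k + 1) * LambdaOps.lam (k + 1) e * KRR.sigma (i - (k + 1)) e :=
      Finset.sum_congr rfl fun k _ => by rw [ih _ (by omega)]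
    rw [hrest] at h0
    simp only [pow_zero, LambdaOps.lam_zero, mul_one, one_mul, Nat.sub_zero] at h0 h1
    linear_combination h0 - h1

theorem functional_inv_pow (linv : AdjoinRoot (KRR.extPoly P e)) (hlinv : linv * (AdjoinRoot.root (KRR.extPoly P e)) = 1)
    (n : ℕ) (hn : 1 ≤ n) (hnr : n ≤ r) : f (linv ^ n) = 0 := by
  induction n using Nat.strong_induction_on with
  | _ n ih =>
    have hpow : ∀ a b : ℕ, b ≤ a → (AdjoinRoot.root (KRR.extPoly P e)) ^ a * linv ^ b = (AdjoinRoot.root (KRR.extPoly P e)) ^ (a - b) := fun a b hab => by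
      obtain ⟨c, rfl⟩ := Nat.exists_eq_add_of_le hab
      rw [Nat.add_sub_cancel_left, pow_add, mul_comm ((AdjoinRoot.root (KRR.extPoly P e)) ^ b), mul_assoc, ← mul_pow,
        mul_comm (AdjoinRoot.root (KRR.extPoly P e)) linv, hlinv, one_pow, mul_one]
    have hpow' : ∀ a b : ℕ, a ≤ b → (AdjoinRoot.root (KRR.extPoly P e)) ^ a * linv ^ b = linv ^ (b - a) := fun a b hab => by
      obtain ⟨c, rfl⟩ := Nat.exists_eq_add_of_le hab
      rw [Nat.add_sub_cancel_left, pow_add, ← mul_assoc, ← mul_pow, mul_comm (AdjoinRoot.root (KRR.extPoly P e)) linv, hlinv,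
        one_pow, one_mul]
    obtain ⟨i, hi⟩ : ∃ i, r + 1 = i + n := ⟨r + 1 - n, by omega⟩
    have h0 : ∑ k ∈ range (r + 2),
        (-1 : K) ^ k * LambdaOps.lam k e * f ((AdjoinRoot.root (KRR.extPoly P e)) ^ (r + 1 - k) * linv ^ n) = 0 := by
      have := congrArg (fun z => f (z * linv ^ n)) (root_relation (P := P) hr)
      simp only [Finset.sum_mul, zero_mul, map_zero, map_sum, mul_assoc, map_of_mul] at this
      rw [← this]
      exact Finset.sum_congr rfl fun k _ => by rw [mul_assoc]
    rw [Finset.range_eq_Ico, ← Finset.sum_Ico_consecutive _ (Nat.zero_le (i + 1)) (by omega),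
      ← Finset.range_eq_Ico] at h0
    have hfirst : ∑ k ∈ range (i + 1),
        (-1 : K) ^ k * LambdaOps.lam k e * f ((AdjoinRoot.root (KRR.extPoly P e)) ^ (r + 1 - k) * linv ^ n) = 0 := by
      have hs := sum_lam_mul_sigma e i
      rw [if_neg (by omega)] at hs
      rw [← hs]
      refine Finset.sum_congr rfl fun k hk => ?_
      have := Finset.mem_range.mp hk
      rw [hpow _ _ (by omega), functional_root_pow he hr f hf,
        show r + 1 - k - n = i - k by omega]
    rw [hfirst, zero_add, Finset.sum_Ico_succ_top (by omega), Finset.sum_eq_zero, zero_add] at h0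
    · rw [Nat.sub_self, pow_zero, one_mul] at h0
      have hu := P.isUnit_lam e he
      rw [show (P.aug e).toNat = r + 1 by omega] at hu
      exact ((((isUnit_one (M := K)).neg).pow (r + 1)).mul hu).mul_right_eq_zero.mp h0
    · intro k hk
      have := Finset.mem_Ico.mp hk
      rw [hpow' _ _ (by omega), ih _ (by omega) (by omega) (by omega), mul_zero]

end Functional

section Ext

variable {P} {e : K}
variable [LambdaOps (AdjoinRoot (KRR.extPoly P e))]


theorem lam_sub_root
    (hext : ∀ (i : ℕ), LambdaOps.lam i ((AdjoinRoot.of (KRR.extPoly P e)) e) = (AdjoinRoot.of (KRR.extPoly P e)) (LambdaOps.lam i e))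
    (hroot : ∀ i : ℕ, 2 ≤ i → LambdaOps.lam i (AdjoinRoot.root (KRR.extPoly P e)) = 0) (i : ℕ) :
    LambdaOps.lam i ((AdjoinRoot.of (KRR.extPoly P e)) e - (AdjoinRoot.root (KRR.extPoly P e))) =
      ∑ k ∈ range (i + 1), (AdjoinRoot.of (KRR.extPoly P e)) (LambdaOps.lam k e) * (-(AdjoinRoot.root (KRR.extPoly P e))) ^ (i - k) := by
  induction i with
  | zero => simp [LambdaOps.lam_zero]
  | succ i ih =>
    have h := LambdaOps.lam_add (i + 1) ((AdjoinRoot.of (KRR.extPoly P e)) e - (AdjoinRoot.root (KRR.extPoly P e))) (AdjoinRoot.root (KRR.extPoly P e))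
    rw [sub_add_cancel, hext, Finset.sum_range_succ, Finset.sum_range_succ,
      Finset.sum_eq_zero (fun k hk => ?_), zero_add] at h
    · simp only [Nat.sub_self, LambdaOps.lam_zero, mul_one, show i + 1 - i = 1 by omega,
        LambdaOps.lam_one] at h
      rw [Finset.sum_range_succ, Nat.sub_self, pow_zero, mul_one, h]
      have : ∑ k ∈ range (i + 1), (AdjoinRoot.of (KRR.extPoly P e)) (LambdaOps.lam k e) * (-(AdjoinRoot.root (KRR.extPoly P e))) ^ (i + 1 - k) =
          LambdaOps.lam i ((AdjoinRoot.of (KRR.extPoly P e)) e - (AdjoinRoot.root (KRR.extPoly P e))) * -(AdjoinRoot.root (KRR.extPoly P e)) := by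
        rw [ih, Finset.sum_mul]
        refine Finset.sum_congr rfl fun k hk => ?_
        have := Finset.mem_range.mp hk
        rw [show i + 1 - k = i - k + 1 by omega, pow_succ, mul_assoc]
      rw [this]
      ring
    · have := Finset.mem_range.mp hk
      rw [hroot _ (by omega), mul_zero]

end Ext

theorem aug_sigma (hK : HasSplitting K P) {e : K} (he : e ∈ P.pos) {r : ℕ} (hr : P.aug e = r + 1)
    (j : ℕ) : P.aug (KRR.sigma j e) = ((r + j).choose r : ℤ) := by
  obtain ⟨L, g, hg, -, s, hs1, hs2, hcard⟩ := exists_split hK he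
  have hlam : ∀ i, P.aug (LambdaOps.lam i e) = ((r + 1).choose i : ℤ) := fun i => by
    rw [← hg.aug_comp, hg.isLambdaHom, ← hs2, lam_sum_lines hs1, map_esymm',
      Multiset.map_congr rfl (fun u hu => (hs1 u hu).2), Multiset.map_const']
    have hc : s.card = r + 1 := by
      have : (s.card : ℤ) = r + 1 := hcard.trans hr
      exact_mod_cast this
    rw [hc, Multiset.esymm, Multiset.map_congr rfl (fun t ht => ?_), Multiset.map_const',
      Multiset.sum_replicate, Multiset.card_powersetCard, Multiset.card_replicate]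
    · exact nsmul_one _
    · obtain ⟨htle, -⟩ := Multiset.mem_powersetCard.mp ht
      exact Multiset.prod_eq_one fun x hx =>
        Multiset.eq_of_mem_replicate (Multiset.mem_of_le htle hx)
  have hA : PowerSeries.map P.aug (PowerSeries.rescale (-1 : K) (lamSeries e)) =
      (1 - PowerSeries.X) ^ (r + 1) := by
    ext i
    rw [PowerSeries.coeff_map, PowerSeries.coeff_rescale, map_mul, map_pow, map_neg, map_one,
      lamSeries, PowerSeries.coeff_mk, hlam,
      show (1 - PowerSeries.X : PowerSeries ℤ) ^ (r + 1) =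
        PowerSeries.rescale (-1 : ℤ) ((1 + PowerSeries.X) ^ (r + 1)) by
          rw [map_pow, map_add, map_one, PowerSeries.rescale_neg_one_X, sub_eq_add_neg],
      PowerSeries.coeff_rescale,
      show ((1 + PowerSeries.X : PowerSeries ℤ) ^ (r + 1)) =
        ((1 + Polynomial.X : Polynomial ℤ) ^ (r + 1) : Polynomial ℤ) by simp,
      Polynomial.coeff_coe, Polynomial.coeff_one_add_X_pow]
  have h := congrArg (PowerSeries.map P.aug) (rescale_lamSeries_mul_sigma e)
  rw [map_mul, map_one, hA] at h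
  have h2 : (PowerSeries.mk 1 : PowerSeries ℤ) ^ (r + 1) * (1 - PowerSeries.X) ^ (r + 1) = 1 := by
    rw [← mul_pow, PowerSeries.mk_one_mul_one_sub_eq_one, one_pow]
  have h3 : PowerSeries.map P.aug (KRR.sigmaSeries e) = (PowerSeries.mk 1) ^ (r + 1) := by
    calc PowerSeries.map P.aug (KRR.sigmaSeries e)
        = (PowerSeries.mk 1) ^ (r + 1) * (1 - PowerSeries.X) ^ (r + 1) *
            PowerSeries.map P.aug (KRR.sigmaSeries e) := by rw [h2, one_mul]
      _ = _ := by rw [mul_assoc, h, mul_one]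
  have h4 := congrArg (PowerSeries.coeff j) h3
  rwa [PowerSeries.coeff_map, PowerSeries.mk_one_pow_eq_mk_choose_add,
    PowerSeries.coeff_mk] at h4

theorem rat_mem_of_congr (hK : HasSplitting K P) {j : ℕ} (hj : 2 ≤ j) (n : ℕ) (x : K)
    {N : ℕ} (hN : 1 ≤ N)
    (hx : (N : K) * (adams P j x - (j : K) ^ n * x) ∈ gammaFiltration P (n + 1)) :
    ∀ k ≤ n, ∃ M : ℕ, 1 ≤ M ∧ (M : K) * x ∈ gammaFiltration P k := by
  intro k
  induction k with
  | zero => exact fun _ => ⟨1, le_rfl, gammaFiltration_zero _⟩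
  | succ k ih =>
    intro hk
    obtain ⟨M, hM, hMx⟩ := ih (by omega)
    have hj1 : 1 ≤ j := by omega
    have h1 := adamsOp_sub_mem hK hj1 hMx
    rw [← nsmul_eq_mul, show adamsOp j (M • x) = M • adamsOp j x from
      map_nsmul (AddMonoidHom.mk' (adamsOp j) (adamsOp_add hj1)) M x, nsmul_eq_mul,
      nsmul_eq_mul, ← adams_eq P hj1] at h1
    have hlt : j ^ k < j ^ n := Nat.pow_lt_pow_right (by omega) (by omega)
    refine ⟨N * M * (j ^ n - j ^ k),
      Nat.mul_pos (Nat.mul_pos hN hM) (Nat.sub_pos_of_lt hlt), ?_⟩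
    have h2 := sub_mem (gammaFiltration_mul_mem (N : K) h1)
      (gammaFiltration_mul_mem (M : K) (gammaFiltration_anti (show k + 1 ≤ n + 1 by omega) hx))
    rw [Nat.cast_mul, Nat.cast_mul, Nat.cast_sub hlt.le, Nat.cast_pow, Nat.cast_pow]
    convert h2 using 1
    ring

theorem gamma_sub_aug_eq_zero {e : K} (he : e ∈ P.pos) {m k : ℕ} (hm : P.aug e = m) (hk : m < k) :
    gamma k (e - (m : K)) = 0 := by
  obtain ⟨d, rfl⟩ := Nat.exists_eq_add_of_lt hk
  rw [gamma_eq_lam (lam_one_eq_zero_of_pos P),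
    show e - (m : K) + ((m + d + 1 : ℕ) : K) - 1 = e + (d : K) by push_cast; ring,
    lam_add_natCast (lam_one_eq_zero_of_pos P)]
  refine Finset.sum_eq_zero fun i hi => ?_
  rcases le_or_gt i m with h | h
  · rw [Nat.choose_eq_zero_of_lt (by omega)]
    simp
  · rw [P.lam_eq_zero e he i (by rw [hm]; exact_mod_cast h), zero_mul]

theorem exists_pow_mul_eq_zero {u w : K} (hu : P.IsLine u) {n : ℕ} {a b : K}
    (ha : P.IsLine a) (hb : P.IsLine b) (hab : a - b = u ^ n * w)
    {e : K} {m : ℕ} (he : e ∈ P.pos) (hem : u ^ n * w = e - m) :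
    ∃ k, (b - 1) ^ k * w = 0 := by
  have h1 := lam_one_eq_zero_of_pos P
  have hm : P.aug e = m := by
    have := congrArg P.aug hem
    rw [← hab, map_sub, map_sub, ha.2, hb.2, map_natCast] at this
    linarith
  have hser : gammaSeries (a - b) * gammaSeries (b - 1) = gammaSeries (a - 1) := by
    rw [← gammaSeries_add, sub_add_sub_cancel]
  rw [gammaSeries_line_sub_one h1 (line_lam ha), gammaSeries_line_sub_one h1 (line_lam hb)] at hser
  have hrec : ∀ k, gamma (k + 1) (a - b) = (-(b - 1)) ^ k * (a - b) := by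
    intro k
    induction k with
    | zero => rw [gamma_one, pow_zero, one_mul]
    | succ k ih =>
      have := congrArg (PowerSeries.coeff (k + 2)) hser
      rw [mul_add, mul_one, map_add, ← mul_assoc, PowerSeries.coeff_succ_mul_X,
        PowerSeries.coeff_mul_C, map_add, PowerSeries.coeff_succ_mul_X, PowerSeries.coeff_one,
        PowerSeries.coeff_C] at this
      simp only [gammaSeries, PowerSeries.coeff_mk, Nat.succ_ne_zero, ↓reduceIte, add_zero, ih] at this
      linear_combination this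
  refine ⟨m, ?_⟩
  have h0 : gamma (m + 1) (a - b) = 0 := by
    rw [hab, hem]
    exact gamma_sub_aug_eq_zero P he hm (Nat.lt_succ_self m)
  rw [hrec, hab, neg_pow, ← mul_assoc, mul_right_comm] at h0
  have hun : IsUnit u := by
    have := P.isUnit_lam u hu.1
    rwa [hu.2, Int.toNat_one, LambdaOps.lam_one] at this
  have h0' : ((-1 : K) ^ m * u ^ n) * ((b - 1) ^ m * w) = 0 := by linear_combination h0
  exact ((((isUnit_one (M := K)).neg).pow m).mul (hun.pow n)).mul_right_eq_zero.mp h0'

theorem isNilpotent_line_sub_one {u : K} (hu : KRR.IsAmpleElt P u) {w : K} (hw : P.IsLine w) :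
    IsNilpotent (w - 1) := by
  obtain ⟨hul, hex⟩ := hu
  obtain ⟨n₁, h1⟩ := hex (1 - w)
  obtain ⟨n₂, h2⟩ := hex (w - 1)
  set n := max n₁ n₂
  obtain ⟨e, m, he, hem⟩ := h1 n (le_max_left _ _)
  obtain ⟨e', m', he', hem'⟩ := h2 n (le_max_right _ _)
  have hun : IsUnit u := by
    have := P.isUnit_lam u hul.1
    rwa [hul.2, Int.toNat_one, LambdaOps.lam_one] at this
  have hA := line_pow hul n
  have hB := line_mul hA hw
  obtain ⟨k, hk⟩ := exists_pow_mul_eq_zero P hul hA hB (w := 1 - w) (by ring) he hem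
  obtain ⟨l, hl⟩ := exists_pow_mul_eq_zero P hul hB hA (w := w - 1) (by ring) he' hem'
  have hk' : (u ^ n * w - 1) ^ k * (w - 1) = 0 := by linear_combination -hk
  have key : (u ^ n * (w - 1)) ^ (k + l) * (w - 1) = 0 := by
    rw [show u ^ n * (w - 1) = (u ^ n * w - 1) + (-(u ^ n - 1)) by ring, add_pow, Finset.sum_mul]
    refine Finset.sum_eq_zero fun i hi => ?_
    rcases le_or_gt k i with h | h
    · obtain ⟨c, rfl⟩ := Nat.exists_eq_add_of_le h
      rw [pow_add]
      linear_combination ((u ^ n * w - 1) ^ c * (-(u ^ n - 1)) ^ (k + l - (k + c)) *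
        ((k + l).choose (k + c) : K)) * hk'
    · obtain ⟨c, hc⟩ : ∃ c, k + l - i = l + c := ⟨k + l - i - l, by omega⟩
      rw [hc, pow_add, neg_pow]
      linear_combination ((u ^ n * w - 1) ^ i * (-1 : K) ^ l * (-(u ^ n - 1)) ^ c *
        ((k + l).choose i : K)) * hl
  rw [mul_pow, mul_assoc, ← pow_succ] at key
  exact ⟨k + l + 1, ((hun.pow n).pow _).mul_right_eq_zero.mp key⟩

end Groth.Agent.KRRLam
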