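import Groth.Agent.KRRLam.Basic

/-!
Power sums of the Chern classes: additivity, multiplicativity, and their action on the γ-filtration.
-/

universe u

open Finset LambdaRing MvPolynomial

namespace Groth.Agent.KRRLam

open Groth.Agent.Lambda

variable {K : Type u} [CommRing K] [LambdaOps K] (P : PosStructure K)

/-- The `k`-th power sum of the Chern roots, in `K`. -/
noncomputable def chC (k : ℕ) (x : K) : K :=
  if k = 0 then (P.aug x : K) else N (fun i => gamma i (x - (P.aug x : K))) k

theorem chC_zero (x : K) : chC P 0 x = (P.aug x : K) := if_pos rfl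

theorem chC_of_pos {k : ℕ} (hk : 1 ≤ k) (x : K) :
    chC P k x = N (fun i => gamma i (x - (P.aug x : K))) k := if_neg (by omega)

theorem chC_add (k : ℕ) (x y : K) : chC P k (x + y) = chC P k x + chC P k y := by
  rcases Nat.eq_zero_or_pos k with rfl | hk
  · simp only [chC_zero, map_add]
    push_cast
    rfl
  · rw [chC_of_pos P hk, chC_of_pos P hk, chC_of_pos P hk,
      ← N_conv (a := fun i => gamma i (x - (P.aug x : K))) (b := fun i => gamma i (y - (P.aug y : K)))
        (gamma_zero _) (gamma_zero _) hk]
    congr 1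
    funext i
    have h : x + y - (P.aug (x + y) : K) = (x - (P.aug x : K)) + (y - (P.aug y : K)) := by
      rw [map_add]; push_cast; ring
    have := congrArg (PowerSeries.coeff i) (gammaSeries_add (x - (P.aug x : K)) (y - (P.aug y : K)))
    rw [← h, PowerSeries.coeff_mul, Finset.Nat.sum_antidiagonal_eq_sum_range_succ_mk] at this
    simpa [gammaSeries, conv] using this

/-- `chC k` as an additive map. -/
noncomputable def chH (k : ℕ) : K →+ K := AddMonoidHom.mk' (chC P k) (chC_add P k)

theorem chH_apply (k : ℕ) (x : K) : chH P k x = chC P k x := rfl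

variable {P}

theorem chC_line {w : K} (hw : P.IsLine w) (k : ℕ) : chC P k w = (w - 1) ^ k := by
  rcases Nat.eq_zero_or_pos k with rfl | hk
  · rw [chC_zero, hw.2]; simp
  · rw [chC_of_pos P hk, hw.2, Int.cast_one]
    have h : (fun i => gamma i (w - 1)) = fun i => ({w - 1} : Multiset K).esymm i := by
      funext i
      have := gamma_sum_lines (P := P) (s := {w}) (by simp [hw]) i
      simpa using this
    rw [h, N_esymm _ hk]
    simp

theorem chC_sum_lines {s : Multiset K} (hs : ∀ u ∈ s, P.IsLine u) (k : ℕ) :
    chC P k s.sum = (s.map fun u => (u - 1) ^ k).sum := by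
  rw [← chH_apply, map_multiset_sum]
  exact congrArg Multiset.sum (Multiset.map_congr rfl fun u hu => chC_line (hs u hu) k)

theorem map_chC {L : Type u} [CommRing L] [LambdaOps L] {Q : PosStructure L} {f : K →+* L}
    (hf : IsExtension P Q f) (k : ℕ) (x : K) : f (chC P k x) = chC Q k (f x) := by
  rcases Nat.eq_zero_or_pos k with rfl | hk
  · rw [chC_zero, chC_zero, map_intCast, hf.aug_comp]
  · rw [chC_of_pos P hk, chC_of_pos Q hk, map_N]
    congr 1
    funext i
    rw [map_gamma hf.isLambdaHom, map_sub, map_intCast, hf.aug_comp]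

theorem N_mem (F : GradedFam K) {e : ℕ → K} (h0 : e 0 = 1) (he : ∀ i, e i ∈ F.M i) :
    ∀ k, 1 ≤ k → N e k ∈ F.M k := by
  intro k
  induction k using Nat.strong_induction_on with
  | _ k ih =>
    intro hk
    obtain ⟨n, rfl⟩ := Nat.exists_eq_add_of_le' hk
    have h := recursion (derivative_ser h0) n
    rw [Finset.sum_range_succ', h0, one_mul, Nat.sub_zero] at h
    have hmem : ∑ i ∈ range n, e (i + 1) * ((-1) ^ (n - (i + 1)) * N e (n - (i + 1) + 1)) ∈
        F.M (n + 1) := by
      refine AddSubgroup.sum_mem _ fun i hi => ?_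
      have hi' := Finset.mem_range.mp hi
      have := F.mul_mem (he (i + 1)) (ih (n - (i + 1) + 1) (by omega) (by omega))
      rw [show i + 1 + (n - (i + 1) + 1) = n + 1 by omega] at this
      rcases neg_one_pow_eq_or K (n - (i + 1)) with hp | hp
      · rwa [hp, one_mul]
      · rw [hp, neg_one_mul, mul_neg]; exact neg_mem this
    have h2 : (-1 : K) ^ n * N e (n + 1) ∈ F.M (n + 1) := by
      rw [← sub_eq_of_eq_add' h, mul_comm, ← Nat.cast_succ, ← nsmul_eq_mul]
      exact sub_mem (nsmul_mem (he (n + 1)) _) hmem
    rcases neg_one_pow_eq_or K n with hp | hp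
    · rwa [hp, one_mul] at h2
    · rw [hp, neg_one_mul] at h2
      simpa using neg_mem h2

theorem chC_mem (k : ℕ) (x : K) : chC P k x ∈ gammaFiltration P k := by
  rcases Nat.eq_zero_or_pos k with rfl | hk
  · exact gammaFiltration_zero _
  · rw [chC_of_pos P hk]
    refine N_mem (gammaFam P) (gamma_zero _) (fun i => ?_) k hk
    change gamma i (x - (P.aug x : K)) ∈ gammaFiltration P i
    simpa using prod_gamma_mem (P := P) (n := i) [(i, x - (P.aug x : K))] (by simp) (by simp)

/-- The Chern character is multiplicative. -/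
theorem chC_mul (hK : HasSplitting K P) (k : ℕ) (x y : K) :
    chC P k (x * y) = ∑ l ∈ range (k + 1), ∑ s ∈ range (k - l + 1),
      ((k.choose l * (k - l).choose s : ℕ) : K) * (chC P (l + s) x * chC P (k - s) y) := by
  have key : ∀ e ∈ P.pos, ∀ e' ∈ P.pos, chC P k (e * e') = ∑ l ∈ range (k + 1),
      ∑ s ∈ range (k - l + 1),
        ((k.choose l * (k - l).choose s : ℕ) : K) * (chC P (l + s) e * chC P (k - s) e') := by
    intro e he e' he'
    obtain ⟨L, f, hf, -, hs⟩ := exists_split_list hK [e, e'] (by simp [he, he'])
    obtain ⟨s, hs1, hs2⟩ := hs e (by simp)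
    obtain ⟨t, ht1, ht2⟩ := hs e' (by simp)
    refine hf.injective ?_
    simp only [map_sum, map_mul, map_natCast, map_chC hf, ← hs2, ← ht2, chC_sum_lines hs1,
      chC_sum_lines ht1]
    have hprod : s.sum * t.sum = ((s ×ˢ t).map fun p => p.1 * p.2).sum := by
      rw [sum_map_mul_product s t (fun u => u) (fun v => v), Multiset.map_id', Multiset.map_id']
    rw [hprod, chC_sum_lines (fun w hw => ?_), Multiset.map_map]
    · have hst : ∀ g g' : L.carrier → L.carrier, (s.map g).sum * (t.map g').sum =
          ((s ×ˢ t).map fun p => g p.1 * g' p.2).sum := fun g g' => (sum_map_mul_product s t g g').symm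
      simp only [hst, ← Multiset.sum_map_mul_left, ← Multiset.sum_map_sum]
      refine congrArg Multiset.sum (Multiset.map_congr rfl fun p _ => ?_)
      rw [Function.comp_apply, show p.1 * p.2 - 1 = (p.1 - 1) * (p.2 - 1) + ((p.1 - 1) + (p.2 - 1))
        by ring, add_pow]
      refine Finset.sum_congr rfl fun l hl => ?_
      rw [add_pow, Finset.mul_sum, Finset.sum_mul]
      refine Finset.sum_congr rfl fun i hi => ?_
      simp only [Finset.mem_range] at hl hi
      rw [show k - i = l + (k - l - i) by omega, pow_add, pow_add, mul_pow, Nat.cast_mul]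
      ring
    · obtain ⟨p, hp, rfl⟩ := Multiset.mem_map.mp hw
      rw [Multiset.mem_product] at hp
      exact line_mul (hs1 _ hp.1) (ht1 _ hp.2)
  obtain ⟨e, f, he, hf, rfl⟩ := P.exists_sub x
  obtain ⟨e', f', he', hf', rfl⟩ := P.exists_sub y
  simp only [← chH_apply] at key ⊢
  simp only [sub_mul, mul_sub, map_sub, key e he e' he', key e he f' hf', key f hf e' he',
    key f hf f' hf', Finset.sum_sub_distrib]

section Universal

theorem exists_sym_poly {m n : ℕ} (G : MvPolynomial (Fin m) ℤ) (hsym : G.IsSymmetric)
    (hmem : G ∈ idealOfVars (Fin m) ℤ ^ n) :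
    ∃ Q : MvPolynomial (Fin m) ℤ, aeval (fun i : Fin m => esymm (Fin m) ℤ (i.1 + 1)) Q = G ∧
      ∀ e : Fin m →₀ ℕ, Finsupp.weight (fun i : Fin m => i.1 + 1) e < n → coeff e Q = 0 := by
  obtain ⟨Q, hQ⟩ := esymmAlgHom_surjective ℤ (σ := Fin m) (n := m) (by simp) ⟨G, hsym⟩
  have hQ' : aeval (fun i : Fin m => esymm (Fin m) ℤ (i.1 + 1)) Q = G := by
    rw [← esymmAlgHom_apply, hQ]
  refine ⟨Q, hQ', fun e he => ?_⟩
  let w : Fin m → ℕ := fun i => i.1 + 1
  have hcomp : weightedHomogeneousComponent w (Finsupp.weight w e) Q = 0 := by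
    apply aeval_esymm_injective ℤ m
    rw [map_zero, component_aeval (w' := fun _ : Fin m => (1 : ℕ)), hQ']
    · ext d
      rw [coeff_weightedHomogeneousComponent, coeff_zero]
      split_ifs with hd
      · refine (mem_pow_idealOfVars_iff' n G).mp hmem d ?_
        rw [← hd] at he
        simpa [Finsupp.weight_apply, Finsupp.sum, Finsupp.degree_apply] using he
      · rfl
    · intro i
      rw [esymm_eq_multiset_esymm]
      have := isWeightedHomogeneous_esymm (w' := fun _ : Fin m => (1 : ℕ)) (univ : Finset (Fin m))
        (fun a => (X a : MvPolynomial (Fin m) ℤ)) 1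
        (fun a _ => isWeightedHomogeneous_X ℤ (fun _ : Fin m => (1 : ℕ)) a) (i.1 + 1)
      simpa [w] using this
  have := congrArg (coeff e) hcomp
  rwa [coeff_weightedHomogeneousComponent, if_pos rfl, coeff_zero] at this

variable {R : Type*} [CommRing R] {ι : Type*} [DecidableEq ι]

/-- Alternating sum over the subsets of `S` of powers of the sum. -/
def altPow (a : ι → R) (S : Finset ι) (k : ℕ) : R :=
  ∑ T ∈ S.powerset, (-1) ^ (S.card - T.card) * (∑ i ∈ T, a i) ^ k

theorem altPow_eq (a : ι → R) (S : Finset ι) : ∀ k ≤ S.card,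
    altPow a S k = if k = S.card then (S.card.factorial : R) * ∏ i ∈ S, a i else 0 := by
  induction S using Finset.induction with
  | empty =>
    intro k hk
    obtain rfl : k = 0 := by simpa using hk
    simp [altPow]
  | insert b S hb ih =>
    intro k hk
    rw [Finset.card_insert_of_notMem hb] at hk
    have hstep : altPow a (insert b S) k =
        ∑ i ∈ range k, (k.choose i : R) * a b ^ (k - i) * altPow a S i := by
      rw [altPow, Finset.sum_powerset_insert hb, ← Finset.sum_add_distrib]
      simp only [altPow, Finset.mul_sum]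
      rw [Finset.sum_comm]
      refine Finset.sum_congr rfl fun T hT => ?_
      have hbT : b ∉ T := fun h => hb (Finset.mem_powerset.mp hT h)
      have hle := Finset.card_le_card (Finset.mem_powerset.mp hT)
      rw [Finset.card_insert_of_notMem hb, Finset.card_insert_of_notMem hbT, Finset.sum_insert hbT,
        show S.card + 1 - T.card = S.card - T.card + 1 by omega,
        show S.card + 1 - (T.card + 1) = S.card - T.card by omega, pow_succ, add_comm (a b), add_pow,
        Finset.sum_range_succ, Nat.sub_self, pow_zero, mul_one, Nat.choose_self, Nat.cast_one,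
        mul_one, mul_add, Finset.mul_sum]
      rw [show ∀ u w v : R, u * (-1) * v + (w + u * v) = w from fun u w v => by ring]
      exact Finset.sum_congr rfl fun i _ => by ring
    rw [hstep, Finset.card_insert_of_notMem hb]
    split_ifs with h
    · subst h
      rw [Finset.sum_range_succ, ih _ le_rfl, if_pos rfl, Finset.sum_eq_zero, zero_add,
        Nat.choose_succ_self_right, Finset.prod_insert hb, Nat.factorial_succ,
        show S.card + 1 - S.card = 1 by omega, pow_one]
      · push_cast; ring
      · intro i hi
        have := Finset.mem_range.mp hi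
        rw [ih i (by omega), if_neg (by omega), mul_zero]
    · refine Finset.sum_eq_zero fun i hi => ?_
      have := Finset.mem_range.mp hi
      rw [ih i (by omega), if_neg (by omega), mul_zero]

/-- The power sum of the Chern roots of `esymm_r`, in the variables `z`. -/
noncomputable def gamPoly (m r k : ℕ) : MvPolynomial (Fin m) ℤ :=
  ∑ S ∈ powersetCard r (univ : Finset (Fin m)), ∑ T ∈ S.powerset,
    (-1) ^ (r - T.card) * ((∏ i ∈ T, (1 + X i)) - 1) ^ k

theorem gamPoly_symm (m r k : ℕ) : (gamPoly m r k).IsSymmetric := fun σ => by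
  conv_rhs => rw [gamPoly, ← Finset.map_univ_equiv σ, Finset.powersetCard_map, Finset.sum_map]
  rw [gamPoly, map_sum]
  refine Finset.sum_congr rfl fun S _ => ?_
  change _ = ∑ T ∈ (S.map σ.toEmbedding).powerset, _
  rw [map_sum]
  refine Finset.sum_bij' (fun T _ => T.map σ.toEmbedding) (fun T _ => T.map σ.symm.toEmbedding)
    (fun T hT => by simpa using hT) (fun T hT => ?_) (fun T _ => by ext; simp) (fun T _ => by ext; simp)
    fun T _ => by simp [map_prod]
  rw [Finset.mem_powerset] at hT ⊢
  intro x hx
  obtain ⟨y, hy, rfl⟩ := Finset.mem_map.mp hx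
  obtain ⟨z, hz, rfl⟩ := Finset.mem_map.mp (hT hy)
  simpa using hz

theorem gamPoly_sub_mem {m r k : ℕ} (hk : k ≤ r) :
    gamPoly m r k - (if k = r then (r.factorial : MvPolynomial (Fin m) ℤ) * esymm (Fin m) ℤ r else 0) ∈
      idealOfVars (Fin m) ℤ ^ (k + 1) := by
  have hX : ∀ i, (X i : MvPolynomial (Fin m) ℤ) ∈ idealOfVars (Fin m) ℤ := fun i =>
    Ideal.subset_span (Set.mem_range_self i)
  have hlin : ∀ T : Finset (Fin m), (∏ i ∈ T, (1 + X i)) - 1 - ∑ i ∈ T, X i ∈
      idealOfVars (Fin m) ℤ ^ 2 := by
    intro T
    induction T using Finset.induction with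
    | empty => simp
    | insert b T hb ih =>
      rw [Finset.prod_insert hb, Finset.sum_insert hb,
        show (1 + X b) * ∏ i ∈ T, (1 + X i) - 1 - (X b + ∑ i ∈ T, X i) =
          (1 + X b) * ((∏ i ∈ T, (1 + X i : MvPolynomial (Fin m) ℤ)) - 1 - ∑ i ∈ T, X i) +
            X b * ∑ i ∈ T, X i by ring]
      refine add_mem (Ideal.mul_mem_left _ _ ih) ?_
      rw [pow_two]
      exact Ideal.mul_mem_mul (hX b) (sum_mem fun i _ => hX i)
  have hmain : ∑ S ∈ powersetCard r (univ : Finset (Fin m)), altPow X S k =
      if k = r then (r.factorial : MvPolynomial (Fin m) ℤ) * esymm (Fin m) ℤ r else 0 := by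
    split_ifs with h
    · rw [esymm, Finset.mul_sum]
      refine Finset.sum_congr rfl fun S hS => ?_
      have hc := (Finset.mem_powersetCard.mp hS).2
      rw [altPow_eq _ S k (by omega), hc, if_pos h]
    · refine Finset.sum_eq_zero fun S hS => ?_
      have hc := (Finset.mem_powersetCard.mp hS).2
      rw [altPow_eq _ S k (by omega), hc, if_neg h]
  rw [← hmain, gamPoly, ← Finset.sum_sub_distrib]
  refine sum_mem fun S hS => ?_
  have hc := (Finset.mem_powersetCard.mp hS).2
  rw [altPow, hc, ← Finset.sum_sub_distrib]
  refine sum_mem fun T _ => ?_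
  rw [← mul_sub]
  refine Ideal.mul_mem_left _ _ ?_
  have hw : ∑ i ∈ T, (X i : MvPolynomial (Fin m) ℤ) ∈ idealOfVars (Fin m) ℤ := sum_mem fun i _ => hX i
  have := prod_sub_prod_mem (idealOfVars (Fin m) ℤ) (univ : Finset (Fin k))
    (fun _ => (∏ i ∈ T, (1 + X i : MvPolynomial (Fin m) ℤ)) - 1) (fun _ => ∑ i ∈ T, X i)
    (fun _ _ => by
      have := Ideal.pow_le_self (by norm_num) (hlin T)
      simpa using add_mem this hw)
    (fun _ _ => hw) fun _ _ => hlin T
  simpa using this

end Universal

variable (P) in
/-- `x ∈ F^n` on which the Chern character is `n!` times the class, in degree `≤ n`. -/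
def Good (n : ℕ) (x : K) : Prop :=
  x ∈ gammaFiltration P n ∧
    ∀ k ≤ n, chC P k x - (if k = n then (n.factorial : K) * x else 0) ∈ gammaFiltration P (k + 1)

theorem good_zero (x : K) : Good P 0 x := by
  refine ⟨gammaFiltration_zero x, fun k hk => ?_⟩
  obtain rfl : k = 0 := by omega
  rw [if_pos rfl, chC_zero, Nat.factorial_zero, Nat.cast_one, one_mul]
  exact mem_gammaFiltration_one (by simp)

theorem good_zero_arg (n : ℕ) : Good P n (0 : K) := by
  refine ⟨zero_mem _, fun k _ => ?_⟩
  rw [← chH_apply, map_zero]
  simp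

theorem good_add {n : ℕ} {x y : K} (hx : Good P n x) (hy : Good P n y) : Good P n (x + y) := by
  refine ⟨add_mem hx.1 hy.1, fun k hk => ?_⟩
  convert add_mem (hx.2 k hk) (hy.2 k hk) using 1
  rw [chC_add]
  split_ifs <;> ring

theorem good_neg {n : ℕ} {x : K} (hx : Good P n x) : Good P n (-x) := by
  refine ⟨neg_mem hx.1, fun k hk => ?_⟩
  convert neg_mem (hx.2 k hk) using 1
  rw [← chH_apply, map_neg, chH_apply]
  split_ifs <;> ring

theorem Good.mem_succ {n k : ℕ} {x : K} (hx : Good P n x) (hk : k < n) :
    chC P k x ∈ gammaFiltration P (k + 1) := by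
  simpa [hk.ne] using hx.2 k hk.le

theorem Good.anti {m n : ℕ} (hmn : m ≤ n) {x : K} (hx : Good P n x) : Good P m x := by
  refine ⟨gammaFiltration_anti hmn hx.1, fun k hk => ?_⟩
  rcases eq_or_lt_of_le hmn with rfl | hlt
  · exact hx.2 k hk
  refine sub_mem (hx.mem_succ (by omega)) ?_
  split_ifs with h
  · exact gammaFiltration_mul_mem _ (gammaFiltration_anti (by omega) hx.1)
  · exact zero_mem _

theorem good_mul (hK : HasSplitting K P) {a b : ℕ} {x y : K} (hx : Good P a x) (hy : Good P b y) :
    Good P (a + b) (x * y) := by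
  refine ⟨gammaFiltration_mul hx.1 hy.1, fun k hk => ?_⟩
  have hterm : ∀ i ≤ k, chC P i x * chC P (k - i) y -
      (if i = a ∧ k - i = b then ((a.factorial * b.factorial : ℕ) : K) * (x * y) else 0) ∈
        gammaFiltration P (k + 1) := by
    intro i hi
    rcases lt_trichotomy i a with h | h | h
    · rw [if_neg (by omega), sub_zero, show k + 1 = (i + 1) + (k - i) by omega]
      exact gammaFiltration_mul (hx.mem_succ h) (chC_mem _ _)
    · rcases lt_or_eq_of_le (show k - i ≤ b by omega) with h' | h'
      · rw [if_neg (by omega), sub_zero, show k + 1 = i + ((k - i) + 1) by omega]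
        exact gammaFiltration_mul (chC_mem _ _) (hy.mem_succ h')
      · subst h
        rw [if_pos ⟨rfl, h'⟩]
        have h1 := hx.2 i le_rfl
        have h2 := hy.2 b le_rfl
        rw [if_pos rfl] at h1 h2
        have := add_mem (gammaFiltration_mul h1 (chC_mem (P := P) b y))
          (show (i.factorial : K) * x * (chC P b y - (b.factorial : K) * y) ∈
              gammaFiltration P (i + 1 + b) by
            rw [show i + 1 + b = i + (b + 1) by omega]
            exact gammaFiltration_mul (gammaFiltration_mul_mem _ hx.1) h2)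
        rw [show k + 1 = i + 1 + b by omega, h', Nat.cast_mul]
        convert this using 1
        ring
    · rw [if_neg (by omega), sub_zero, show k + 1 = i + ((k - i) + 1) by omega]
      exact gammaFiltration_mul (chC_mem _ _) (hy.mem_succ (by omega))
  have hmain : chC P k (x * y) - ∑ s ∈ range (k + 1),
      (k.choose s : K) * (chC P s x * chC P (k - s) y) ∈ gammaFiltration P (k + 1) := by
    rw [chC_mul hK, Finset.sum_range_succ']
    simp only [Nat.choose_zero_right, Nat.sub_zero, zero_add, one_mul, add_sub_cancel_right]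
    refine sum_mem fun l hl => sum_mem fun s hs => gammaFiltration_mul_mem _ ?_
    simp only [Finset.mem_range] at hl hs
    exact gammaFiltration_anti (show k + 1 ≤ l + 1 + s + (k - s) by omega)
      (gammaFiltration_mul (chC_mem _ _) (chC_mem _ _))
  have h2 : ∑ s ∈ range (k + 1), (k.choose s : K) * (chC P s x * chC P (k - s) y) -
      (if k = a + b then ((a + b).factorial : K) * (x * y) else 0) ∈ gammaFiltration P (k + 1) := by
    have := AddSubgroup.sum_mem (gammaFiltration P (k + 1)) fun i (hi : i ∈ range (k + 1)) =>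
      gammaFiltration_mul_mem (k.choose i : K) (hterm i (by simp only [Finset.mem_range] at hi; omega))
    simp only [mul_sub, Finset.sum_sub_distrib] at this
    convert this using 2
    split_ifs with h
    · subst h
      rw [Finset.sum_eq_single a]
      · rw [if_pos ⟨rfl, by omega⟩, ← Nat.add_choose_mul_factorial_mul_factorial a b]
        rw [Nat.choose_symm_add]
        push_cast
        ring
      · intro i _ hia
        rw [if_neg (fun hh => hia hh.1), mul_zero]
      · simp
    · refine (Finset.sum_eq_zero fun i hi => ?_).symm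
      rw [if_neg (by simp only [Finset.mem_range] at hi; omega), mul_zero]
  convert add_mem hmain h2 using 1
  ring

/-- The `Good` elements as a multiplicative family. -/
noncomputable def goodFam (hK : HasSplitting K P) : GradedFam K where
  M n :=
    { carrier := {x | Good P n x}
      zero_mem' := good_zero_arg n
      add_mem' := good_add
      neg_mem' := good_neg }
  one_mem := good_zero 1
  mul_mem := good_mul hK

theorem seriesIn_good_pos (hK : HasSplitting K P) {e : K} (he : e ∈ P.pos) :
    SeriesIn (goodFam hK) (gammaSeries (e - (P.aug e : K))) := by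
  intro r
  rw [gammaSeries, PowerSeries.coeff_mk]
  change Good P r _
  rcases Nat.eq_zero_or_pos r with rfl | hr
  · exact good_zero _
  obtain ⟨L, f, hf, -, s, hs1, hs2, hcard⟩ := exists_split hK he
  set y := e - (P.aug e : K)
  have hy0 : P.aug y = 0 := by simp [y]
  have hmemF : ∀ i, gamma i y ∈ gammaFiltration P i := fun i => by
    simpa using prod_gamma_mem (P := P) (n := i) [(i, y)] (by simpa using hy0) (by simp)
  refine ⟨hmemF r, fun k hk => ?_⟩
  have hval : (univ : Finset (Fin s.toList.length)).val.map s.toList.get = s := by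
    rw [Fin.univ_val_map, List.ofFn_get, Multiset.coe_toList]
  have hline : ∀ i : Fin s.toList.length, L.posStr.IsLine (s.toList.get i) := fun i =>
    hs1 _ (Multiset.mem_toList.mp (List.get_mem _ i))
  have hfy : f y = s.sum - (s.card : L.carrier) := by
    rw [map_sub, map_intCast, ← hs2, ← hcard, Int.cast_natCast]
  let ev : MvPolynomial (Fin s.toList.length) ℤ →+* L.carrier :=
    (MvPolynomial.aeval fun i => s.toList.get i - 1).toRingHom
  have hev : ∀ j, ev (MvPolynomial.esymm (Fin s.toList.length) ℤ j) = f (gamma j y) := by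
    intro j
    rw [map_gamma hf.isLambdaHom, hfy, gamma_sum_lines hs1, MvPolynomial.esymm_eq_multiset_esymm,
      map_esymm', Multiset.map_map]
    conv_rhs => rw [← hval, Multiset.map_map]
    refine congrArg (Multiset.esymm · j) (Multiset.map_congr rfl fun i _ => ?_)
    simp [ev]
  have hch : ev (gamPoly s.toList.length r k) = f (chC P k (gamma r y)) := by
    have hr' : f (gamma r y) = ∑ S ∈ powersetCard r (univ : Finset (Fin s.toList.length)),
        ∏ i ∈ S, (s.toList.get i + (-1)) := by
      rw [← hev r, MvPolynomial.esymm, map_sum]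
      exact Finset.sum_congr rfl fun S _ => by simp [ev, sub_eq_add_neg]
    rw [map_chC hf, hr', gamPoly, map_sum, ← chH_apply, map_sum]
    refine Finset.sum_congr rfl fun S hS => ?_
    rw [Finset.prod_add, map_sum, map_sum]
    refine Finset.sum_congr rfl fun T hT => ?_
    have hw : L.posStr.IsLine (∏ i ∈ T, s.toList.get i) := by
      induction T using Finset.induction with
      | empty => simpa using isLine_one L.posStr
      | insert b T hb ih =>
        rw [Finset.prod_insert hb]
        exact line_mul (hline b) (ih (Finset.mem_powerset.mpr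
          ((Finset.subset_insert b T).trans (Finset.mem_powerset.mp hT))))
    rw [Finset.prod_const, Finset.card_sdiff_of_subset (Finset.mem_powerset.mp hT),
      (Finset.mem_powersetCard.mp hS).2, mul_comm (∏ i ∈ T, _), map_mul ev, map_pow, map_pow]
    have hcast : ((-1 : L.carrier) ^ (r - T.card)) * ∏ i ∈ T, s.toList.get i =
        ((-1 : ℤ) ^ (r - T.card)) • ∏ i ∈ T, s.toList.get i := by
      rw [zsmul_eq_mul]; push_cast; rfl
    rw [hcast, map_zsmul, zsmul_eq_mul, chH_apply, chC_line hw]
    push_cast
    simp [ev, map_prod]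
  obtain ⟨Q, hQ1, hQ2⟩ := exists_sym_poly (n := k + 1)
    (gamPoly s.toList.length r k - (if k = r then
      (r.factorial : MvPolynomial (Fin s.toList.length) ℤ) * MvPolynomial.esymm (Fin s.toList.length) ℤ r else 0))
    (by
      intro σ
      rw [map_sub, gamPoly_symm _ r k σ]
      congr 1
      split_ifs
      · rw [map_mul, map_natCast, esymm_isSymmetric (Fin _) ℤ r σ]
      · rw [map_zero])
    (gamPoly_sub_mem hk)
  have key : chC P k (gamma r y) - (if k = r then (r.factorial : K) * gamma r y else 0) =
      MvPolynomial.aeval (fun i : Fin s.toList.length => gamma (i.1 + 1) y) Q := by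
    refine hf.injective ?_
    have hG := congrArg ev hQ1
    rw [map_aeval_int] at hG
    rw [map_aeval_int,
      ← show (fun i : Fin s.toList.length => ev (MvPolynomial.esymm (Fin s.toList.length) ℤ (i.1 + 1))) =
        fun i => f (gamma (i.1 + 1) y) from funext fun i => hev _, hG, map_sub, map_sub, hch]
    congr 1
    split_ifs
    · rw [map_mul, map_mul, map_natCast, map_natCast, hev]
    · rw [map_zero, map_zero]
  rw [key]
  exact (gammaFam P).aeval_mem (w := fun i : Fin s.toList.length => i.1 + 1) (fun i => hmemF _)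
    (fun h x hx => gammaFiltration_anti h hx) Q (k + 1) hQ2

theorem good_of_mem (hK : HasSplitting K P) {n : ℕ} {x : K} (hx : x ∈ gammaFiltration P n) :
    Good P n x := by
  rcases eq_or_ne n 0 with rfl | hn
  · exact good_zero x
  refine gammaFiltration_induction (motive := Good P n) hn hx (fun l h1 h2 => ?_)
    (good_zero_arg n) (fun _ _ => good_add) fun _ => good_neg
  have hser : ∀ p ∈ l, gamma p.1 p.2 ∈ (goodFam hK).M p.1 := by
    intro p hp
    obtain ⟨e, e', he, he', hxe⟩ := P.exists_sub p.2
    have haug : P.aug e = P.aug e' := sub_eq_zero.mp (by rw [← map_sub, ← hxe, h1 p hp])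
    refine gamma_mem_of_seriesIn ?_ _
    rw [hxe, show e - e' = (e - (P.aug e : K)) + -(e' - (P.aug e' : K)) by rw [haug]; ring,
      gammaSeries_add]
    exact (seriesIn_good_pos hK he).mul
      ((seriesIn_good_pos hK he').inverse (gammaSeries_neg_mul _) (constantCoeff_gammaSeries _))
  have hmem := (goodFam hK).list_prod_mem (l.map fun p => (p.1, gamma p.1 p.2))
    (fun q hq => by obtain ⟨p, hp, rfl⟩ := List.mem_map.mp hq; exact hser p hp)
  simp only [List.map_map, Function.comp_def] at hmem
  exact Good.anti h2 hmem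

end Groth.Agent.KRRLam
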