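import Groth.Agent.KRRLam.Basic

/-!
The determinant homomorphism of a λ-ring with positive structure, and `Gr^1`.
-/

universe u

open Finset LambdaRing

namespace Groth.Agent.KRRLam

open Groth.Agent.Lambda

variable {K : Type u} [CommRing K] [LambdaOps K] (P : PosStructure K)

/-- `λ^top` of a positive element, as a unit. -/
noncomputable def detPos (e : K) : Additive Kˣ :=
  open Classical in
  if he : e ∈ P.pos then Additive.ofMul (P.isUnit_lam e he).unit else 0

theorem detPos_val {e : K} (he : e ∈ P.pos) :
    ((detPos P e).toMul : K) = LambdaOps.lam (P.aug e).toNat e := by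
  rw [detPos, dif_pos he]
  exact IsUnit.unit_spec _

theorem detPos_add {e f : K} (he : e ∈ P.pos) (hf : f ∈ P.pos) :
    detPos P (e + f) = detPos P e + detPos P f := by
  apply Additive.toMul.injective
  apply Units.ext
  rw [toMul_add, Units.val_mul, detPos_val P he, detPos_val P hf,
    detPos_val P (P.add_mem e f he hf), map_add]
  have ha := P.aug_pos e he
  have hb := P.aug_pos f hf
  rw [show (P.aug e + P.aug f).toNat = (P.aug e).toNat + (P.aug f).toNat by omega, LambdaOps.lam_add,
    Finset.sum_eq_single (P.aug e).toNat]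
  · rw [Nat.add_sub_cancel_left]
  · intro i hi hne
    simp only [Finset.mem_range] at hi
    rcases lt_or_gt_of_ne hne with h | h
    · rw [P.lam_eq_zero f hf _ (by omega), mul_zero]
    · rw [P.lam_eq_zero e he _ (by omega), zero_mul]
  · intro h
    exact absurd (Finset.mem_range.mpr (by omega)) h

/-- The determinant, extended to all of `K`. -/
noncomputable def det (x : K) : Additive Kˣ :=
  detPos P (P.exists_sub x).choose - detPos P (P.exists_sub x).choose_spec.choose

theorem det_sub {e f : K} (he : e ∈ P.pos) (hf : f ∈ P.pos) :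
    det P (e - f) = detPos P e - detPos P f := by
  obtain ⟨h1, h2, h3⟩ := (P.exists_sub (e - f)).choose_spec.choose_spec
  rw [det, sub_eq_sub_iff_add_eq_add, ← detPos_add P h1 hf, ← detPos_add P he h2]
  congr 1
  linear_combination -h3

theorem det_add (x y : K) : det P (x + y) = det P x + det P y := by
  obtain ⟨e, f, he, hf, rfl⟩ := P.exists_sub x
  obtain ⟨e', f', he', hf', rfl⟩ := P.exists_sub y
  rw [show e - f + (e' - f') = (e + e') - (f + f') by ring,
    det_sub P (P.add_mem e e' he he') (P.add_mem f f' hf hf'), det_sub P he hf, det_sub P he' hf',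
    detPos_add P he he', detPos_add P hf hf']
  abel

/-- `det` as an additive map. -/
noncomputable def detH : K →+ Additive Kˣ := AddMonoidHom.mk' (det P) (det_add P)

theorem detH_apply (x : K) : detH P x = det P x := rfl

theorem det_pos {e : K} (he : e ∈ P.pos) : det P e = detPos P e := by
  have h := det_sub P (P.add_mem e e he he) he
  rw [detPos_add P he he, add_sub_cancel_right, add_sub_cancel_right] at h
  exact h

variable {P}

theorem det_line {w : K} (hw : P.IsLine w) : ((det P w).toMul : K) = w := by
  rw [det_pos P hw.1, detPos_val P hw.1, hw.2, Int.toNat_one, LambdaOps.lam_one]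

theorem det_sum_lines {s : Multiset K} (hs : ∀ u ∈ s, P.IsLine u) :
    det P s.sum = (s.map (det P)).sum := by
  rw [← detH_apply, map_multiset_sum]
  rfl

theorem det_natCast (n : ℕ) : det P (n : K) = 0 := by
  have h1 : det P (1 : K) = 0 := by
    apply Additive.toMul.injective
    apply Units.ext
    rw [det_line (isLine_one P)]
    rfl
  rw [← detH_apply, ← nsmul_one, map_nsmul, detH_apply, h1, smul_zero]

theorem det_mul_line {u v : K} (hu : P.IsLine u) (hv : P.IsLine v) :
    det P (u * v) = det P u + det P v := by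
  apply Additive.toMul.injective
  apply Units.ext
  rw [toMul_add, Units.val_mul, det_line hu, det_line hv, det_line (line_mul hu hv)]

theorem map_det {L : Type u} [CommRing L] [LambdaOps L] {Q : PosStructure L} {f : K →+* L}
    (hf : IsExtension P Q f) (x : K) : f ((det P x).toMul : K) = ((det Q (f x)).toMul : L) := by
  have key : ∀ e ∈ P.pos, f ((detPos P e).toMul : K) = ((detPos Q (f e)).toMul : L) := fun e he => by
    rw [detPos_val P he, detPos_val Q (hf.pos_subset e he), hf.aug_comp, hf.isLambdaHom]
  obtain ⟨e, e', he, he', rfl⟩ := P.exists_sub x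
  rw [map_sub, det_sub P he he', det_sub Q (hf.pos_subset e he) (hf.pos_subset e' he'), toMul_sub,
    toMul_sub, div_eq_mul_inv, div_eq_mul_inv, Units.val_mul, Units.val_mul, map_mul, key e he]
  congr 1
  have hu : Units.map f.toMonoidHom (detPos P e').toMul = (detPos Q (f e')).toMul :=
    Units.ext (key e' he')
  rw [← hu]
  exact ((Units.map f.toMonoidHom).map_inv (detPos P e').toMul ▸ rfl)

theorem det_mul (hK : HasSplitting K P) (x y : K) :
    det P (x * y) = P.aug y • det P x + P.aug x • det P y := by
  have key : ∀ e ∈ P.pos, ∀ e' ∈ P.pos,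
      det P (e * e') = P.aug e' • det P e + P.aug e • det P e' := by
    intro e he e' he'
    obtain ⟨L, f, hf, -, hs⟩ := exists_split_list hK [e, e'] (by simp [he, he'])
    obtain ⟨s, hs1, hs2⟩ := hs e (by simp)
    obtain ⟨t, ht1, ht2⟩ := hs e' (by simp)
    let F : Additive Kˣ →+ Additive L.carrierˣ := (Units.map f.toMonoidHom).toAdditive
    have hF : ∀ z, F (det P z) = det L.posStr (f z) := fun z => by
      apply Additive.toMul.injective
      apply Units.ext
      exact map_det hf z
    have hinj : Function.Injective F := fun a b hab => by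
      apply Additive.toMul.injective
      exact Units.map_injective (f := f.toMonoidHom) hf.injective (congrArg Additive.toMul hab)
    refine hinj ?_
    rw [map_add, map_zsmul, map_zsmul, hF, hF, hF, map_mul, ← hf.aug_comp, ← hf.aug_comp e, ← hs2,
      ← ht2, aug_sum_lines hs1, aug_sum_lines ht1, natCast_zsmul, natCast_zsmul]
    have hprod : s.sum * t.sum = ((s ×ˢ t).map fun p => p.1 * p.2).sum := by
      rw [sum_map_mul_product s t (fun u => u) (fun v => v), Multiset.map_id', Multiset.map_id']
    rw [hprod, det_sum_lines (fun w hw => ?_), det_sum_lines hs1, det_sum_lines ht1, Multiset.map_map]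
    · have hdet : ∀ p ∈ s ×ˢ t, (det L.posStr ∘ fun p : L.carrier × L.carrier => p.1 * p.2) p =
          det L.posStr p.1 + det L.posStr p.2 := fun p hp => by
        rw [Multiset.mem_product] at hp
        exact det_mul_line (hs1 _ hp.1) (ht1 _ hp.2)
      rw [Multiset.map_congr rfl hdet, Multiset.sum_map_add]
      have h1 : ∀ (s' t' : Multiset L.carrier) (g : L.carrier → Additive L.carrierˣ),
          ((s' ×ˢ t').map fun p => g p.1).sum = t'.card • (s'.map g).sum := by
        intro s' t' g
        induction s' using Multiset.induction with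
        | empty => simp
        | cons a s' ih =>
          rw [Multiset.cons_product, Multiset.map_add, Multiset.sum_add, Multiset.map_map, ih,
            Multiset.map_cons, Multiset.sum_cons, nsmul_add]
          simp [Function.comp_def]
      have h2 : ∀ (s' t' : Multiset L.carrier) (g : L.carrier → Additive L.carrierˣ),
          ((s' ×ˢ t').map fun p => g p.2).sum = s'.card • (t'.map g).sum := by
        intro s' t' g
        induction s' using Multiset.induction with
        | empty => simp
        | cons a s' ih =>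
          rw [Multiset.cons_product, Multiset.map_add, Multiset.sum_add, Multiset.map_map, ih,
            Multiset.card_cons, succ_nsmul']
          simp [Function.comp_def]
      rw [h1, h2]
    · obtain ⟨p, hp, rfl⟩ := Multiset.mem_map.mp hw
      rw [Multiset.mem_product] at hp
      exact line_mul (hs1 _ hp.1) (ht1 _ hp.2)
  obtain ⟨e, e', he, he', rfl⟩ := P.exists_sub x
  obtain ⟨g, g', hg, hg', rfl⟩ := P.exists_sub y
  simp only [sub_mul, mul_sub, ← detH_apply, map_sub] at *
  simp only [detH_apply] at *
  rw [key e he g hg, key e he g' hg', key e' he' g hg, key e' he' g' hg']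
  module

theorem det_mul_eq_zero (hK : HasSplitting K P) {x y : K} (hx : P.aug x = 0) (hy : P.aug y = 0) :
    det P (x * y) = 0 := by
  rw [det_mul hK, hx, hy, zero_smul, zero_smul, add_zero]

theorem aug_gamma (hK : HasSplitting K P) {y : K} (hy : P.aug y = 0) {r : ℕ} (hr : 1 ≤ r) :
    P.aug (gamma r y) = 0 := by
  have h : ∀ i, 1 ≤ i → P.aug (LambdaOps.lam i y) = 0 := by
    obtain ⟨e, f, he, hf, rfl⟩ := P.exists_sub y
    obtain ⟨L, φ, hφ, -, hs⟩ := exists_split_list hK [e, f] (by simp [he, hf])
    obtain ⟨s, hs1, hs2⟩ := hs e (by simp)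
    obtain ⟨t, ht1, ht2⟩ := hs f (by simp)
    intro i
    induction i using Nat.strong_induction_on with
    | _ i ih =>
      intro hi
      have hcard : s.card = t.card := by
        have h1 := aug_sum_lines (P := L.posStr) hs1
        have h2 := aug_sum_lines (P := L.posStr) ht1
        rw [hs2, hφ.aug_comp] at h1
        rw [ht2, hφ.aug_comp] at h2
        rw [map_sub, h1, h2, sub_eq_zero] at hy
        exact_mod_cast hy
      have haug : ∀ (m : Multiset L.carrier), (∀ u ∈ m, L.posStr.IsLine u) → ∀ j,
          L.posStr.aug (LambdaOps.lam j m.sum) = (m.card.choose j : ℤ) := fun m hm j => by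
        rw [lam_sum_lines hm, map_esymm', Multiset.map_congr rfl (fun u hu => (hm u hu).2),
          Multiset.map_const', Multiset.esymm, Multiset.map_congr rfl (fun t ht => ?_),
          Multiset.map_const', Multiset.sum_replicate, Multiset.card_powersetCard,
          Multiset.card_replicate]
        · exact nsmul_one _
        · exact Multiset.prod_eq_one fun x hx =>
            Multiset.eq_of_mem_replicate (Multiset.mem_of_le (Multiset.mem_powersetCard.mp ht).1 hx)
      have h' := congrArg P.aug (LambdaOps.lam_add i (e - f) f)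
      rw [sub_add_cancel, map_sum, Finset.sum_range_succ', Finset.sum_eq_single (i - 1)] at h'
      · simp only [LambdaOps.lam_zero, map_mul, map_one, one_mul, Nat.sub_zero,
          show i - 1 + 1 = i by omega, Nat.sub_self, mul_one] at h'
        rw [← hφ.aug_comp (LambdaOps.lam i e), ← hφ.aug_comp (LambdaOps.lam i f), hφ.isLambdaHom,
          hφ.isLambdaHom, ← hs2, ← ht2, haug s hs1, haug t ht1, hcard] at h'
        linarith
      · intro j hj hne
        simp only [Finset.mem_range] at hj
        rw [map_mul, ih (j + 1) (by omega) (by omega), zero_mul]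
      · intro h; exact absurd (Finset.mem_range.mpr (by omega)) h
  rw [gamma, if_neg (by omega), map_sum]
  refine Finset.sum_eq_zero fun j _ => ?_
  rcases Nat.eq_zero_or_pos j with hj | hj
  · simp [hj]
  · rw [if_neg (by omega), map_mul, h j hj, mul_zero]

theorem det_gamma_pos (hK : HasSplitting K P) {e : K} (he : e ∈ P.pos) {r : ℕ} (hr : 2 ≤ r) :
    det P (gamma r (e - (P.aug e : K))) = 0 := by
  obtain ⟨L, f, hf, hL, s, hs1, hs2, hcard⟩ := exists_split hK he
  apply Additive.toMul.injective
  apply Units.ext
  refine hf.injective ?_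
  rw [map_det hf, map_gamma hf.isLambdaHom, map_sub, map_intCast, ← hs2, ← hcard, Int.cast_natCast,
    gamma_sum_lines hs1, toMul_zero, Units.val_one, map_one, Multiset.esymm, ← detH_apply,
    map_multiset_sum, Multiset.map_map, Multiset.sum_eq_zero fun z hz => ?_]
  · rfl
  obtain ⟨m, hm, rfl⟩ := Multiset.mem_map.mp hz
  obtain ⟨hle, hc⟩ := Multiset.mem_powersetCard.mp hm
  have hmem : ∀ a ∈ m, L.posStr.aug a = 0 := fun a ha => by
    obtain ⟨u, hu, rfl⟩ := Multiset.mem_map.mp (Multiset.mem_of_le hle ha)
    rw [map_sub, (hs1 u hu).2, map_one, sub_self]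
  obtain ⟨a, ha⟩ := Multiset.card_pos_iff_exists_mem.mp (show 0 < m.card by omega)
  obtain ⟨m', rfl⟩ := Multiset.exists_cons_of_mem ha
  rw [Multiset.card_cons] at hc
  obtain ⟨b, hb⟩ := Multiset.card_pos_iff_exists_mem.mp (show 0 < m'.card by omega)
  obtain ⟨m'', rfl⟩ := Multiset.exists_cons_of_mem hb
  rw [Function.comp_apply, Multiset.prod_cons, Multiset.prod_cons, detH_apply]
  refine det_mul_eq_zero hL (hmem a (by simp)) ?_
  rw [map_mul, hmem b (by simp), zero_mul]

theorem det_gamma_sum (hK : HasSplitting K P) {y z : K} (hy : P.aug y = 0) (hz : P.aug z = 0)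
    {r : ℕ} (hr : 1 ≤ r) : det P (gamma r (y + z)) = det P (gamma r y) + det P (gamma r z) := by
  have h := congrArg (PowerSeries.coeff r) (gammaSeries_add y z)
  rw [PowerSeries.coeff_mul, Finset.Nat.sum_antidiagonal_eq_sum_range_succ_mk] at h
  simp only [gammaSeries, PowerSeries.coeff_mk] at h
  obtain ⟨r, rfl⟩ := Nat.exists_eq_add_of_le' hr
  rw [h, Finset.sum_range_succ, Finset.sum_range_succ', ← detH_apply, map_add, map_add, map_sum,
    Finset.sum_eq_zero, zero_add]
  · simp only [Nat.sub_self, Nat.sub_zero, gamma_zero, mul_one, one_mul, detH_apply]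
    abel
  · intro i hi
    simp only [Finset.mem_range] at hi
    exact det_mul_eq_zero hK (aug_gamma hK hy (by omega)) (aug_gamma hK hz (by omega))

theorem det_gamma (hK : HasSplitting K P) {y : K} (hy : P.aug y = 0) {r : ℕ} (hr : 2 ≤ r) :
    det P (gamma r y) = 0 := by
  obtain ⟨e, f, he, hf, rfl⟩ := P.exists_sub y
  have haug : P.aug e = P.aug f := sub_eq_zero.mp (by rwa [← map_sub])
  have h1 : P.aug (e - (P.aug e : K)) = 0 := by simp
  have h2 : P.aug (f - (P.aug f : K)) = 0 := by simp
  have h := det_gamma_sum hK h2 hy (r := r) (by omega)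
  rw [show f - (P.aug f : K) + (e - f) = e - (P.aug e : K) by rw [haug]; ring,
    det_gamma_pos hK he hr, det_gamma_pos hK hf hr, zero_add] at h
  exact h.symm

theorem det_eq_zero_of_mem (hK : HasSplitting K P) {x : K} (hx : x ∈ gammaFiltration P 2) :
    det P x = 0 := by
  refine (gammaFiltration_induction (motive := fun z => det P z = 0 ∧ P.aug z = 0) (by norm_num) hx
    (fun l h1 h2 => ?_) ⟨by simpa using det_natCast (P := P) 0, map_zero _⟩
    (fun a b ha hb => ⟨by rw [det_add, ha.1, hb.1, add_zero], by rw [map_add, ha.2, hb.2, add_zero]⟩)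
    fun a ha => ⟨by rw [← detH_apply, map_neg, detH_apply, ha.1, neg_zero], by rw [map_neg, ha.2, neg_zero]⟩).1
  have key : ∀ l : List (ℕ × K), (∀ p ∈ l, P.aug p.2 = 0) →
      (1 ≤ (l.map Prod.fst).sum → P.aug (l.map fun p => gamma p.1 p.2).prod = 0) ∧
      (2 ≤ (l.map Prod.fst).sum → det P (l.map fun p => gamma p.1 p.2).prod = 0) := by
    intro l
    induction l with
    | nil => exact fun _ => ⟨fun h => by simp at h, fun h => by simp at h⟩
    | cons p l ih =>
      intro hl
      obtain ⟨r, y⟩ := p
      have hy := hl (r, y) List.mem_cons_self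
      obtain ⟨ihA, ihB⟩ := ih fun q hq => hl q (List.mem_cons_of_mem _ hq)
      simp only [List.map_cons, List.sum_cons, List.prod_cons]
      rcases Nat.eq_zero_or_pos r with rfl | hr
      · simp only [gamma_zero, one_mul, zero_add]
        exact ⟨ihA, ihB⟩
      refine ⟨fun _ => by rw [map_mul, aug_gamma hK hy hr, zero_mul], fun h => ?_⟩
      rcases Nat.eq_zero_or_pos (l.map Prod.fst).sum with h0 | h0
      · have hone : (l.map fun p => gamma p.1 p.2).prod = 1 := by
          refine List.prod_eq_one fun z hz => ?_
          obtain ⟨q, hq, rfl⟩ := List.mem_map.mp hz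
          rw [List.sum_eq_zero_iff.mp h0 q.1 (List.mem_map.mpr ⟨q, hq, rfl⟩), gamma_zero]
        rw [hone, mul_one]
        exact det_gamma hK hy (by omega)
      · exact det_mul_eq_zero hK (aug_gamma hK hy hr) (ihA h0)
  exact ⟨(key l h1).2 h2, (key l h1).1 (by omega)⟩

theorem sub_aug_congr_det {e : K} (he : e ∈ P.pos) :
    (e - (P.aug e : K)) - (LambdaOps.lam (P.aug e).toNat e - 1) ∈ gammaFiltration P 2 := by
  have hm := P.aug_pos e he
  obtain ⟨m, hme⟩ : ∃ m : ℕ, P.aug e = m + 1 := ⟨(P.aug e).toNat - 1, by omega⟩
  have h := congrArg (Polynomial.eval 1) (gamma_sub_rank_identity (lam_one_eq_zero_of_pos P) e (m + 1)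
    (fun i hi => P.lam_eq_zero e he i (by omega)))
  simp only [Polynomial.eval_finsetSum, Polynomial.eval_mul, Polynomial.eval_C, Polynomial.eval_pow,
    Polynomial.eval_X, Polynomial.eval_sub, Polynomial.eval_one, sub_self, one_pow, mul_one] at h
  have hr : ∑ i ∈ range (m + 1 + 1), LambdaOps.lam i e * (0 : K) ^ (m + 1 - i) =
      LambdaOps.lam (m + 1) e := by
    rw [Finset.sum_eq_single (m + 1)]
    · simp
    · intro i hi hne
      simp only [Finset.mem_range] at hi
      rw [zero_pow (by omega), mul_zero]
    · simp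
  rw [hr, Finset.sum_range_succ', Finset.sum_range_succ', gamma_zero, zero_add, gamma_one] at h
  rw [hme, show ((m : ℤ) + 1).toNat = m + 1 by omega, ← h]
  push_cast
  rw [show ∀ y S : K, y - (S + y + 1 - 1) = -S from fun y S => by ring]
  refine neg_mem (sum_mem fun i _ => gammaFiltration_anti (show 2 ≤ i + 1 + 1 by omega) ?_)
  simpa using prod_gamma_mem (P := P) (n := i + 1 + 1) [(i + 1 + 1, e - ((m : K) + 1))]
    (by simp [hme]) (by simp)

theorem lineElements_gr1 (hK : HasSplitting K P)
    (hLinv : ∀ w : K, P.IsLine w → ∃ w' : K, P.IsLine w' ∧ w * w' = 1)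
    (hdet : ∀ e : K, e ∈ P.pos → LambdaOps.lam (P.aug e).toNat e ∈ P.pos) :
    (∀ x : K, x ∈ gammaFiltration P 1 → ∃ u : K, P.IsLine u ∧ x - (u - 1) ∈ gammaFiltration P 2) ∧
    ∀ u v : K, P.IsLine u → P.IsLine v → u - v ∈ gammaFiltration P 2 → u = v := by
  refine ⟨fun x hx => ?_, fun u v hu hv huv => ?_⟩
  · have haug1 : ∀ e ∈ P.pos, P.IsLine (LambdaOps.lam (P.aug e).toNat e) := fun e he => by
      refine ⟨hdet e he, ?_⟩
      obtain ⟨L, f, hf, -, s, hs1, hs2, hcard⟩ := exists_split hK he
      rw [← hf.aug_comp, hf.isLambdaHom, ← hs2, lam_sum_lines hs1, ← hcard, Int.toNat_natCast,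
        esymm_card, map_multiset_prod, Multiset.map_congr rfl (fun v hv => (hs1 v hv).2),
        Multiset.map_const', Multiset.prod_replicate, one_pow]
    have hx0 : P.aug x = 0 := by
      refine gammaFiltration_induction (motive := fun z => P.aug z = 0) one_ne_zero hx
        (fun l h1 h2 => ?_) (map_zero _) (fun a b ha hb => by rw [map_add, ha, hb, add_zero])
        fun a ha => by rw [map_neg, ha, neg_zero]
      obtain ⟨q, hq, hq1⟩ : ∃ q ∈ l, 1 ≤ q.1 := by
        by_contra hne
        push Not at hne
        have : (l.map Prod.fst).sum = 0 := List.sum_eq_zero_iff.mpr fun a ha => by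
          obtain ⟨q, hq, rfl⟩ := List.mem_map.mp ha
          have := hne q hq
          omega
        omega
      rw [map_list_prod, List.map_map]
      exact List.prod_eq_zero (List.mem_map.mpr ⟨q, hq, aug_gamma hK (h1 q hq) hq1⟩)
    obtain ⟨e, f, he, hf, rfl⟩ := P.exists_sub x
    have haug : P.aug e = P.aug f := sub_eq_zero.mp (by rwa [← map_sub])
    obtain ⟨w', hw', hww'⟩ := hLinv _ (haug1 f hf)
    refine ⟨_, line_mul (haug1 e he) hw', ?_⟩
    have hprod : (LambdaOps.lam (P.aug e).toNat e * w' - 1) *
        (LambdaOps.lam (P.aug f).toNat f - 1) ∈ gammaFiltration P 2 :=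
      gammaFiltration_mul (mem_gammaFiltration_one (by rw [map_sub, map_mul, (haug1 e he).2, hw'.2, map_one]; rfl))
        (mem_gammaFiltration_one (by rw [map_sub, (haug1 f hf).2, map_one, sub_self]))
    convert add_mem (sub_mem (sub_aug_congr_det (P := P) he) (sub_aug_congr_det (P := P) hf)) hprod
      using 1
    rw [haug]
    linear_combination (-(LambdaOps.lam (P.aug f).toNat e)) * hww'
  · have h := det_eq_zero_of_mem hK huv
    rw [← detH_apply, map_sub, sub_eq_zero, detH_apply, detH_apply] at h
    rw [← det_line hu, ← det_line hv, h]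

end Groth.Agent.KRRLam
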