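import Groth.Agent.KRRLam.Basic
import Groth.Agent.Lambda.Split
import Mathlib.Algebra.MonoidAlgebra.Basic
import Mathlib.RingTheory.AdjoinRoot
import Mathlib.RingTheory.Polynomial.Vieta

/-!
The λ-structure and the positive structure on an elementary extension `K[T]/(p_e)`.
-/

universe u

open Finset LambdaRing Polynomial

namespace Groth.Agent.KRRLam.ElemExt

open Groth.Agent.Lambda

section Series

variable {A B : Type*} [CommRing A] [CommRing B]

/-- `1 + a t` as a unit. -/
noncomputable def lineUnit (a : A) : (PowerSeries A)ˣ :=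
  IsUnit.unit (a := 1 + PowerSeries.C a * PowerSeries.X)
    (PowerSeries.isUnit_iff_constantCoeff.mpr (by simp))

theorem val_lineUnit (a : A) :
    (lineUnit a : PowerSeries A) = 1 + PowerSeries.C a * PowerSeries.X := rfl

/-- The series `∏ (1 + a t) ^ n_a` of `Σ n_a [a]`. -/
noncomputable def ls : MonoidAlgebra ℤ A →+ Additive (PowerSeries A)ˣ :=
  (Finsupp.liftAddHom fun a => (zmultiplesHom _) (Additive.ofMul (lineUnit a))).comp
    MonoidAlgebra.coeffAddEquiv.toAddMonoidHom

theorem ls_single (a : A) (n : ℤ) :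
    ls (MonoidAlgebra.single a n) = n • Additive.ofMul (lineUnit a) := by
  simp [ls]

/-- Map of monoid algebras induced by a ring map. -/
noncomputable def mapMA (g : A →+* B) : MonoidAlgebra ℤ A →+* MonoidAlgebra ℤ B :=
  MonoidAlgebra.mapDomainRingHom ℤ g.toMonoidHom

theorem mapMA_single (g : A →+* B) (a : A) (n : ℤ) :
    mapMA g (MonoidAlgebra.single a n) = MonoidAlgebra.single (g a) n :=
  MonoidAlgebra.mapDomain_single

theorem map_lineUnit (g : A →+* B) (a : A) :
    Units.map (PowerSeries.map g).toMonoidHom (lineUnit a) = lineUnit (g a) := by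
  ext1
  simp [val_lineUnit]

/-- The map induced by a ring map on units of power series. -/
noncomputable def mapU (g : A →+* B) : Additive (PowerSeries A)ˣ →+ Additive (PowerSeries B)ˣ :=
  MonoidHom.toAdditive (Units.map (PowerSeries.map g).toMonoidHom)

/-- Rescaling, on units. -/
noncomputable def rescU (c : A) : Additive (PowerSeries A)ˣ →+ Additive (PowerSeries A)ˣ :=
  MonoidHom.toAdditive (Units.map (PowerSeries.rescale c).toMonoidHom)

theorem ls_map (g : A →+* B) (z : MonoidAlgebra ℤ A) : ls (mapMA g z) = mapU g (ls z) := by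
  induction z using MonoidAlgebra.induction_linear with
  | zero => simp
  | add x y hx hy => simp only [map_add, hx, hy]
  | single a n =>
    rw [mapMA_single, ls_single, ls_single, map_zsmul]
    congr 2
    exact (map_lineUnit g a).symm

theorem rescU_ls (c : A) (z : MonoidAlgebra ℤ A) :
    rescU c (ls z) = ls (MonoidAlgebra.single c 1 * z) := by
  induction z using MonoidAlgebra.induction_linear with
  | zero => simp
  | add x y hx hy => simp only [map_add, mul_add, hx, hy]
  | single a n =>
    rw [MonoidAlgebra.single_mul_single, one_mul, ls_single, ls_single, map_zsmul]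
    refine congrArg (n • ·) ?_
    change Units.map (PowerSeries.rescale c).toMonoidHom (lineUnit a) = lineUnit (c * a)
    ext1
    ext n
    rw [Units.coe_map]
    simp only [RingHom.toMonoidHom_eq_coe, MonoidHom.coe_coe, val_lineUnit,
      PowerSeries.coeff_rescale, map_add, PowerSeries.coeff_one, PowerSeries.coeff_C_mul, PowerSeries.coeff_X]
    rcases n with _ | _ | n <;> simp

theorem ls_sum_single (b : Multiset A) :
    ls (b.map fun a => MonoidAlgebra.single a (1 : ℤ)).sum =
      Additive.ofMul (b.map lineUnit).prod := by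
  induction b using Multiset.induction with
  | empty => simp
  | cons a b ih =>
    rw [Multiset.map_cons, Multiset.sum_cons, map_add, ih, ls_single, one_zsmul, Multiset.map_cons,
      Multiset.prod_cons, ofMul_mul]

theorem val_prod_lineUnit (b : Multiset A) :
    ((b.map lineUnit).prod : PowerSeries A) = PowerSeries.mk fun k => b.esymm k := by
  induction b using Multiset.induction with
  | empty =>
    ext k
    rcases k with _ | k
    · simp [esymm_zero']
    · simp [esymm_eq_zero (0 : Multiset A) (n := k + 1) (by simp), PowerSeries.coeff_one]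
  | cons a b ih =>
    rw [Multiset.map_cons, Multiset.prod_cons, Units.val_mul, ih, val_lineUnit]
    ext k
    rw [add_mul, one_mul, map_add, mul_assoc, PowerSeries.coeff_C_mul, PowerSeries.coeff_mk,
      PowerSeries.coeff_mk]
    rcases k with _ | k
    · simp [Multiset.esymm]
    · rw [PowerSeries.coeff_succ_X_mul, PowerSeries.coeff_mk, esymm_cons_succ]

theorem constantCoeff_ls (z : MonoidAlgebra ℤ A) :
    PowerSeries.constantCoeff ((Additive.toMul (ls z) : (PowerSeries A)ˣ) : PowerSeries A) = 1 := by
  have key : Units.map (PowerSeries.constantCoeff (R := A)).toMonoidHom (Additive.toMul (ls z)) = 1 := by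
    induction z using MonoidAlgebra.induction_linear with
    | zero => simp
    | add x y hx hy => rw [map_add, toMul_add, map_mul, hx, hy, one_mul]
    | single a n =>
      rw [ls_single, toMul_zsmul, map_zpow, toMul_ofMul,
        show Units.map (PowerSeries.constantCoeff (R := A)).toMonoidHom (lineUnit a) = 1 from
          Units.ext (by simp [val_lineUnit]), one_zpow]
  exact congrArg Units.val key

end Series

section Universal

/-- The universal vanishing. -/
theorem ls_univ_mul_prod {A : Type*} [CommRing A] {m : ℕ} (u : Fin m → A) (c : A)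
    (hc : ∏ k, (c - u k) = 0) (y : MonoidAlgebra ℤ A) :
    ls (y * ∏ k, (MonoidAlgebra.single c (1 : ℤ) - MonoidAlgebra.single (u k) 1)) = 0 := by
  induction y using MonoidAlgebra.induction_linear with
  | zero => simp
  | add x y hx hy => rw [add_mul, map_add, hx, hy, add_zero]
  | single a n =>
    rw [show MonoidAlgebra.single a n = n • MonoidAlgebra.single a (1 : ℤ) by
      simp [MonoidAlgebra.smul_single], smul_mul_assoc, map_zsmul]
    suffices h : ls (MonoidAlgebra.single a (1 : ℤ) *
        ∏ k, (MonoidAlgebra.single c (1 : ℤ) - MonoidAlgebra.single (u k) 1)) = 0 by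
      rw [h, zsmul_zero]
    let Q := MvPolynomial (Option (Fin m)) ℤ
    let uU : Fin m → Polynomial Q := fun k => C (MvPolynomial.X (some k))
    let aU : Polynomial Q := C (MvPolynomial.X none)
    let zU := MonoidAlgebra.single aU (1 : ℤ) *
      ∏ k, (MonoidAlgebra.single (Polynomial.X : Polynomial Q) (1 : ℤ) - MonoidAlgebra.single (uU k) 1)
    let θ : Polynomial Q →+* A := Polynomial.eval₂RingHom
      (MvPolynomial.aeval fun o : Option (Fin m) => o.elim a u).toRingHom c
    have hθC : ∀ o, θ (C (MvPolynomial.X o)) = o.elim a u := fun o =>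
      (eval₂_C _ _).trans (MvPolynomial.aeval_X _ o)
    have hθX : θ Polynomial.X = c := eval₂_X _ _
    have hθ : mapMA θ zU = MonoidAlgebra.single a (1 : ℤ) *
        ∏ k, (MonoidAlgebra.single c (1 : ℤ) - MonoidAlgebra.single (u k) 1) := by
      simp only [zU, aU, uU, map_mul, map_prod, map_sub, mapMA_single, hθX, hθC, Option.elim]
    have hdiv : ∀ n, n ≠ 0 → ∏ k, ((Polynomial.X : Polynomial Q) - uU k) ∣
        PowerSeries.coeff n
          (Units.val (α := PowerSeries (Polynomial Q)) (Additive.toMul (ls zU))) := by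
      intro n hn
      rcases Nat.eq_zero_or_pos m with rfl | hm
      · simp
      set G := PowerSeries.coeff n
        (Units.val (α := PowerSeries (Polynomial Q)) (Additive.toMul (ls zU)))
      have hmon : (∏ k, ((Polynomial.X : Polynomial Q) - uU k)).Monic :=
        monic_prod_of_monic _ _ fun k _ => monic_X_sub_C _
      refine (modByMonic_eq_zero_iff_dvd hmon).mp ?_
      have hroot : ∀ k, G.eval (MvPolynomial.X (some k)) = 0 := by
        intro k
        have h0 : mapMA (evalRingHom (MvPolynomial.X (some k) : Q)) zU = 0 := by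
          simp only [zU, map_mul, map_prod, map_sub, mapMA_single]
          refine mul_eq_zero_of_right _ (Finset.prod_eq_zero (mem_univ k) ?_)
          simp [uU]
        have h1 := ls_map (evalRingHom (MvPolynomial.X (some k) : Q)) zU
        rw [h0, map_zero] at h1
        have h2 := congrArg (fun z : Additive (PowerSeries Q)ˣ =>
          PowerSeries.coeff n ((Additive.toMul z : (PowerSeries Q)ˣ) : PowerSeries Q)) h1
        simpa [mapU, PowerSeries.coeff_one, hn, G] using h2.symm
      refine eq_zero_of_natDegree_lt_card_of_eval_eq_zero _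
        (f := fun k : Fin m => (MvPolynomial.X (some k) : Q))
        (fun a b h => Option.some_inj.mp (MvPolynomial.X_injective h)) (fun k => ?_) ?_
      · rw [modByMonic_eq_sub_mul_div, eval_sub, eval_mul, hroot, eval_prod,
          Finset.prod_eq_zero (mem_univ k) (by simp [uU]), zero_mul, sub_zero]
      · rw [Fintype.card_fin]
        have hdeg : (∏ k, ((Polynomial.X : Polynomial Q) - uU k)).natDegree = m := by
          rw [natDegree_prod_of_monic _ _ fun k _ => monic_X_sub_C _]
          simp [uU]
        exact (natDegree_modByMonic_lt _ hmon fun h => by rw [h, natDegree_one] at hdeg; omega).trans_eq hdeg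
    have hall : Additive.toMul (mapU θ (ls zU)) = 1 := by
      ext n
      rcases Nat.eq_zero_or_pos n with rfl | hn
      · rw [← ls_map]
        simpa using constantCoeff_ls (mapMA θ zU)
      obtain ⟨q, hq⟩ := hdiv n (by omega)
      have hP : θ (∏ k, ((Polynomial.X : Polynomial Q) - uU k)) = 0 := by
        simp only [uU, map_prod, map_sub, hθX, hθC, Option.elim]
        exact hc
      have h0 : ¬ n = 0 := by omega
      simp [mapU, PowerSeries.coeff_one, hq, hP, h0]
    rw [← hθ, ls_map]
    exact Additive.toMul.injective hall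

theorem esymm_eq_of_prod_eq {A : Type*} [CommRing A] {s t : Multiset A} (hcard : s.card = t.card)
    (h : (s.map fun a => X - C a).prod = (t.map fun a => X - C a).prod) (k : ℕ) :
    s.esymm k = t.esymm k := by
  by_cases hk : k ≤ s.card
  · have h1 := Multiset.prod_X_sub_C_coeff s (k := s.card - k) (Nat.sub_le _ _)
    have h2 := Multiset.prod_X_sub_C_coeff t (k := s.card - k) (by omega)
    rw [h, h2, ← hcard, Nat.sub_sub_self hk] at h1
    have := congrArg (fun z => (-1 : A) ^ k * z) h1
    simpa [← mul_assoc, ← pow_add, ← two_mul, pow_mul] using this.symm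
  · rw [esymm_eq_zero _ (by omega), esymm_eq_zero _ (by omega)]

/-- Equal `∏ (X - u)` give the same series. -/
theorem ls_congr_roots {A : Type*} [CommRing A] {s t : Multiset A} (hcard : s.card = t.card)
    (h : (s.map fun a => X - C a).prod = (t.map fun a => X - C a).prod) (y : MonoidAlgebra ℤ A) :
    ls (y * ((s.map fun a => MonoidAlgebra.single a (1 : ℤ)).sum -
      (t.map fun a => MonoidAlgebra.single a (1 : ℤ)).sum)) = 0 := by
  induction y using MonoidAlgebra.induction_linear with
  | zero => simp
  | add x y hx hy => rw [add_mul, map_add, hx, hy, add_zero]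
  | single a n =>
    rw [show MonoidAlgebra.single a n = n • MonoidAlgebra.single a (1 : ℤ) by
      simp [MonoidAlgebra.smul_single], smul_mul_assoc, map_zsmul, mul_sub, map_sub, ← rescU_ls,
      ← rescU_ls, ls_sum_single, ls_sum_single]
    have he := esymm_eq_of_prod_eq hcard h
    have : (s.map lineUnit).prod = (t.map lineUnit).prod := by
      ext1
      rw [val_prod_lineUnit, val_prod_lineUnit]
      simp only [he]
    rw [this, sub_self, zsmul_zero]

end Universal

section Roots

theorem adjoinRoot_of_injective {R : Type*} [CommRing R] {q : R[X]} (hq : q.Monic) (hd : 0 < q.natDegree) :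
    Function.Injective (AdjoinRoot.of q) := by
  rw [injective_iff_map_eq_zero]
  intro a ha
  by_contra h
  rw [← AdjoinRoot.mk_C, AdjoinRoot.mk_eq_zero] at ha
  exact hq.not_dvd_of_natDegree_lt (C_ne_zero.mpr h) (by rwa [natDegree_C]) ha

/-- A monic polynomial splits in some ring extension. -/
theorem exists_roots {R : Type u} [CommRing R] [Nontrivial R] (q : R[X]) (hq : q.Monic) :
    ∃ (A : Type u) (_ : CommRing A) (g : R →+* A), Function.Injective g ∧
      ∃ w : Multiset A, w.card = q.natDegree ∧ q.map g = (w.map fun a => X - C a).prod := by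
  obtain ⟨n, hn⟩ : ∃ n, q.natDegree = n := ⟨_, rfl⟩
  induction n generalizing R with
  | zero =>
    refine ⟨R, inferInstance, RingHom.id R, Function.injective_id, 0, by simp [hn], ?_⟩
    simp [hq.natDegree_eq_zero.mp hn]
  | succ n ih =>
    have hinj := adjoinRoot_of_injective hq (by omega)
    haveI : Nontrivial (AdjoinRoot q) := hinj.nontrivial
    have hroot : (q.map (AdjoinRoot.of q)).IsRoot (AdjoinRoot.root q) := AdjoinRoot.isRoot_root q
    have hfac := mul_divByMonic_eq_iff_isRoot.mpr hroot
    set q' := q.map (AdjoinRoot.of q) /ₘ (X - C (AdjoinRoot.root q))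
    have hm : q'.Monic := Monic.of_mul_monic_left (monic_X_sub_C _) (hfac ▸ hq.map _)
    have hd : q'.natDegree = n := by
      have := congrArg natDegree hfac
      rw [(monic_X_sub_C _).natDegree_mul hm, natDegree_X_sub_C, hq.natDegree_map, hn] at this
      omega
    obtain ⟨A, hA, g, hg, w, hw, hprod⟩ := ih q' hm hd
    refine ⟨A, hA, g.comp (AdjoinRoot.of q), hg.comp hinj, g (AdjoinRoot.root q) ::ₘ w, by simp [hw, hd, hn], ?_⟩
    rw [← Polynomial.map_map, ← hfac, Polynomial.map_mul, hprod]
    simp

theorem ls_mul_prod_multiset {A : Type*} [CommRing A] (b : Multiset A) (c : A)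
    (hc : (b.map fun a => c - a).prod = 0) (y : MonoidAlgebra ℤ A) :
    ls (y * (b.map fun a => MonoidAlgebra.single c (1 : ℤ) - MonoidAlgebra.single a 1).prod) = 0 := by
  obtain ⟨l, rfl⟩ := Quotient.exists_rep b
  have h : ∀ {β : Type _} [CommMonoid β] (F : A → β), (Multiset.map F (↑l : Multiset A)).prod = ∏ k, F (l.get k) := by
    intro β _ F
    rw [Multiset.map_coe, Multiset.prod_coe, ← List.prod_ofFn]
    congr 1
    rw [← Function.comp_def F, ← List.map_ofFn, List.ofFn_get]
  change (Multiset.map _ (↑l : Multiset A)).prod = 0 at hc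
  rw [h] at hc
  change ls (y * (Multiset.map _ (↑l : Multiset A)).prod) = 0
  rw [h]
  exact ls_univ_mul_prod _ c hc y

end Roots

section LamU

variable {K B B' : Type u} [CommRing K] [LambdaOps K] [CommRing B] [CommRing B']

/-- `λ_t` with values in units. -/
noncomputable def lamU : K →+ Additive (PowerSeries K)ˣ :=
  AddMonoidHom.mk' (fun x => Additive.ofMul (IsUnit.unit (a := lamSeries x)
    (PowerSeries.isUnit_iff_constantCoeff.mpr (by rw [constantCoeff_lamSeries]; exact isUnit_one))))
    fun x y => Additive.toMul.injective (Units.ext (lamSeries_add x y))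

theorem val_lamU (x : K) :
    Units.val (α := PowerSeries K) (Additive.toMul (lamU x)) = lamSeries x := rfl

theorem lamU_line {P : PosStructure K} {x : K} (hx : P.IsLine x) :
    lamU x = Additive.ofMul (lineUnit x) := by
  refine Additive.toMul.injective (Units.ext ?_)
  rw [val_lamU, toMul_ofMul, val_lineUnit]
  ext n
  rcases n with _ | _ | n
  · simp [lamSeries, LambdaOps.lam_zero]
  · simp [lamSeries, LambdaOps.lam_one, PowerSeries.coeff_one]
  · simp [lamSeries, PowerSeries.coeff_one, PowerSeries.coeff_X, line_lam hx]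

theorem mapU_rescU (g : B →+* B') (c : B) (x : Additive (PowerSeries B)ˣ) :
    mapU g (rescU c x) = rescU (g c) (mapU g x) := by
  refine Additive.toMul.injective (Units.ext ?_)
  ext n
  simp [mapU, rescU, PowerSeries.coeff_rescale]

theorem mapU_mapU (g : B →+* B') (h : K →+* B) (x : Additive (PowerSeries K)ˣ) :
    mapU g (mapU h x) = mapU (g.comp h) x := by
  refine Additive.toMul.injective (Units.ext ?_)
  ext n
  simp [mapU]

theorem mapU_injective {g : B →+* B'} (hg : Function.Injective g) :
    Function.Injective (mapU g) := fun x y h => by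
  refine Additive.toMul.injective (Units.ext ?_)
  ext n
  apply hg
  have := congrArg (fun z : Additive (PowerSeries B')ˣ =>
    PowerSeries.coeff n (Units.val (α := PowerSeries B') (Additive.toMul z))) h
  simpa [mapU] using this

theorem mapU_lamU {L : Type u} [CommRing L] [LambdaOps L] {φ : K →+* L} (hφ : IsLambdaHom φ) (x : K) :
    mapU φ (lamU x) = lamU (φ x) := by
  refine Additive.toMul.injective (Units.ext ?_)
  ext n
  simp [mapU, val_lamU, lamSeries, hφ n x]

/-- `Σ a_i T^i ↦ ∏ λ_{c^i t}(h a_i)`. -/
noncomputable def Lam (h : K →+* B) (c : B) : K[X] →+ Additive (PowerSeries B)ˣ :=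
  AddMonoidHom.mk' (fun q => q.sum fun i a => rescU (c ^ i) (mapU h (lamU a)))
    fun p q => Polynomial.sum_add_index p q _ (fun i => by simp) fun i a b => by simp

theorem Lam_monomial (h : K →+* B) (c : B) (i : ℕ) (a : K) :
    Lam h c (monomial i a) = rescU (c ^ i) (mapU h (lamU a)) := by
  change (monomial i a).sum (fun i a => rescU (c ^ i) (mapU h (lamU a))) = _
  exact Polynomial.sum_monomial_index _ _ (by simp)

theorem mapU_Lam (g : B →+* B') (h : K →+* B) (c : B) (q : K[X]) :
    mapU g (Lam h c q) = Lam (g.comp h) (g c) q := by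
  induction q using Polynomial.induction_on' with
  | add p q hp hq => simp only [map_add, hp, hq]
  | monomial i a => rw [Lam_monomial, Lam_monomial, mapU_rescU, mapU_mapU, map_pow]

theorem Lam_map {L : Type u} [CommRing L] [LambdaOps L] {φ : K →+* L} (hφ : IsLambdaHom φ)
    (h : L →+* B) (c : B) (q : K[X]) : Lam (h.comp φ) c q = Lam h c (q.map φ) := by
  induction q using Polynomial.induction_on' with
  | add p q hp hq => simp only [map_add, Polynomial.map_add, hp, hq]
  | monomial i a => rw [map_monomial, Lam_monomial, Lam_monomial, ← mapU_mapU, mapU_lamU hφ]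

theorem Lam_coeff (h : K →+* B) (c : B) (q : K[X]) :
    PowerSeries.constantCoeff (Units.val (α := PowerSeries B) (Additive.toMul (Lam h c q))) = 1 ∧
    PowerSeries.coeff 1 (Units.val (α := PowerSeries B) (Additive.toMul (Lam h c q))) =
      q.eval₂ h c := by
  induction q using Polynomial.induction_on' with
  | add p q hp hq =>
    rw [map_add, toMul_add, Units.val_mul]
    refine ⟨by rw [map_mul, hp.1, hq.1, one_mul], ?_⟩
    rw [PowerSeries.coeff_one_mul, hp.1, hq.1, hp.2, hq.2, eval₂_add]
    simp
  | monomial i a =>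
    rw [Lam_monomial, eval₂_monomial]
    constructor
    · rw [← PowerSeries.coeff_zero_eq_constantCoeff_apply]
      simp [rescU, mapU, val_lamU, constantCoeff_lamSeries]
    · simp [rescU, mapU, val_lamU, lamSeries, LambdaOps.lam_one, PowerSeries.coeff_rescale, mul_comm]

end LamU

section Lines

variable {L : Type u} [CommRing L] [LambdaOps L] (P : PosStructure L)

/-- The monoid of line elements. -/
def lines : Submonoid L where
  carrier := {x | P.IsLine x}
  mul_mem' := line_mul
  one_mem' := isLine_one (P := P)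

/-- The sum of a formal combination of lines. -/
noncomputable def sig : MonoidAlgebra ℤ (lines P) →+* L :=
  (MonoidAlgebra.lift ℤ L (lines P) (lines P).subtype).toRingHom

theorem sig_single (x : lines P) (n : ℤ) : sig P (MonoidAlgebra.single x n) = n • (x : L) := by
  simp [sig, MonoidAlgebra.lift_single]

/-- Lines into `A`. -/
noncomputable def linesMap {A : Type u} [CommRing A] (g : L →+* A) :
    MonoidAlgebra ℤ (lines P) →+* MonoidAlgebra ℤ A :=
  MonoidAlgebra.mapDomainRingHom ℤ (g.toMonoidHom.comp (lines P).subtype)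

theorem linesMap_single {A : Type u} [CommRing A] (g : L →+* A) (x : lines P) (n : ℤ) :
    linesMap P g (MonoidAlgebra.single x n) = MonoidAlgebra.single (g x) n :=
  MonoidAlgebra.mapDomain_single

theorem mapU_lamU_sig {A : Type u} [CommRing A] (g : L →+* A) (z : MonoidAlgebra ℤ (lines P)) :
    mapU g (lamU (sig P z)) = ls (linesMap P g z) := by
  induction z using MonoidAlgebra.induction_linear with
  | zero => simp
  | add x y hx hy => simp only [map_add, hx, hy]
  | single x n =>
    rw [sig_single, linesMap_single, ls_single, map_zsmul, map_zsmul, lamU_line x.2]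
    refine congrArg (n • ·) ?_
    exact congrArg Additive.ofMul (map_lineUnit g (x : L))

theorem Lam_map_sig {A : Type u} [CommRing A] (g : L →+* A) (c : A)
    (Q : (MonoidAlgebra ℤ (lines P))[X]) :
    Lam g c (Q.map (sig P)) = ls (Q.eval₂ (linesMap P g) (MonoidAlgebra.single c 1)) := by
  induction Q using Polynomial.induction_on' with
  | add p q hp hq => simp only [Polynomial.map_add, map_add, eval₂_add, hp, hq]
  | monomial i z =>
    rw [map_monomial, Lam_monomial, eval₂_monomial, mapU_lamU_sig, rescU_ls,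
      MonoidAlgebra.single_pow, one_pow, mul_comm]

/-- The formal combination of a multiset of lines. -/
noncomputable def formal (s : Multiset L) (hs : ∀ x ∈ s, P.IsLine x) : MonoidAlgebra ℤ (lines P) :=
  (s.attach.map fun x => MonoidAlgebra.single (⟨x.1, hs x.1 x.2⟩ : lines P) (1 : ℤ)).sum

theorem sig_formal (s : Multiset L) (hs : ∀ x ∈ s, P.IsLine x) :
    sig P (formal P s hs) = s.sum := by
  rw [formal, map_multiset_sum, Multiset.map_map]
  simp [Function.comp_def, sig_single]

theorem linesMap_formal {A : Type u} [CommRing A] (g : L →+* A) (s : Multiset L)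
    (hs : ∀ x ∈ s, P.IsLine x) :
    linesMap P g (formal P s hs) = ((s.map g).map fun a => MonoidAlgebra.single a (1 : ℤ)).sum := by
  rw [formal, map_multiset_sum, Multiset.map_map, Multiset.map_map]
  conv_rhs => rw [← s.attach_map_val, Multiset.map_map]
  simp [Function.comp_def, linesMap_single]

end Lines

section Eff

variable {R A : Type u} [CommRing R] [CommRing A] (g : R →+* A)

/-- An effective combination whose product comes from a unit of `R`. -/
def Eff (z : MonoidAlgebra ℤ A) (n : ℕ) : Prop :=
  ∃ b : Multiset A, b.card = n ∧ (∃ q : R, IsUnit q ∧ g q = b.prod) ∧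
    z = (b.map fun a => MonoidAlgebra.single a (1 : ℤ)).sum

variable {g}

theorem Eff.one : Eff g 1 1 :=
  ⟨{1}, rfl, ⟨1, isUnit_one, by simp⟩, by simp [MonoidAlgebra.one_def]⟩

theorem Eff.mul {z z' : MonoidAlgebra ℤ A} {n n' : ℕ} (h : Eff g z n) (h' : Eff g z' n') :
    Eff g (z * z') (n * n') := by
  obtain ⟨b, hb, ⟨q, hq, hgq⟩, rfl⟩ := h
  obtain ⟨b', hb', ⟨q', hq', hgq'⟩, rfl⟩ := h'
  refine ⟨b.bind fun a => b'.map fun a' => a * a', ?_, ⟨q ^ n' * q' ^ n, ?_, ?_⟩, ?_⟩
  · simp [hb, hb']
  · exact (hq.pow _).mul (hq'.pow _)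
  · rw [map_mul, map_pow, map_pow, hgq, hgq', Multiset.prod_bind]
    rw [show (b.map fun a => (b'.map fun a' => a * a').prod) = b.map fun a => a ^ n' * b'.prod from
      Multiset.map_congr rfl fun a _ => by rw [Multiset.prod_map_mul]; simp [hb'],
      Multiset.prod_map_mul, Multiset.prod_map_pow]
    simp [hb]
  · rw [Multiset.map_bind, Multiset.sum_bind]
    simp only [Multiset.map_map, Function.comp_def]
    rw [← Multiset.sum_map_mul_right]
    refine congrArg _ (Multiset.map_congr rfl fun a _ => ?_)
    rw [← Multiset.sum_map_mul_left]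
    simp [MonoidAlgebra.single_mul_single]

theorem Eff.pow {z : MonoidAlgebra ℤ A} {n : ℕ} (h : Eff g z n) :
    ∀ k : ℕ, Eff g (z ^ k) (n ^ k)
  | 0 => by simpa using Eff.one
  | k + 1 => by simpa [pow_succ] using (Eff.pow h k).mul h

end Eff

section Main

variable {K : Type u} [CommRing K] [LambdaOps K] {P : PosStructure K} {e : K}

theorem extPoly_map {L : Type u} [CommRing L] [LambdaOps L] {Q : PosStructure L} {φ : K →+* L}
    (hφ : IsExtension P Q φ) {s : Multiset L} (hs1 : ∀ x ∈ s, Q.IsLine x) (hs2 : s.sum = φ e) :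
    (KRR.extPoly P e).map φ = (s.map fun a => X - C a).prod := by
  have hcard : (P.aug e).toNat = s.card := by
    rw [← hφ.aug_comp, ← hs2, aug_sum_lines hs1, Int.toNat_natCast]
  rw [KRR.extPoly, Polynomial.map_sum, Multiset.prod_X_sub_X_eq_sum_esymm, hcard]
  refine Finset.sum_congr rfl fun i _ => ?_
  rw [Polynomial.map_mul, Polynomial.map_pow, map_X, map_C, map_mul, hφ.isLambdaHom, ← hs2,
    lam_sum_lines hs1, map_pow, map_neg, map_one, map_mul, map_pow, map_neg, map_one, mul_assoc]

variable (hK : HasSplitting K P) (he : e ∈ P.pos)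
include hK he

theorem extPoly_monic : (KRR.extPoly P e).Monic := by
  obtain ⟨L, φ, hφ, -, s, hs1, hs2, -⟩ := exists_split hK he
  refine monic_of_injective hφ.injective ?_
  rw [extPoly_map hφ hs1 hs2]
  exact monic_multiset_prod_of_monic _ _ fun a _ => monic_X_sub_C a

theorem extPoly_natDegree : ((KRR.extPoly P e).natDegree : ℤ) = P.aug e := by
  obtain ⟨L, φ, hφ, -, s, hs1, hs2, hcard⟩ := exists_split hK he
  haveI : Nontrivial L.carrier := L.posStr.aug.domain_nontrivial
  rw [← natDegree_map_eq_of_injective hφ.injective, extPoly_map hφ hs1 hs2,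
    natDegree_multiset_prod_X_sub_C_eq_card, hcard]

theorem of_injective : Function.Injective (AdjoinRoot.of (KRR.extPoly P e)) := by
  refine adjoinRoot_of_injective (extPoly_monic hK he) ?_
  have h1 := extPoly_natDegree hK he
  have h2 := P.aug_pos e he
  omega

theorem isUnit_root : IsUnit (AdjoinRoot.root (KRR.extPoly P e)) := by
  have hpos := P.aug_pos e he
  have h0 : IsUnit ((KRR.extPoly P e).coeff 0) := by
    rw [KRR.extPoly, finsetSum_coeff, Finset.sum_eq_single (P.aug e).toNat
      (fun i hi hne => by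
        simp only [Finset.mem_range] at hi
        rw [coeff_C_mul_X_pow, if_neg (by omega)])
      (fun h => absurd (Finset.self_mem_range_succ _) h)]
    rw [coeff_C_mul_X_pow, if_pos (by omega)]
    exact (IsUnit.pow _ (IsUnit.neg isUnit_one)).mul (P.isUnit_lam e he)
  have h1 := congrArg (AdjoinRoot.mk (KRR.extPoly P e)) (X_mul_divX_add (KRR.extPoly P e))
  rw [map_add, map_mul, AdjoinRoot.mk_self, AdjoinRoot.mk_X, AdjoinRoot.mk_C,
    add_eq_zero_iff_eq_neg] at h1
  exact isUnit_of_mul_isUnit_left (h1 ▸ (h0.map (AdjoinRoot.of _)).neg)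

/-- The map of `K_e` into a split model. -/
theorem exists_model {L : PosLambdaRing.{u}} {φ : K →+* L.carrier} (hφ : IsExtension P L.posStr φ)
    {s : Multiset L.carrier} (hs1 : ∀ x ∈ s, L.posStr.IsLine x) (hs2 : s.sum = φ e) :
    ∃ (A : Type u) (_ : CommRing A) (gL : L.carrier →+* A)
      (g : AdjoinRoot (KRR.extPoly P e) →+* A) (w : Multiset A),
      Function.Injective g ∧ g.comp (AdjoinRoot.of _) = gL.comp φ ∧ w.card + 1 = s.card ∧
      ((s.map gL).map fun a => X - C a).prod =
        ((g (AdjoinRoot.root (KRR.extPoly P e)) ::ₘ w).map fun a => X - C a).prod := by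
  haveI : Nontrivial L.carrier := L.posStr.aug.domain_nontrivial
  have hcard : (s.card : ℤ) = P.aug e := by rw [← aug_sum_lines hs1, hs2, hφ.aug_comp]
  set q := (KRR.extPoly P e).map φ with hq
  have hqm : q.Monic := (extPoly_monic hK he).map φ
  have hqd : q.natDegree = s.card := by
    rw [hq, extPoly_map hφ hs1 hs2, natDegree_multiset_prod_X_sub_C_eq_card]
  have hinj := adjoinRoot_of_injective hqm (by have := P.aug_pos e he; omega)
  haveI : Nontrivial (AdjoinRoot q) := hinj.nontrivial
  let g₀ : AdjoinRoot (KRR.extPoly P e) →+* AdjoinRoot q :=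
    AdjoinRoot.lift ((AdjoinRoot.of q).comp φ) (AdjoinRoot.root q) (by
      rw [← eval₂_map]
      exact AdjoinRoot.eval₂_root q)
  have hg₀mk : ∀ r : K[X], g₀ (AdjoinRoot.mk _ r) = AdjoinRoot.mk q (r.map φ) := fun r => by
    rw [AdjoinRoot.lift_mk, ← eval₂_map, ← AdjoinRoot.aeval_eq, aeval_def, AdjoinRoot.algebraMap_eq]
  have hg₀ : Function.Injective g₀ := by
    rw [injective_iff_map_eq_zero]
    intro x hx
    obtain ⟨r, rfl⟩ := AdjoinRoot.mk_surjective x
    rw [hg₀mk, AdjoinRoot.mk_eq_zero, ← modByMonic_eq_zero_iff_dvd hqm, hq,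
      ← map_modByMonic φ (extPoly_monic hK he), Polynomial.map_eq_zero_iff hφ.injective] at hx
    rw [AdjoinRoot.mk_eq_zero, ← modByMonic_eq_zero_iff_dvd (extPoly_monic hK he)]
    exact hx
  have hfac := mul_divByMonic_eq_iff_isRoot.mpr (AdjoinRoot.isRoot_root q)
  set q' := q.map (AdjoinRoot.of q) /ₘ (X - C (AdjoinRoot.root q))
  have hm : q'.Monic := Monic.of_mul_monic_left (monic_X_sub_C _) (hfac ▸ hqm.map _)
  have hd : q'.natDegree + 1 = s.card := by
    have := congrArg natDegree hfac
    rw [(monic_X_sub_C _).natDegree_mul hm, natDegree_X_sub_C, hqm.natDegree_map, hqd] at this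
    omega
  obtain ⟨A, hA, h, hh, w, hw, hprod⟩ := exists_roots q' hm
  refine ⟨A, hA, h.comp (AdjoinRoot.of q), h.comp g₀, w, hh.comp hg₀, ?_, by omega, ?_⟩
  · ext a
    simp [g₀]
  · have h2 := congrArg (Polynomial.map h) hfac
    have h3 : q.map (h.comp (AdjoinRoot.of q)) =
        (s.map fun a => X - C a).prod.map (h.comp (AdjoinRoot.of q)) :=
      congrArg (Polynomial.map (h.comp (AdjoinRoot.of q))) (hq.trans (extPoly_map hφ hs1 hs2))
    rw [Polynomial.map_mul, hprod, Polynomial.map_map, h3] at h2
    simpa [Polynomial.map_multiset_prod, Multiset.map_map, g₀] using h2.symm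

theorem Lam_mul_extPoly (r : K[X]) :
    Lam (AdjoinRoot.of (KRR.extPoly P e)) (AdjoinRoot.root _) (KRR.extPoly P e * r) = 0 := by
  induction r using Polynomial.induction_on' with
  | add p q hp hq => rw [mul_add, map_add, hp, hq, add_zero]
  | monomial i a =>
    obtain ⟨a₁, a₂, h₁, h₂, rfl⟩ := P.exists_sub a
    suffices hpos : ∀ a ∈ P.pos, Lam (AdjoinRoot.of (KRR.extPoly P e)) (AdjoinRoot.root _)
        (KRR.extPoly P e * monomial i a) = 0 by
      rw [map_sub, mul_sub, map_sub, hpos _ h₁, hpos _ h₂, sub_zero]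
    intro a ha
    obtain ⟨L, φ, hφ, -, hs⟩ := exists_split_list hK [e, a] (by simp [he, ha])
    obtain ⟨s, hs1, hs2⟩ := hs e (by simp)
    obtain ⟨t, ht1, ht2⟩ := hs a (by simp)
    obtain ⟨A, _, gL, g, w, hg, hcomp, -, hprod⟩ := exists_model hK he hφ hs1 hs2
    set c := g (AdjoinRoot.root (KRR.extPoly P e))
    apply mapU_injective hg
    rw [map_zero, mapU_Lam, hcomp, Lam_map hφ.isLambdaHom]
    set Q : (MonoidAlgebra ℤ (lines L.posStr))[X] := monomial i (formal L.posStr t ht1) *
      (s.attach.map fun x => X - C (MonoidAlgebra.single (⟨x.1, hs1 x.1 x.2⟩ : lines L.posStr) (1 : ℤ))).prod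
      with hQ
    have h1 : Q.map (sig L.posStr) = (KRR.extPoly P e * monomial i a).map φ := by
      rw [hQ, Polynomial.map_mul, Polynomial.map_mul, extPoly_map hφ hs1 hs2, map_monomial,
        map_monomial, sig_formal, ht2, mul_comm, Polynomial.map_multiset_prod, Multiset.map_map]
      congr 2
      conv_rhs => rw [← s.attach_map_val, Multiset.map_map]
      simp [Function.comp_def, sig_single]
    rw [← h1, Lam_map_sig, hQ, eval₂_mul, eval₂_monomial]
    have h2 : eval₂ (linesMap L.posStr gL) (MonoidAlgebra.single c 1)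
        (s.attach.map fun x => X - C (MonoidAlgebra.single (⟨x.1, hs1 x.1 x.2⟩ : lines L.posStr) (1 : ℤ))).prod =
        ((s.map gL).map fun a => MonoidAlgebra.single c (1 : ℤ) - MonoidAlgebra.single a 1).prod := by
      rw [← coe_eval₂RingHom, map_multiset_prod, Multiset.map_map, Multiset.map_map]
      conv_rhs => rw [← s.attach_map_val, Multiset.map_map]
      simp [Function.comp_def, linesMap_single]
    rw [h2]
    refine ls_mul_prod_multiset _ c ?_ _
    have h3 := congrArg (eval c) hprod
    rw [Multiset.map_cons, Multiset.prod_cons, eval_mul, eval_sub, eval_X, eval_C, sub_self,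
      zero_mul, eval_multiset_prod, Multiset.map_map] at h3
    simpa [Function.comp_def] using h3

/-- `λ_t` on `K_e`. -/
noncomputable def lamBar : AdjoinRoot (KRR.extPoly P e) →+
    Additive (PowerSeries (AdjoinRoot (KRR.extPoly P e)))ˣ :=
  (Lam (AdjoinRoot.of _) (AdjoinRoot.root _)).comp
    (AdjoinRoot.modByMonicHom (extPoly_monic hK he)).toAddMonoidHom

theorem lamBar_mk (q : K[X]) :
    lamBar hK he (AdjoinRoot.mk _ q) = Lam (AdjoinRoot.of _) (AdjoinRoot.root _) q := by
  conv_rhs => rw [← modByMonic_add_div q (KRR.extPoly P e), map_add, Lam_mul_extPoly hK he, add_zero]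
  simp [lamBar, AdjoinRoot.modByMonicHom_mk]

/-- The λ-structure on `K_e`. -/
@[reducible] noncomputable def lambdaOps : LambdaOps (AdjoinRoot (KRR.extPoly P e)) where
  lam n x := PowerSeries.coeff n (Units.val (α := PowerSeries (AdjoinRoot (KRR.extPoly P e)))
    (Additive.toMul (lamBar hK he x)))
  lam_zero x := by
    obtain ⟨q, rfl⟩ := AdjoinRoot.mk_surjective x
    rw [lamBar_mk, PowerSeries.coeff_zero_eq_constantCoeff_apply]
    exact (Lam_coeff _ _ q).1
  lam_one x := by
    obtain ⟨q, rfl⟩ := AdjoinRoot.mk_surjective x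
    rw [lamBar_mk, (Lam_coeff _ _ q).2, ← AdjoinRoot.aeval_eq, aeval_def, AdjoinRoot.algebraMap_eq]
  lam_add k x y := by
    rw [map_add, toMul_add, Units.val_mul, PowerSeries.coeff_mul,
      Finset.Nat.sum_antidiagonal_eq_sum_range_succ_mk]

/-- The augmentation of `K_e`. -/
noncomputable def augExt : AdjoinRoot (KRR.extPoly P e) →+* ℤ :=
  AdjoinRoot.lift P.aug 1 (by
    obtain ⟨L, φ, hφ, -, s, hs1, hs2, hcard⟩ := exists_split hK he
    have h : L.posStr.aug.comp φ = P.aug := RingHom.ext hφ.aug_comp
    rw [← h, ← eval₂_map, extPoly_map hφ hs1 hs2, ← coe_eval₂RingHom, map_multiset_prod,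
      Multiset.map_map, Multiset.prod_eq_zero_iff]
    have := P.aug_pos e he
    obtain ⟨x, hx⟩ := Multiset.card_pos_iff_exists_mem.mp (by omega : 0 < s.card)
    exact Multiset.mem_map.mpr ⟨x, hx, by simp [(hs1 x hx).2]⟩)

/-- The positive generators. -/
def posGen (P : PosStructure K) (e : K) : Set (AdjoinRoot (KRR.extPoly P e)) :=
  {x | ∃ f ∈ P.pos, ∃ k j : ℕ, (j = 0 ∨ 2 ≤ P.aug e) ∧ x = AdjoinRoot.of _ f * AdjoinRoot.root _ ^ k *
    (AdjoinRoot.of _ e - AdjoinRoot.root _) ^ j}

/-- Effective of some positive rank. -/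
def Good (x : AdjoinRoot (KRR.extPoly P e)) : Prop :=
  ∃ n : ℕ, 0 < n ∧ augExt hK he x = n ∧ (∀ i, n < i → (lambdaOps hK he).lam i x = 0) ∧
    IsUnit ((lambdaOps hK he).lam n x)

set_option maxHeartbeats 1000000 in
theorem good_of_mem {x : AdjoinRoot (KRR.extPoly P e)} (hx : x ∈ posGen P e) : Good hK he x := by
  obtain ⟨f, hf, k, j, hj, rfl⟩ := hx
  obtain ⟨L, φ, hφ, -, hs⟩ := exists_split_list hK [e, f] (by simp [he, hf])
  obtain ⟨s, hs1, hs2⟩ := hs e (by simp)
  obtain ⟨t, ht1, ht2⟩ := hs f (by simp)
  have hcard : (s.card : ℤ) = P.aug e := by rw [← aug_sum_lines hs1, hs2, hφ.aug_comp]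
  have htcard : (t.card : ℤ) = P.aug f := by rw [← aug_sum_lines ht1, ht2, hφ.aug_comp]
  obtain ⟨A, _, gL, g, w, hg, hcomp, hw, hprod⟩ := exists_model hK he hφ hs1 hs2
  set c := g (AdjoinRoot.root (KRR.extPoly P e)) with hc
  obtain ⟨linv, hlinv⟩ := (isUnit_root hK he).exists_left_inv
  have hgof : ∀ a, g (AdjoinRoot.of _ a) = gL (φ a) := fun a => RingHom.congr_fun hcomp a
  have hprodu : gL (φ (LambdaOps.lam (P.aug e).toNat e)) = c * w.prod := by
    rw [hφ.isLambdaHom, ← hs2, lam_sum_lines hs1, show (P.aug e).toNat = s.card by omega, esymm_card,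
      map_multiset_prod]
    rw [← esymm_card, esymm_eq_of_prod_eq (by simp [hw]) hprod, Multiset.card_map,
      show s.card = (c ::ₘ w).card by simp [hw], esymm_card, Multiset.prod_cons]
  have hgl : g linv * c = 1 := by rw [hc, ← map_mul, hlinv, map_one]
  have hF : Eff g (linesMap L.posStr gL (formal L.posStr t ht1)) t.card :=
    ⟨t.map gL, Multiset.card_map _ _, ⟨AdjoinRoot.of _ (LambdaOps.lam t.card f),
      (by simpa [← htcard] using (P.isUnit_lam f hf).map (AdjoinRoot.of (KRR.extPoly P e))),
      by rw [hgof, hφ.isLambdaHom, ← ht2, lam_sum_lines ht1, esymm_card, map_multiset_prod]⟩,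
      linesMap_formal _ _ _ _⟩
  have hC : Eff g (MonoidAlgebra.single c (1 : ℤ)) 1 :=
    ⟨{c}, rfl, ⟨_, isUnit_root hK he, by simp [hc]⟩, by simp⟩
  have hW : Eff g (w.map fun a => MonoidAlgebra.single a (1 : ℤ)).sum w.card :=
    ⟨w, rfl, ⟨AdjoinRoot.of _ (LambdaOps.lam (P.aug e).toNat e) * linv,
      ((P.isUnit_lam e he).map _).mul (IsUnit.of_mul_eq_one _ hlinv),
      by rw [map_mul, hgof, hprodu, mul_comm, ← mul_assoc, hgl, one_mul]⟩, rfl⟩
  obtain ⟨b, hb, ⟨q, hq, hgq⟩, hzb⟩ := (hF.mul (hC.pow k)).mul (hW.pow j)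
  rw [one_pow, mul_one] at hb
  set W := (w.map fun a => MonoidAlgebra.single a (1 : ℤ)).sum with hWdef
  set Q : (MonoidAlgebra ℤ (lines L.posStr))[X] :=
    C (formal L.posStr t ht1) * X ^ k * (C (formal L.posStr s hs1) - X) ^ j with hQ
  set x₀ : K[X] := C f * X ^ k * (C e - X) ^ j with hx₀
  have hx : AdjoinRoot.mk (KRR.extPoly P e) x₀ = AdjoinRoot.of _ f * AdjoinRoot.root _ ^ k *
      (AdjoinRoot.of _ e - AdjoinRoot.root _) ^ j := by
    simp only [hx₀, map_mul, map_pow, map_sub, AdjoinRoot.mk_C, AdjoinRoot.mk_X]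
  have h1 : Q.map (sig L.posStr) = x₀.map φ := by
    simp only [hQ, hx₀, Polynomial.map_mul, Polynomial.map_pow, Polynomial.map_sub, map_C, map_X,
      sig_formal, hs2, ht2]
  have key : mapU g (lamBar hK he (AdjoinRoot.mk _ x₀)) =
      Additive.ofMul (b.map lineUnit).prod := by
    rw [lamBar_mk, mapU_Lam, hcomp, Lam_map hφ.isLambdaHom, ← h1, Lam_map_sig, ← ls_sum_single,
      ← hzb, hQ, eval₂_mul, eval₂_mul, eval₂_pow, eval₂_pow, eval₂_sub, eval₂_C, eval₂_C, eval₂_X]
    rw [← sub_eq_zero, ← map_sub, ← mul_sub]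
    obtain ⟨d, hd⟩ := sub_dvd_pow_sub_pow
      (linesMap L.posStr gL (formal L.posStr s hs1) - MonoidAlgebra.single c 1) W j
    rw [hd, ← hc, ← mul_assoc, mul_right_comm, linesMap_formal L.posStr gL s hs1, sub_sub, hWdef,
      ← Multiset.sum_cons, ← Multiset.map_cons (fun a => MonoidAlgebra.single a (1 : ℤ))]
    exact ls_congr_roots (by simp [hw]) hprod _
  have hlam : ∀ i, g ((lambdaOps hK he).lam i (AdjoinRoot.mk _ x₀)) = b.esymm i := fun i => by
    have h := congrArg (fun z : Additive (PowerSeries A)ˣ =>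
      PowerSeries.coeff i (Units.val (α := PowerSeries A) (Additive.toMul z))) key
    change g (PowerSeries.coeff i _) = _; simpa [mapU, val_prod_lineUnit] using h
  rw [← hx]
  refine ⟨b.card, ?_, ?_, fun i hi => ?_, ?_⟩
  · rw [hb]
    have := P.aug_pos f hf
    refine Nat.mul_pos (by omega) (Nat.pos_of_ne_zero fun h => ?_)
    obtain ⟨h0, h0'⟩ := pow_eq_zero_iff'.mp h
    rcases hj with hj | hj <;> omega
  · rw [hx]
    simp only [map_mul, map_pow, map_sub, augExt, AdjoinRoot.lift_of, AdjoinRoot.lift_root, hb,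
      one_pow, mul_one, ← htcard, ← hcard, ← hw]
    push_cast
    ring
  · exact hg (by rw [hlam, map_zero, esymm_eq_zero _ hi])
  · rwa [show (lambdaOps hK he).lam b.card (AdjoinRoot.mk _ x₀) = q from
      hg (by rw [hlam, esymm_card, hgq])]

theorem good_add {x y : AdjoinRoot (KRR.extPoly P e)} (hx : Good hK he x) (hy : Good hK he y) :
    Good hK he (x + y) := by
  obtain ⟨n, hn, ha, h0, h1⟩ := hx
  obtain ⟨n', hn', ha', h0', h1'⟩ := hy
  refine ⟨n + n', by omega, by rw [map_add, ha, ha']; push_cast; ring, fun i hi => ?_, ?_⟩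
  · rw [(lambdaOps hK he).lam_add]
    refine Finset.sum_eq_zero fun a _ => ?_
    rcases lt_or_ge n a with h | h
    · rw [h0 a h, zero_mul]
    · rw [h0' (i - a) (by omega), mul_zero]
  · rw [(lambdaOps hK he).lam_add, Finset.sum_eq_single n (fun a ha hne => ?_)
      (fun h => absurd (Finset.mem_range.mpr (by omega)) h), Nat.add_sub_cancel_left]
    · exact h1.mul h1'
    · rcases lt_or_ge n a with h | h
      · rw [h0 a h, zero_mul]
      · rw [h0' (n + n' - a) (by omega), mul_zero]

theorem good_of_mem_closure {x : AdjoinRoot (KRR.extPoly P e)}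
    (hx : x ∈ AddSubsemigroup.closure (posGen P e)) : Good hK he x := by
  induction hx using AddSubsemigroup.closure_induction with
  | mem y hy => exact good_of_mem hK he hy
  | add y z _ _ hy hz => exact good_add hK he hy hz

omit hK he in
theorem of_mem_posGen {f : K} (hf : f ∈ P.pos) (k : ℕ) :
    AdjoinRoot.of _ f * AdjoinRoot.root _ ^ k ∈ posGen P e :=
  ⟨f, hf, k, 0, Or.inl rfl, by simp⟩

/-- The positive structure on `K_e`. -/
noncomputable def posStr : @PosStructure _ _ (lambdaOps hK he) := by
  refine @PosStructure.mk _ _ (lambdaOps hK he) (augExt hK he) (fun n => ⟨n, by simp [augExt]⟩)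
    (AddSubsemigroup.closure (posGen P e)) (fun a b ha hb => AddMemClass.add_mem ha hb) ?_ ?_ ?_ ?_ ?_ ?_
  · intro a b ha hb
    induction ha using AddSubsemigroup.closure_induction with
    | mem y hy =>
      induction hb using AddSubsemigroup.closure_induction with
      | mem z hz =>
        obtain ⟨f, hf, k, j, hj, rfl⟩ := hy
        obtain ⟨f', hf', k', j', hj', rfl⟩ := hz
        refine AddSubsemigroup.subset_closure
          ⟨f * f', P.mul_mem f f' hf hf', k + k', j + j', by omega, ?_⟩
        rw [map_mul, pow_add, pow_add]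
        ring
      | add z z' _ _ h h' => rw [mul_add]; exact AddMemClass.add_mem h h'
    | add y y' _ _ h h' => rw [add_mul]; exact AddMemClass.add_mem h h'
  · intro n hn
    exact AddSubsemigroup.subset_closure (by
      simpa using of_mem_posGen (P := P) (e := e) (P.natCast_mem n hn) 0)
  · intro x
    have h1 : (1 : AdjoinRoot (KRR.extPoly P e)) ∈ AddSubsemigroup.closure (posGen P e) :=
      AddSubsemigroup.subset_closure (by
        simpa using of_mem_posGen (P := P) (e := e) (P.natCast_mem 1 one_pos) 0)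
    obtain ⟨q, rfl⟩ := AdjoinRoot.mk_surjective x
    induction q using Polynomial.induction_on' with
    | add p q hp hq =>
      obtain ⟨a, b, ha, hb, hp⟩ := hp
      obtain ⟨a', b', ha', hb', hq⟩ := hq
      exact ⟨a + a', b + b', AddMemClass.add_mem ha ha', AddMemClass.add_mem hb hb',
        by rw [map_add, hp, hq]; ring⟩
    | monomial i a =>
      obtain ⟨f, f', hf, hf', rfl⟩ := P.exists_sub a
      refine ⟨_, _, AddSubsemigroup.subset_closure (of_mem_posGen hf i),
        AddSubsemigroup.subset_closure (of_mem_posGen hf' i), ?_⟩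
      rw [← C_mul_X_pow_eq_monomial, map_mul, map_pow, AdjoinRoot.mk_C, AdjoinRoot.mk_X, map_sub,
        sub_mul]
  · intro a ha
    obtain ⟨n, hn, h, -, -⟩ := good_of_mem_closure hK he ha
    rw [h]
    exact_mod_cast hn
  · intro a ha i hi
    obtain ⟨n, -, h, h0, -⟩ := good_of_mem_closure hK he ha
    rw [h] at hi
    exact h0 i (by exact_mod_cast hi)
  · intro a ha
    obtain ⟨n, -, h, -, h1⟩ := good_of_mem_closure hK he ha
    rwa [h, Int.toNat_natCast]

theorem lam_of (i : ℕ) (x : K) :
    (lambdaOps hK he).lam i (AdjoinRoot.of _ x) = AdjoinRoot.of _ (LambdaOps.lam i x) := by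
  change PowerSeries.coeff i (Units.val (Additive.toMul (lamBar hK he _))) = _
  rw [← AdjoinRoot.mk_C, lamBar_mk, ← monomial_zero_left, Lam_monomial]
  simp [rescU, mapU, val_lamU, lamSeries, PowerSeries.coeff_rescale]

theorem exists_structure :
    ∃ (inst : LambdaOps (AdjoinRoot (KRR.extPoly P e))) (Pe : @PosStructure _ _ inst),
      (∀ (i : ℕ) (x : K), @LambdaOps.lam _ _ inst i (AdjoinRoot.of (KRR.extPoly P e) x) =
        AdjoinRoot.of (KRR.extPoly P e) (LambdaOps.lam i x)) ∧
      (∀ i : ℕ, 2 ≤ i → @LambdaOps.lam _ _ inst i (AdjoinRoot.root (KRR.extPoly P e)) = 0) ∧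
      @IsExtension K _ _ _ _ inst P Pe (AdjoinRoot.of (KRR.extPoly P e)) ∧
      @PosStructure.IsLine _ _ inst Pe (AdjoinRoot.root (KRR.extPoly P e)) ∧
      (2 ≤ P.aug e → AdjoinRoot.of (KRR.extPoly P e) e - AdjoinRoot.root (KRR.extPoly P e) ∈
        (@PosStructure.pos _ _ inst Pe)) := by
  letI := lambdaOps hK he
  have h1 : (1 : K) ∈ P.pos := by simpa using P.natCast_mem 1 one_pos
  have hroot : (posStr hK he).IsLine (AdjoinRoot.root (KRR.extPoly P e)) :=
    ⟨AddSubsemigroup.subset_closure (by simpa using of_mem_posGen (P := P) (e := e) h1 1),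
      by simp [posStr, augExt]⟩
  refine ⟨lambdaOps hK he, posStr hK he, lam_of hK he, fun i hi => line_lam hroot i hi,
    ⟨fun i x => (lam_of hK he i x).symm, of_injective hK he, fun x => by simp [posStr, augExt],
      fun f hf => AddSubsemigroup.subset_closure (by simpa using of_mem_posGen (P := P) (e := e) hf 0)⟩,
    hroot, fun hm => AddSubsemigroup.subset_closure ⟨1, h1, 0, 1, Or.inr hm, by simp⟩⟩

end Main

end Groth.Agent.KRRLam.ElemExt
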