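import Groth.Agent.KRRLam.ChC
import Groth.Agent.Lambda.Eigen
import Groth.Prelude.Def_KGr
import Mathlib.RingTheory.Localization.BaseChange
import Mathlib.GroupTheory.QuotientGroup.Defs
import Mathlib.RingTheory.MvPolynomial.Symmetric.NewtonIdentities

/-!
The Chern character with values in the associated graded ring of the γ-filtration.
-/

universe u

open Finset LambdaRing TensorProduct LaurentPolynomial

namespace Groth.Agent.KRRLam

open Groth.Agent.Lambda

variable {K : Type u} [CommRing K] [LambdaOps K] {P : PosStructure K}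

theorem mem_rees {n : ℕ} {x : K} (hx : x ∈ gammaFiltration P n) :
    (LaurentPolynomial.C x * T (-(n : ℤ)) : LaurentPolynomial K) ∈ KGr.rees P :=
  Subring.subset_closure (Set.mem_insert_of_mem _ ⟨n, x, hx, rfl⟩)

theorem coeff_rees {p : LaurentPolynomial K} (hp : p ∈ KGr.rees P) :
    ∀ a : ℤ, p.coeff a ∈ gammaFiltration P (-a).toNat := by
  classical
  induction hp using Subring.closure_induction with
  | mem p hp =>
    intro a
    rcases hp with rfl | ⟨n, x, hx, rfl⟩
    · rw [T_apply]
      split_ifs with h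
      · subst h; exact gammaFiltration_zero _
      · exact zero_mem _
    · rw [← single_eq_C_mul_T, AddMonoidAlgebra.coeff_single, Finsupp.single_apply]
      split_ifs with h
      · subst h; simpa using hx
      · exact zero_mem _
  | zero => intro a; simp
  | one =>
    intro a
    rw [← T_zero, T_apply]
    split_ifs with h
    · subst h; exact gammaFiltration_zero _
    · exact zero_mem _
  | add p q _ _ hp hq => intro a; rw [AddMonoidAlgebra.coeff_add]; exact add_mem (hp a) (hq a)
  | neg p _ hp => intro a; rw [AddMonoidAlgebra.coeff_neg]; exact neg_mem (hp a)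
  | mul p q _ _ hp hq =>
    intro a
    rw [AddMonoidAlgebra.coeff_mul]
    refine AddSubgroup.sum_mem _ fun m₁ _ => AddSubgroup.sum_mem _ fun m₂ _ => ?_
    dsimp only
    split_ifs with h
    · exact gammaFiltration_anti (by omega) (gammaFiltration_mul (hp m₁) (hq m₂))
    · exact zero_mem _

variable (P) in
/-- The canonical map from the Rees ring. -/
noncomputable def toGr : KGr.rees P →+* KGr.Gr P :=
  (Algebra.TensorProduct.includeRight (R := ℤ) (A := ℚ) (B := KGr.GrZ P)).toRingHom.comp
    (Ideal.Quotient.mk _)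

theorem grK_eq {n : ℕ} {x : K} (hx : x ∈ gammaFiltration P n) :
    KGr.grK P (n : ℤ) x = toGr P ⟨_, mem_rees hx⟩ := by
  have h : ∃ N : ℕ, 1 ≤ N ∧ LaurentPolynomial.C ((N : K) * x) * T (-(n : ℤ)) ∈ KGr.rees P :=
    ⟨1, le_rfl, by simpa using mem_rees hx⟩
  rw [KGr.grK, dif_pos h]
  have hmul : (⟨LaurentPolynomial.C (((h.choose : ℕ) : K) * x) * T (-(n : ℤ)), h.choose_spec.2⟩ :
      KGr.rees P) = h.choose • (⟨_, mem_rees hx⟩ : KGr.rees P) := by
    apply Subtype.ext
    simp [nsmul_eq_mul, mul_assoc]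
  rw [hmul, map_nsmul, tmul_smul, smul_tmul', nsmul_eq_mul, mul_one_div,
    div_self (by have := h.choose_spec.1; positivity)]
  rfl

theorem grK_succ {n : ℕ} {x : K} (hx : x ∈ gammaFiltration P (n + 1)) :
    KGr.grK P (n : ℤ) x = 0 := by
  rw [grK_eq (gammaFiltration_anti (Nat.le_succ n) hx), toGr, RingHom.comp_apply]
  have : Ideal.Quotient.mk (Ideal.span {KGr.tGen P})
      (⟨_, mem_rees (gammaFiltration_anti (Nat.le_succ n) hx)⟩ : KGr.rees P) = 0 := by
    rw [Ideal.Quotient.eq_zero_iff_mem, Ideal.mem_span_singleton]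
    refine ⟨⟨_, mem_rees hx⟩, Subtype.ext ?_⟩
    simp only [KGr.tGen, Subring.coe_mul, mul_left_comm _ (LaurentPolynomial.C x)]
    congr 1
    rw [← T_add]
    congr 1
    push_cast
    ring
  rw [this]
  exact map_zero _

theorem grK_add {n : ℕ} {x y : K} (hx : x ∈ gammaFiltration P n) (hy : y ∈ gammaFiltration P n) :
    KGr.grK P (n : ℤ) (x + y) = KGr.grK P (n : ℤ) x + KGr.grK P (n : ℤ) y := by
  rw [grK_eq hx, grK_eq hy, grK_eq (add_mem hx hy), ← map_add]
  congr 1
  exact Subtype.ext (by simp [add_mul])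

theorem grK_zero (n : ℕ) : KGr.grK P (n : ℤ) (0 : K) = 0 := grK_succ (zero_mem _)

theorem grK_congr {n : ℕ} {x y : K} (hy : y ∈ gammaFiltration P n)
    (h : x - y ∈ gammaFiltration P (n + 1)) : KGr.grK P (n : ℤ) x = KGr.grK P (n : ℤ) y := by
  have := grK_add (gammaFiltration_anti (Nat.le_succ n) h) hy
  rwa [sub_add_cancel, grK_succ h, zero_add] at this

theorem grK_mul {a b : ℕ} {x y : K} (hx : x ∈ gammaFiltration P a) (hy : y ∈ gammaFiltration P b) :
    KGr.grK P (a : ℤ) x * KGr.grK P (b : ℤ) y = KGr.grK P ((a + b : ℕ) : ℤ) (x * y) := by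
  rw [grK_eq hx, grK_eq hy, grK_eq (gammaFiltration_mul hx hy), ← map_mul]
  congr 1
  apply Subtype.ext
  simp only [Subring.coe_mul, map_mul]
  rw [mul_mul_mul_comm, ← T_add]
  congr 2
  push_cast
  ring

theorem grK_natCast_mul {n : ℕ} (N : ℕ) {x : K} (hx : x ∈ gammaFiltration P n) :
    KGr.grK P (n : ℤ) ((N : K) * x) = (N : ℚ) • KGr.grK P (n : ℤ) x := by
  rw [grK_eq hx, grK_eq (gammaFiltration_mul_mem _ hx), Nat.cast_smul_eq_nsmul, ← map_nsmul]
  congr 1
  exact Subtype.ext (by simp [nsmul_eq_mul, mul_assoc])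

theorem grK_intCast (m : ℤ) : KGr.grK P ((0 : ℕ) : ℤ) (m : K) = algebraMap ℚ (KGr.Gr P) (m : ℚ) := by
  have h : (⟨_, mem_rees (P := P) (gammaFiltration_zero (m : K))⟩ : KGr.rees P) = (m : KGr.rees P) :=
    Subtype.ext (by simp)
  rw [grK_eq (gammaFiltration_zero _), h, map_intCast, map_intCast]

theorem N_scale {R : Type*} [CommRing R] (e : ℕ → R) (t : R) (he : e 0 = 1) {k : ℕ} (hk : 1 ≤ k) :
    N (fun i => e i * t ^ i) k = N e k * t ^ k := by
  refine N_eq_of_derivative (p := fun j => N e j * t ^ j) (by simp [he]) ?_ hk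
  have hs : ser (fun i => e i * t ^ i) = PowerSeries.rescale t (ser e) := by
    ext n; simp [ser, PowerSeries.coeff_rescale, mul_comm]
  have hD : D (fun j => N e j * t ^ j) = t • PowerSeries.rescale t (D (N e)) := by
    ext n
    simp only [D, PowerSeries.coeff_smul, PowerSeries.coeff_rescale, PowerSeries.coeff_mk,
      smul_eq_mul]
    ring
  have hres : ∀ φ : PowerSeries R, PowerSeries.derivative R (PowerSeries.rescale t φ) =
      t • PowerSeries.rescale t (PowerSeries.derivative R φ) := fun φ => by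
    ext n
    simp only [PowerSeries.coeff_derivative, PowerSeries.coeff_rescale, PowerSeries.coeff_smul,
      smul_eq_mul, pow_succ]
    ring
  rw [hs, hD, hres, derivative_ser he, map_mul, mul_smul_comm]

theorem grK_chC {k : ℕ} (hk : 1 ≤ k) (x : K) :
    KGr.grK P (k : ℤ) (chC P k x) =
      N (fun i => if i = 0 then 1 else KGr.chern P i x) k := by
  set z := x - (P.aug x : K)
  have hz : ∀ i, gamma i z ∈ gammaFiltration P i := fun i => by
    simpa using prod_gamma_mem (P := P) (n := i) [(i, z)] (by simp [z]) (by simp)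
  let e : ℕ → KGr.rees P := fun i => ⟨_, mem_rees (hz i)⟩
  have he0 : e 0 = 1 := by
    apply Subtype.ext
    simp [e, gamma_zero]
  have hN : N e k = ⟨_, mem_rees (chC_mem (P := P) k x)⟩ := by
    apply Subtype.ext
    change (KGr.rees P).subtype (N e k) = _
    rw [map_N]
    have hfun : (fun i => (KGr.rees P).subtype (e i)) =
        fun i => LaurentPolynomial.C (gamma i z) * T (-1) ^ i := funext fun i => by
      simp [e]
    rw [hfun, N_scale (fun i => LaurentPolynomial.C (gamma i z)) _ (by simp [gamma_zero]) hk,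
      ← map_N, T_pow]
    simp only [chC_of_pos P hk]
    congr 2
    ring
  rw [grK_eq (chC_mem (P := P) k x), ← hN]
  refine (map_N (S := KGr.Gr P) (toGr P) e k).trans (N_congr ?_ ?_ k fun j hj _ => ?_)
  · rw [he0, map_one]
  · exact if_pos rfl
  rw [if_neg (by omega), KGr.chern, grK_eq (hz j)]

variable (P) in
theorem chK_eq (d : ℕ) (x : K) : KGr.chK P d x =
    ∑ k ∈ range (d + 1), ((1 : ℚ) / (Nat.factorial k : ℚ)) • KGr.grK P (k : ℤ) (chC P k x) := by
  let Q : MvPolynomial (Fin d) ℚ := MvPolynomial.C (d : ℚ) + ∑ k ∈ range d,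
    MvPolynomial.C ((1 : ℚ) / (Nat.factorial (k + 1) : ℚ)) *
      N (ext fun i : Fin d => MvPolynomial.X i) (k + 1)
  have hQ : KGr.chPoly d = Q := by
    apply aeval_esymm_injective ℚ d
    have h1 : MvPolynomial.aeval (fun i : Fin d => MvPolynomial.esymm (Fin d) ℚ (i.1 + 1))
        (KGr.chPoly d) = ∑ i : Fin d, Polynomial.aeval (MvPolynomial.X i) (KGr.expTrunc d) := by
      rw [KGr.chPoly, ← MvPolynomial.esymmAlgHom_apply]
      exact congrArg Subtype.val (AlgEquiv.apply_symm_apply
        (MvPolynomial.esymmAlgEquiv (Fin d) ℚ (Fintype.card_fin d)) _)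
    rw [h1]
    simp only [Q, KGr.expTrunc, map_sum, map_mul, Polynomial.aeval_C, map_pow, Polynomial.aeval_X,
      map_add, MvPolynomial.aeval_C, MvPolynomial.algebraMap_eq]
    rw [Finset.sum_comm, Finset.sum_range_succ', add_comm]
    congr 1
    · simp
    · refine Finset.sum_congr rfl fun k hk => ?_
      have hk' := Finset.mem_range.mp hk
      rw [← Finset.mul_sum, show ∑ i : Fin d, (MvPolynomial.X i : MvPolynomial (Fin d) ℚ) ^ (k + 1) =
        MvPolynomial.psum (Fin d) ℚ (k + 1) from rfl]
      congr 1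
      change _ = (MvPolynomial.aeval
        fun i : Fin d => MvPolynomial.esymm (Fin d) ℚ (i.1 + 1)).toRingHom (N (ext fun i : Fin d => (MvPolynomial.X i : MvPolynomial (Fin d) ℚ)) (k + 1))
      rw [map_N]
      refine Eq.trans ?_ (N_congr (e := fun j =>
        ((univ : Finset (Fin d)).val.map (MvPolynomial.X : Fin d → MvPolynomial (Fin d) ℚ)).esymm j)
        (esymm_zero' _) (by simp [ext_zero]) (k + 1) fun j hj hj' => ?_)
      · rw [N_esymm_map _ _ (Nat.le_add_left 1 k)]
        rfl
      · rw [ext_eq _ hj (by omega)]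
        change _ = MvPolynomial.aeval _ (MvPolynomial.X _)
        rw [MvPolynomial.aeval_X, MvPolynomial.esymm_eq_multiset_esymm]
        congr 1
        first | omega | exact (Nat.sub_add_cancel hj).symm | exact Nat.sub_add_cancel hj
  rw [KGr.chK, hQ]
  simp only [Q, map_add, MvPolynomial.aeval_C, map_sum, map_mul]
  rw [Finset.sum_range_succ', Nat.factorial_zero, Nat.cast_one, div_one, one_smul, chC_zero,
    grK_intCast, map_sub, ← add_assoc, sub_add_cancel, add_comm]
  congr 1
  refine Finset.sum_congr rfl fun k hk => ?_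
  have hk' := Finset.mem_range.mp hk
  refine Eq.trans ?_ (Algebra.smul_def (R := ℚ) (A := KGr.Gr P) _ _).symm
  rw [grK_chC (Nat.le_add_left 1 k)]
  congr 1
  refine (map_N (R := MvPolynomial (Fin d) ℚ) (S := KGr.Gr P)
      (MvPolynomial.aeval (R := ℚ) fun i : Fin d => KGr.chern P (i.1 + 1) x).toRingHom _ _).trans
    (N_congr ?_ ?_ (k + 1) fun j hj hj' => ?_)
  · rw [ext_zero, map_one]
  · exact if_pos rfl
  rw [ext_eq _ hj (by omega), if_neg (by omega)]
  change MvPolynomial.aeval _ (MvPolynomial.X _) = _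
  rw [MvPolynomial.aeval_X]
  congr 1
  dsimp only
  omega

theorem chK_add (d : ℕ) (x y : K) : KGr.chK P d (x + y) = KGr.chK P d x + KGr.chK P d y := by
  simp only [chK_eq, chC_add, grK_add (chC_mem _ x) (chC_mem _ y), smul_add,
    Finset.sum_add_distrib]

theorem chK_mul (hK : HasSplitting K P) {d : ℕ} (hd : gammaFiltration P (d + 1) = ⊥) (x y : K) :
    KGr.chK P d (x * y) = KGr.chK P d x * KGr.chK P d y := by
  simp only [chK_eq, Finset.sum_mul_sum]
  have hleft : ∀ k, ((1 : ℚ) / (Nat.factorial k : ℚ)) • KGr.grK P (k : ℤ) (chC P k (x * y)) =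
      ∑ p ∈ antidiagonal k, (((1 : ℚ) / (Nat.factorial p.1 : ℚ)) • KGr.grK P (p.1 : ℤ) (chC P p.1 x)) *
        (((1 : ℚ) / (Nat.factorial p.2 : ℚ)) • KGr.grK P (p.2 : ℤ) (chC P p.2 y)) := by
    intro k
    have hmem : ∀ s ∈ range (k + 1), (k.choose s : K) * (chC P s x * chC P (k - s) y) ∈
        gammaFiltration P k := fun s hs => by
      simp only [Finset.mem_range] at hs
      exact gammaFiltration_mul_mem _ (gammaFiltration_anti (show k ≤ s + (k - s) by omega)
        (gammaFiltration_mul (chC_mem _ _) (chC_mem _ _)))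
    have hsub : chC P k (x * y) - ∑ s ∈ range (k + 1),
        (k.choose s : K) * (chC P s x * chC P (k - s) y) ∈ gammaFiltration P (k + 1) := by
      rw [chC_mul hK, Finset.sum_range_succ']
      simp only [Nat.choose_zero_right, Nat.sub_zero, zero_add, one_mul, add_sub_cancel_right]
      refine sum_mem fun l hl => sum_mem fun s hs => gammaFiltration_mul_mem _ ?_
      simp only [Finset.mem_range] at hl hs
      exact gammaFiltration_anti (show k + 1 ≤ l + 1 + s + (k - s) by omega)
        (gammaFiltration_mul (chC_mem _ _) (chC_mem _ _))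
    rw [grK_congr (sum_mem hmem) hsub, Finset.Nat.sum_antidiagonal_eq_sum_range_succ_mk]
    have hsum : ∀ t ⊆ range (k + 1), KGr.grK P (k : ℤ)
        (∑ s ∈ t, (k.choose s : K) * (chC P s x * chC P (k - s) y)) =
        ∑ s ∈ t, KGr.grK P (k : ℤ) ((k.choose s : K) * (chC P s x * chC P (k - s) y)) := by
      intro t ht
      induction t using Finset.induction with
      | empty => simpa using grK_zero k
      | insert a t ha ih =>
        rw [Finset.sum_insert ha, Finset.sum_insert ha,
          grK_add (hmem a (ht (Finset.mem_insert_self a t)))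
            (sum_mem fun s hs => hmem s (ht (Finset.mem_insert_of_mem hs))),
          ih ((Finset.subset_insert a t).trans ht)]
    rw [hsum _ Finset.Subset.rfl, Finset.smul_sum]
    refine Finset.sum_congr rfl fun s hs => ?_
    simp only [Finset.mem_range] at hs
    rw [smul_mul_smul_comm, grK_mul (chC_mem _ _) (chC_mem _ _), show s + (k - s) = k by omega,
      grK_natCast_mul _ (gammaFiltration_anti (show k ≤ s + (k - s) by omega)
        (gammaFiltration_mul (chC_mem _ _) (chC_mem _ _))), smul_smul]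
    congr 1
    have := Nat.choose_mul_factorial_mul_factorial (show s ≤ k by omega)
    field_simp
    rw [← this]
    push_cast
    ring
  simp only [hleft]
  rw [Finset.sum_sigma', ← Finset.sum_product']
  refine Finset.sum_bij_ne_zero (fun p _ _ => p.2) ?_ ?_ ?_ ?_
  · intro p hp _
    simp only [Finset.mem_sigma, Finset.mem_range, Finset.mem_antidiagonal] at hp
    simp only [Finset.mem_product, Finset.mem_range]
    omega
  · rintro ⟨k, p⟩ hp _ ⟨k', p'⟩ hp' _ h
    simp only [Finset.mem_sigma, Finset.mem_antidiagonal] at hp hp'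
    simp only at h
    subst h
    obtain rfl : k = k' := hp.2.symm.trans hp'.2
    rfl
  · intro q hq hne
    by_cases h : q.1 + q.2 ≤ d
    · refine ⟨⟨q.1 + q.2, q⟩, ?_, hne, rfl⟩
      simp only [Finset.mem_sigma, Finset.mem_range, Finset.mem_antidiagonal]
      exact ⟨by omega, trivial⟩
    · exfalso
      refine hne ?_
      rw [smul_mul_smul_comm, grK_mul (chC_mem _ _) (chC_mem _ _)]
      have h0 : chC P q.1 x * chC P q.2 y = 0 := by
        have := gammaFiltration_anti (show d + 1 ≤ q.1 + q.2 by omega)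
          (gammaFiltration_mul (chC_mem (P := P) q.1 x) (chC_mem (P := P) q.2 y))
        rwa [hd, AddSubgroup.mem_bot] at this
      rw [h0, grK_zero, smul_zero]
  · intro p _ _
    rfl

theorem chK_one (d : ℕ) : KGr.chK P d (1 : K) = 1 := by
  rw [chK_eq, Finset.sum_range_succ', Finset.sum_eq_zero fun k _ => ?_, zero_add, chC_zero,
    grK_intCast, Nat.factorial_zero, Nat.cast_one, div_one, one_smul, map_one]
  · simp [Algebra.TensorProduct.one_def]
  · rw [chC_line (isLine_one P), sub_self, zero_pow (Nat.succ_ne_zero k), grK_zero, smul_zero]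

section Bijective

variable (P) in
/-- The coefficient in degree `n`. -/
noncomputable def piRees (n : ℕ) : KGr.rees P →+ K ⧸ gammaFiltration P (n + 1) :=
  (QuotientAddGroup.mk' _).comp
    { toFun := fun p => p.1.coeff (-(n : ℤ))
      map_zero' := by simp
      map_add' := fun p q => by simp }

variable (P) in
/-- The coefficient in degree `n`, on the graded ring. -/
noncomputable def piGrZ (n : ℕ) : KGr.GrZ P →+ K ⧸ gammaFiltration P (n + 1) :=
  QuotientAddGroup.lift (Ideal.span {KGr.tGen P}).toAddSubgroup (piRees P n) (by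
    intro p hp
    rw [Submodule.mem_toAddSubgroup, Ideal.mem_span_singleton] at hp
    obtain ⟨q, rfl⟩ := hp
    rw [AddMonoidHom.mem_ker]
    refine (QuotientAddGroup.eq_zero_iff _).mpr ?_
    change ((T 1 : LaurentPolynomial K) * q.1).coeff (-(n : ℤ)) ∈ _
    rw [T, AddMonoidAlgebra.coeff_single_mul_eq_mul_coeff (m₂ := -(n : ℤ) - 1)
      (fun m _ => by omega), one_mul]
    have := coeff_rees q.2 (-(n : ℤ) - 1)
    rwa [show (-(-(n : ℤ) - 1)).toNat = n + 1 by omega] at this)

variable (P) in
/-- The coefficient in degree `n`, on the rational graded ring. -/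
noncomputable def piGr (n : ℕ) : KGr.Gr P →ₗ[ℚ] ℚ ⊗[ℤ] (K ⧸ gammaFiltration P (n + 1)) :=
  (piGrZ P n).toIntLinearMap.baseChange ℚ

theorem piGr_grK (n k : ℕ) {a : K} (ha : a ∈ gammaFiltration P k) :
    piGr P n (KGr.grK P (k : ℤ) a) =
      if k = n then (1 : ℚ) ⊗ₜ[ℤ] (a : K ⧸ gammaFiltration P (n + 1)) else 0 := by
  rw [grK_eq ha, toGr, piGr]
  change (piGrZ P n).toIntLinearMap.baseChange ℚ ((1 : ℚ) ⊗ₜ[ℤ] _) = _
  rw [LinearMap.baseChange_tmul]
  change (1 : ℚ) ⊗ₜ[ℤ] ((((LaurentPolynomial.C a * T (-(k : ℤ)) : LaurentPolynomial K).coeff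
    (-(n : ℤ)) : K)) : K ⧸ gammaFiltration P (n + 1)) = _
  rw [← single_eq_C_mul_T, AddMonoidAlgebra.coeff_single, Finsupp.single_apply]
  by_cases h : k = n
  · subst h; simp
  · rw [if_neg h, if_neg (by omega), QuotientAddGroup.mk_zero, tmul_zero]

theorem exists_nat_smul_eq_zero {M : Type*} [AddCommGroup M] {m : M}
    (h : (1 : ℚ) ⊗ₜ[ℤ] m = 0) : ∃ N : ℕ, 1 ≤ N ∧ N • m = 0 := by
  have hloc : IsLocalizedModule (nonZeroDivisors ℤ) (TensorProduct.mk ℤ ℚ M 1) :=
    (isLocalizedModule_iff_isBaseChange (nonZeroDivisors ℤ) ℚ _).mpr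
      (TensorProduct.isBaseChange ℤ M ℚ)
  obtain ⟨c, hc⟩ := (IsLocalizedModule.eq_zero_iff (nonZeroDivisors ℤ)
    (TensorProduct.mk ℤ ℚ M 1)).mp h
  have hc0 : (c : ℤ) ≠ 0 := nonZeroDivisors.coe_ne_zero c
  refine ⟨(c : ℤ).natAbs, Int.natAbs_pos.mpr hc0, ?_⟩
  rw [Submonoid.smul_def] at hc
  rw [← natCast_zsmul]
  rcases Int.natAbs_eq (c : ℤ) with hp | hp
  · rwa [← hp]
  · rw [show ((c : ℤ).natAbs : ℤ) = -(c : ℤ) by omega, neg_smul, hc, neg_zero]

variable (P) in
/-- The Chern character, rationally. -/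
noncomputable def chLin (d : ℕ) : ℚ ⊗[ℤ] K →ₗ[ℚ] KGr.Gr P :=
  (AddMonoidHom.mk' (KGr.chK P d) (chK_add d)).toIntLinearMap.liftBaseChange ℚ

theorem chLin_tmul (d : ℕ) (x : K) : chLin P d ((1 : ℚ) ⊗ₜ[ℤ] x) = KGr.chK P d x := by
  simp [chLin]

theorem chLin_bijective (hK : HasSplitting K P) {d : ℕ} (hd : gammaFiltration P (d + 1) = ⊥) :
    Function.Bijective (chLin P d) := by
  have hexp : ∀ {n : ℕ} {x : K}, x ∈ gammaFiltration P n → n ≤ d →
      KGr.chK P d x = KGr.grK P (n : ℤ) x + ∑ k ∈ Ico (n + 1) (d + 1),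
        ((1 : ℚ) / (Nat.factorial k : ℚ)) • KGr.grK P (k : ℤ) (chC P k x) := by
    intro n x hx hn
    have hg := good_of_mem hK hx
    rw [chK_eq, Finset.range_eq_Ico, ← Finset.sum_Ico_consecutive _ (Nat.zero_le n) (by omega),
      Finset.sum_eq_zero, zero_add, Finset.sum_eq_sum_Ico_succ_bot (by omega)]
    · congr 1
      have h := hg.2 n le_rfl
      rw [if_pos rfl] at h
      rw [grK_congr (gammaFiltration_mul_mem _ hx) h, grK_natCast_mul _ hx, smul_smul,
        one_div_mul_cancel (by positivity), one_smul]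
    · intro k hk
      rw [Finset.mem_Ico] at hk
      rw [grK_succ (hg.mem_succ hk.2), smul_zero]
  constructor
  · rw [injective_iff_map_eq_zero]
    intro z hz
    obtain ⟨q, x, rfl⟩ : ∃ (q : ℚ) (x : K), z = q • ((1 : ℚ) ⊗ₜ[ℤ] x) := by
      clear hz
      induction z using TensorProduct.induction_on with
      | zero => exact ⟨0, 0, by simp⟩
      | tmul q x => exact ⟨q, x, by rw [smul_tmul', smul_eq_mul, mul_one]⟩
      | add a b ha hb =>
        obtain ⟨q, x, rfl⟩ := ha
        obtain ⟨r, y, rfl⟩ := hb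
        refine ⟨1 / ((q.den : ℚ) * r.den), (q.num * r.den) • x + (r.num * q.den) • y, ?_⟩
        rw [tmul_add, tmul_smul, tmul_smul, smul_add, ← Int.cast_smul_eq_zsmul ℚ,
          ← Int.cast_smul_eq_zsmul ℚ (r.num * q.den), smul_smul, smul_smul]
        push_cast
        congr 2
        · conv_lhs => rw [← q.num_div_den]
          field_simp
        · conv_lhs => rw [← r.num_div_den]
          field_simp
    rcases eq_or_ne q 0 with rfl | hq
    · simp
    rw [map_smul, chLin_tmul] at hz
    have hx : KGr.chK P d x = 0 := (smul_eq_zero_iff_right hq).mp hz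
    have key : ∀ n ≤ d + 1, ∃ M : ℕ, 1 ≤ M ∧ (M : K) * x ∈ gammaFiltration P n := by
      intro n
      induction n with
      | zero => exact fun _ => ⟨1, le_rfl, gammaFiltration_zero _⟩
      | succ n ih =>
        intro hn
        obtain ⟨M, hM, hMx⟩ := ih (by omega)
        have h0 : KGr.chK P d ((M : K) * x) = 0 := by
          rw [← nsmul_eq_mul]
          change AddMonoidHom.mk' (KGr.chK P d) (chK_add d) (M • x) = 0
          rw [map_nsmul]
          change M • KGr.chK P d x = 0
          rw [hx, smul_zero]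
        have h1 := congrArg (piGr P n) (hexp hMx (by omega))
        rw [h0, map_zero, map_add, piGr_grK n n hMx, if_pos rfl, map_sum, Finset.sum_eq_zero,
          add_zero] at h1
        · obtain ⟨N, hN, hNx⟩ := exists_nat_smul_eq_zero h1.symm
          refine ⟨N * M, Nat.mul_pos hN hM, ?_⟩
          rw [← QuotientAddGroup.mk_nsmul, QuotientAddGroup.eq_zero_iff] at hNx
          rwa [Nat.cast_mul, mul_assoc, ← nsmul_eq_mul]
        · intro k hk
          rw [Finset.mem_Ico] at hk
          rw [map_smul, piGr_grK n k (chC_mem _ _), if_neg (by omega), smul_zero]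
    obtain ⟨M, hM, hMx⟩ := key (d + 1) le_rfl
    rw [hd, AddSubgroup.mem_bot] at hMx
    have h2 : (1 : ℚ) ⊗ₜ[ℤ] x = 0 := by
      have := congrArg (fun y => (1 / (M : ℚ)) • ((1 : ℚ) ⊗ₜ[ℤ] y)) hMx
      simp only [one_tmul_natCast_mul, smul_smul, tmul_zero, smul_zero] at this
      rwa [one_div_mul_cancel (by positivity), one_smul] at this
    rw [h2, smul_zero]
  · rw [← LinearMap.range_eq_top, eq_top_iff]
    have hcl : ∀ j n : ℕ, d + 1 - n = j → ∀ a ∈ gammaFiltration P n,
        KGr.grK P (n : ℤ) a ∈ LinearMap.range (chLin P d) := by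
      intro j
      induction j using Nat.strong_induction_on with
      | _ j ih =>
        intro n hj a ha
        rcases lt_or_ge d n with h | h
        · have := gammaFiltration_anti (show d + 1 ≤ n by omega) ha
          rw [hd, AddSubgroup.mem_bot] at this
          rw [this, grK_zero]
          exact zero_mem _
        · rw [show KGr.grK P (n : ℤ) a = KGr.chK P d a - ∑ k ∈ Ico (n + 1) (d + 1),
            ((1 : ℚ) / (Nat.factorial k : ℚ)) • KGr.grK P (k : ℤ) (chC P k a) by
              rw [hexp ha h, add_sub_cancel_right]]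
          refine sub_mem ⟨_, chLin_tmul d a⟩ (sum_mem fun k hk => Submodule.smul_mem _ _ ?_)
          rw [Finset.mem_Ico] at hk
          exact ih (d + 1 - k) (by omega) k rfl _ (chC_mem _ _)
    intro z _
    induction z using TensorProduct.induction_on with
    | zero => exact zero_mem _
    | add a b ha hb => exact add_mem (ha trivial) (hb trivial)
    | tmul q g =>
      rw [show q ⊗ₜ[ℤ] g = q • ((1 : ℚ) ⊗ₜ[ℤ] g) by rw [smul_tmul', smul_eq_mul, mul_one]]
      refine Submodule.smul_mem _ _ ?_
      obtain ⟨p, rfl⟩ := Ideal.Quotient.mk_surjective g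
      change toGr P p ∈ _
      have hmem : ∀ (m : ℤ) (c : K), c ∈ gammaFiltration P (-m).toNat →
          (AddMonoidAlgebra.single m c : LaurentPolynomial K) ∈ KGr.rees P := by
        intro m c hc
        rw [single_eq_C_mul_T]
        rcases le_or_gt m 0 with hm | hm
        · have := mem_rees hc
          rwa [show (-(((-m).toNat : ℕ) : ℤ)) = m by omega] at this
        · have := mul_mem (mem_rees (n := 0) (gammaFiltration_zero (P := P) c))
            (pow_mem (KGr.tGen P).2 m.toNat)
          simp only [KGr.tGen, Nat.cast_zero, neg_zero, T_zero, mul_one, T_pow] at this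
          rwa [show ((m.toNat : ℕ) : ℤ) = m by omega] at this
      have hsum : p = ∑ m ∈ p.1.coeff.support,
          (⟨AddMonoidAlgebra.single m (p.1.coeff m), hmem m _ (coeff_rees p.2 m)⟩ : KGr.rees P) := by
        apply Subtype.ext
        rw [AddSubmonoidClass.coe_finsetSum]
        refine LaurentPolynomial.ext fun a => ?_
        rw [AddMonoidAlgebra.coeff_sum, Finset.sum_apply']
        simp only [AddMonoidAlgebra.coeff_single, Finsupp.single_apply, Finset.sum_ite_eq']
        split_ifs with h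
        · rfl
        · simpa using h
      rw [hsum, map_sum]
      refine sum_mem fun m _ => ?_
      rcases le_or_gt m 0 with hm | hm
      · obtain ⟨n, rfl⟩ : ∃ n : ℕ, m = -(n : ℤ) := ⟨(-m).toNat, by omega⟩
        have hc := coeff_rees p.2 (-(n : ℤ))
        rw [neg_neg, Int.toNat_natCast] at hc
        have heq : (⟨AddMonoidAlgebra.single (-(n : ℤ)) (p.1.coeff (-(n : ℤ))),
            hmem _ _ (coeff_rees p.2 _)⟩ : KGr.rees P) = ⟨_, mem_rees hc⟩ :=
          Subtype.ext (single_eq_C_mul_T _ _)
        rw [heq, ← grK_eq hc]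
        exact hcl _ n rfl _ hc
      · have hz : toGr P ⟨AddMonoidAlgebra.single m (p.1.coeff m), hmem m _ (coeff_rees p.2 m)⟩ = 0 := by
          rw [toGr, RingHom.comp_apply, Ideal.Quotient.eq_zero_iff_mem.mpr, map_zero]
          rw [Ideal.mem_span_singleton]
          refine ⟨⟨AddMonoidAlgebra.single (m - 1) (p.1.coeff m), hmem _ _ ?_⟩, Subtype.ext ?_⟩
          · rw [show (-(m - 1)).toNat = 0 by omega]
            exact gammaFiltration_zero _
          · simp only [KGr.tGen, Subring.coe_mul, T, AddMonoidAlgebra.single_mul_single, one_mul]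
            rw [add_sub_cancel]
        rw [hz]
        exact zero_mem _

end Bijective

end Groth.Agent.KRRLam
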